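import Cfsg.Agent.Lib.TwoTransA4.Cases
import Cfsg.Agent.Lib.IsolatedInvolution.Basic
import Cfsg.Agent.Lib.IsolatedInvolution.InvariantSylow

/-!
# Three class members swap a pair and the degree is odd: an isolated involution
-/

set_option autoImplicit false
set_option linter.unusedSectionVars false

namespace Cfsg.Agent.Lib.TwoTransA4

open MulAction
open Cfsg.Agent.Lib.ConstFix25 (fx mul_self_of_orderOf ne_one_of_orderOf orderOf_of_isConj fx_conj)

/-- The centraliser of an isolated involution covers the group modulo the odd core. -/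
theorem sup_eq_top_of_isolated {G : Type*} [Group G] [Finite G] {z : G}
    (hz : Cfsg.IsIsolatedInvolution z) :
    Subgroup.centralizer ({z} : Set G) ⊔ Cfsg.oddCore G = ⊤ := by
  refine eq_top_iff.2 fun g _ => ?_
  have hzz : z * z = 1 := mul_self_of_orderOf hz.1
  have hzi : z⁻¹ = z := inv_eq_of_mul_eq_one_right hzz
  have htt : (g * z * g⁻¹) * (g * z * g⁻¹) = 1 := by
    rw [show g * z * g⁻¹ * (g * z * g⁻¹) = g * (z * z) * g⁻¹ by group, hzz]; group
  have hodd := IsolatedInvolution.Basic.odd_orderOf_mul hz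
    (isConj_iff.2 ⟨g, rfl⟩ : IsConj z (g * z * g⁻¹)) (IsConj.refl z)
  have hmem : g * z * g⁻¹ * z ∈ Cfsg.oddCore G := by
    have h := (Cfsg.oddCore G).inv_mem (IsolatedInvolution.InvariantSylow.commutator_mem hz g)
    rwa [show (z * g * z⁻¹ * g⁻¹)⁻¹ = g * z * g⁻¹ * z⁻¹ by group, hzi] at h
  set k := IsolatedInvolution.Basic.half (g * z * g⁻¹) z with hk
  have hkO : k ∈ Cfsg.oddCore G :=
    (Subgroup.zpowers_le.2 hmem) (IsolatedInvolution.Basic.half_mem_zpowers _ _)
  have hconj : k * z * k⁻¹ = g * z * g⁻¹ := IsolatedInvolution.Basic.half_conj htt hzz hodd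
  have hc : k⁻¹ * g ∈ Subgroup.centralizer ({z} : Set G) := by
    refine Subgroup.mem_centralizer_singleton_iff.2 ?_
    calc k⁻¹ * g * z = k⁻¹ * (g * z * g⁻¹) * g := by group
      _ = z * (k⁻¹ * g) := by rw [← hconj]; group
  rw [show g = k * (k⁻¹ * g) by group]
  exact mul_mem (Subgroup.mem_sup_right hkO) (Subgroup.mem_sup_left hc)

variable {G Ω : Type*} [Group G] [MulAction G Ω]

namespace Data

variable {a b : Ω} (D : Data G Ω a b)
include D

/-- Outside the class an involution fixes at most one point, exactly one in odd degree. -/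
theorem fx_outside [Finite Ω] {t u : G} (ht : InvH a b t) (hu : orderOf u = 2)
    (hnot : ¬ IsConj t u) : fx Ω u ≤ 1 ∧ (Odd (Nat.card Ω) → fx Ω u = 1) ∧
      (Even (Nat.card Ω) → fx Ω u = 0) := by
  haveI := D.faithful
  have hle : fx Ω u ≤ 1 := by
    by_contra h
    exact hnot ((D.base ht).mem_class_iff.2 ⟨hu, by omega⟩)
  have hev := even_moved (Ω := Ω) hu
  haveI : Nonempty Ω := ⟨a⟩
  have hn : 0 < Nat.card Ω := Nat.card_pos
  refine ⟨hle, fun h => ?_, fun h => ?_⟩
  · by_contra h1
    rw [show fx Ω u = 0 by omega, Nat.sub_zero] at hev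
    exact Nat.not_even_iff_odd.2 h hev
  · by_contra h1
    rw [show fx Ω u = 1 by omega] at hev
    obtain ⟨x, hx⟩ := h
    obtain ⟨y, hy⟩ := hev
    omega

/-- Outside the class there is exactly one involution swapping a pair. -/
theorem card_swap_outside [Finite G] [Finite Ω] {t j : G} (ht : InvH a b t) (hj : CaseA a b j)
    (hc : swapNum a b t = 3) (hjt : ¬ IsConj t j) :
    Nat.card {u : G // IsConj j u ∧ u • a = b} = 1 := by
  refine Nat.card_eq_one_iff_exists.2 ⟨⟨j, IsConj.refl j, hj.1.2⟩, ?_⟩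
  rintro ⟨u, hu, hua⟩
  refine Subtype.ext (by_contra fun hne => ?_)
  have hu2 : orderOf u = 2 := (orderOf_of_isConj hu).trans (hj.1.orderOf D.ne)
  -- the three class members swapping the pair are all `j v`
  have hall : ∀ w : G, Sw a b w → w ≠ j → IsConj t w := by
    classical
    intro w hw hwj
    by_contra hwt
    have hset : {v : G | IsConj t v ∧ v • a = b} ⊆ {v : G | Sw a b v} \ {j, w} := by
      intro v hv
      refine ⟨D.swap_sub ht hv, ?_⟩
      rintro (rfl | rfl)
      · exact hjt hv.1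
      · exact hwt hv.1
    have hsw : Set.ncard {v : G | Sw a b v} ≤ 4 := by
      have : {v : G | Sw a b v} ⊆ (j * ·) '' ({1} ∪ {k : G | InvH a b k}) := by
        intro v hv
        obtain ⟨k, hka, hkb, hk, rfl⟩ := D.caseA_swap hj hv
        refine ⟨k, ?_, rfl⟩
        by_cases h1 : k = 1
        · exact Or.inl h1
        · exact Or.inr ⟨hk, h1, hka, hkb⟩
      refine (Set.ncard_le_ncard this (Set.toFinite _)).trans
        ((Set.ncard_image_le (Set.toFinite _)).trans ((Set.ncard_union_le _ _).trans ?_))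
      have h3 : Set.ncard {k : G | InvH a b k} = 3 := by
        rw [← D.pairNum_eq, pairNum, ← Nat.card_coe_set_eq]
        exact Nat.card_congr (Equiv.subtypeEquivRight fun u =>
          ⟨fun h => ⟨h.orderOf, h.2.2⟩,
            fun h => ⟨mul_self_of_orderOf h.1, ne_one_of_orderOf h.1, h.2⟩⟩)
      rw [Set.ncard_singleton, h3]
    have h2 := Set.ncard_le_ncard hset (Set.toFinite _)
    have hpair : ({j, w} : Set G) ⊆ {v : G | Sw a b v} := by
      rintro v (rfl | rfl)
      · exact hj.1
      · exact hw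
    rw [Set.ncard_diff hpair (Set.toFinite _), Set.ncard_pair (Ne.symm hwj),
      ← Nat.card_coe_set_eq, show Nat.card ↥{v : G | IsConj t v ∧ v • a = b} = 3 from hc] at h2
    omega
  exact hjt ((hall u ⟨mul_self_of_orderOf hu2, hua⟩ hne).trans hu.symm)

/-- In odd degree `j` is isolated. -/
theorem isolated_of_three [Finite G] [Finite Ω] {t j : G} (ht : InvH a b t) (hj : CaseA a b j)
    (hc : swapNum a b t = 3) (hjt : ¬ IsConj t j) (hodd : Odd (Nat.card Ω)) :
    Cfsg.IsIsolatedInvolution j := by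
  have hk : ∀ u : G, IsConj j u → fx Ω u = 1 := fun u hu =>
    (D.fx_outside ht ((orderOf_of_isConj hu).trans (hj.1.orderOf D.ne))
      (fun h => hjt (h.trans hu.symm))).2.1 hodd
  exact ⟨hj.1.orderOf D.ne, fun g hg => (eq_of_commute (conjClosed_isConj j) D.two D.ne hk
    (D.card_swap_outside ht hj hc hjt) (IsConj.refl j) (isConj_iff.2 ⟨g, rfl⟩) hg).symm⟩

theorem exists_J_of_three [Finite G] [Finite Ω] {t j : G} (ht : InvH a b t) (hj : CaseA a b j)
    (hc : swapNum a b t = 3) (hjt : ¬ IsConj t j) (hodd : Odd (Nat.card Ω)) :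
    ∃ J : G, orderOf J = 2 ∧ Subgroup.centralizer ({J} : Set G) ⊔ Cfsg.oddCore G = ⊤ :=
  ⟨j, hj.1.orderOf D.ne, sup_eq_top_of_isolated (D.isolated_of_three ht hj hc hjt hodd)⟩

end Data

end Cfsg.Agent.Lib.TwoTransA4
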