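import Cfsg.Agent.Lib.TwoTransA4.Scalar
import Mathlib.RingTheory.AdjoinRoot
import Mathlib.Algebra.Polynomial.SpecificDegree
import Mathlib.LinearAlgebra.AffineSpace.AffineEquiv
import Mathlib.LinearAlgebra.Dimension.Free
import Mathlib.Algebra.Module.ZMod
import Mathlib.FieldTheory.Finite.Basic

/-!
# The collinear case with `f = 4`, `n = 16` is `AGL(2,4)`
-/

set_option autoImplicit false
set_option linter.unusedSectionVars false

namespace Cfsg.Agent.Lib.TwoTransA4

open MulAction
open Polynomial

/-- `X² + X + 1` over `F₂`. -/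
noncomputable def quad : (ZMod 2)[X] := Polynomial.X ^ 2 + Polynomial.X + 1

theorem quad_monic : quad.Monic := by rw [quad]; monicity!

theorem quad_natDegree : quad.natDegree = 2 := by rw [quad]; compute_degree!

theorem quad_irreducible : Irreducible quad := by
  rw [quad_monic.irreducible_iff_roots_eq_zero_of_degree_le_three (by rw [quad_natDegree])
    (by rw [quad_natDegree]; norm_num)]
  refine Multiset.eq_zero_iff_forall_notMem.2 fun x hx => ?_
  rw [mem_roots quad_monic.ne_zero] at hx
  have h : x * x + x + 1 = 0 := by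
    have := hx
    simp [quad, IsRoot.def, pow_two] at this
    linear_combination this
  clear hx
  revert h
  revert x
  decide

instance quadFact : Fact (Irreducible quad) := ⟨quad_irreducible⟩

/-- The field with four elements. -/
noncomputable abbrev F4 : Type := AdjoinRoot quad

instance finiteF4 : Finite F4 :=
  haveI := quad_monic.finite_adjoinRoot
  Module.finite_of_finite (ZMod 2)

theorem card_F4 : Nat.card F4 = 4 := by
  haveI := quad_monic.finite_adjoinRoot
  rw [Module.natCard_eq_pow_finrank (K := ZMod 2),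
    (AdjoinRoot.powerBasis quad_monic.ne_zero).finrank, AdjoinRoot.powerBasis_dim, quad_natDegree,
    Nat.card_zmod]
  norm_num

/-- An affine plane over the four element field has at most 2880 automorphisms. -/
theorem card_affine_le (F : Type*) [Field F] [Finite F] (h4 : Nat.card F = 4) :
    Nat.card ((Fin 2 → F) ≃ᵃ[F] (Fin 2 → F)) ≤ 2880 := by
  classical
  have := Fintype.ofFinite F
  let e : Fin 2 → (Fin 2 → F) := fun i => Pi.single i 1
  have hV : Nat.card (Fin 2 → F) = 16 := by
    rw [Nat.card_fun, Nat.card_fin, h4]; norm_num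
  have h0 : ∀ φ : (Fin 2 → F) ≃ᵃ[F] (Fin 2 → F), φ.linear (e 0) ≠ 0 := fun φ h => by
    have h' : e 0 = 0 := φ.linear.map_eq_zero_iff.1 h
    simpa [e, Pi.single_apply] using congrFun h' 0
  have h1 : ∀ φ : (Fin 2 → F) ≃ᵃ[F] (Fin 2 → F), φ.linear (e 1) ∉ Set.range fun c : F => c • φ.linear (e 0) := by
    rintro φ ⟨c, hc⟩
    have h' : c • e 0 = e 1 := φ.linear.injective (by rw [map_smul]; exact hc)
    simpa [e, Pi.single_apply] using congrFun h' 1
  let T := (Fin 2 → F) × (Σ u : {u : (Fin 2 → F) // u ≠ 0}, {w : (Fin 2 → F) // w ∉ Set.range fun c : F => c • u.1})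
  let f : ((Fin 2 → F) ≃ᵃ[F] (Fin 2 → F)) → T := fun φ =>
    (φ 0, ⟨⟨φ.linear (e 0), h0 φ⟩, φ.linear (e 1), h1 φ⟩)
  have hf : Function.Injective f := by
    intro φ ψ h
    have ha : φ 0 = ψ 0 := congrArg Prod.fst h
    have hb : φ.linear (e 0) = ψ.linear (e 0) := congrArg (fun p : T => p.2.1.1) h
    have hc : φ.linear (e 1) = ψ.linear (e 1) := congrArg (fun p : T => (p.2.2.1 : (Fin 2 → F))) h
    have hlin : φ.linear = ψ.linear := by
      refine LinearEquiv.ext fun v => ?_
      have hv : v = v 0 • e 0 + v 1 • e 1 := by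
        ext i
        fin_cases i <;> simp [e, Pi.single_apply]
      rw [hv, map_add, map_add, map_smul, map_smul, map_smul, map_smul, hb, hc]
    refine AffineEquiv.ext fun v => ?_
    have hφ := φ.map_vadd 0 v
    have hψ := ψ.map_vadd 0 v
    simp only [vadd_eq_add, add_zero] at hφ hψ
    rw [hφ, hψ, ha, hlin]
  refine (Nat.card_le_card_of_injective f hf).trans ?_
  rw [Nat.card_prod, hV, Nat.card_sigma,
    Finset.sum_congr rfl (g := fun _ => 12) fun u _ => ?_, Finset.sum_const, Finset.card_univ,
    smul_eq_mul, ← Nat.card_eq_fintype_card]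
  · have hu : Nat.card {u : (Fin 2 → F) // u ≠ 0} = 15 := by
      rw [Nat.card_eq_fintype_card, Fintype.card_subtype_compl, Fintype.card_subtype_eq,
        ← Nat.card_eq_fintype_card, hV]
    rw [hu]
  · rw [Nat.card_eq_fintype_card, Fintype.card_subtype_compl, ← Nat.card_eq_fintype_card, hV,
      ← Nat.card_eq_fintype_card]
    have hr : Nat.card {w : (Fin 2 → F) // w ∈ Set.range fun c : F => c • u.1} = 4 := by
      refine (Nat.card_range_of_injective ?_).trans h4
      intro c c' h
      exact smul_left_injective F u.2 h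
    omega

variable {G Ω : Type*} [Group G] [MulAction G Ω]

namespace Plane

variable [Finite G] [Finite Ω] {a b : Ω} {t j : G} (P : Plane a b t j)
include P

theorem exists_iso : ∃ (F : Type) (_ : Field F) (_ : Fintype F), Fintype.card F = 4 ∧
    Nonempty (G ≃* ((Fin 2 → F) ≃ᵃ[F] (Fin 2 → F))) := by
  classical
  obtain ⟨N, hNn, hsq, hNc, hfree, htr⟩ := P.exists_regular
  obtain ⟨d, hda, hd1, hd3, hdc, hdfix⟩ := P.exists_scalar
  haveI := P.data.faithful
  haveI := hNn
  letI : CommGroup ↥N :=
    { (inferInstance : Group ↥N) with mul_comm := fun x y => Subtype.ext (hNc x x.2 y y.2) }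
  let M := Additive ↥N
  letI : AddCommGroup M := Additive.addCommGroup
  letI : Module (ZMod 2) M := AddCommGroup.zmodModule fun x => by
    show 2 • x = 0
    rw [two_nsmul]
    exact Subtype.ext (hsq _ (Additive.toMul x).2)
  -- conjugation
  let cj : G → M →+ M := fun g =>
    { toFun := fun x => Additive.ofMul (⟨g * (Additive.toMul x : ↥N) * g⁻¹,
        hNn.conj_mem _ (Additive.toMul x).2 g⟩ : ↥N)
      map_zero' := by
        apply Subtype.ext
        show g * (1 : G) * g⁻¹ = 1
        group
      map_add' := fun x y => by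
        apply Subtype.ext
        show g * ((Additive.toMul x : ↥N) * (Additive.toMul y : ↥N) : G) * g⁻¹ =
          (g * (Additive.toMul x : ↥N) * g⁻¹) * (g * (Additive.toMul y : ↥N) * g⁻¹)
        group }
  have hcj : ∀ g h : G, ∀ x : M, cj (g * h) x = cj g (cj h x) := fun g h x => by
    apply Subtype.ext
    show g * h * (Additive.toMul x : ↥N) * (g * h)⁻¹ = g * (h * (Additive.toMul x : ↥N) * h⁻¹) * g⁻¹
    group
  have hcj1 : ∀ x : M, cj 1 x = x := fun x => by
    apply Subtype.ext
    show (1 : G) * (Additive.toMul x : ↥N) * (1 : G)⁻¹ = (Additive.toMul x : ↥N)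
    group
  let T : Module.End (ZMod 2) M := (cj d).toZModLinearMap 2
  have hTT : ∀ x : M, T (T x) = cj (d * d) x := fun x => (hcj d d x).symm
  have hT3 : ∀ x : M, T (T (T x)) = x := fun x => by
    show cj d (cj d (cj d x)) = x
    rw [← hcj, ← hcj, hd3, hcj1]
  have hTfix : ∀ x : M, T x = x → x = 0 := by
    intro x hx
    have e : d * (Additive.toMul x : ↥N) * d⁻¹ = (Additive.toMul x : ↥N) :=
      congrArg (fun z : M => ((Additive.toMul z : ↥N) : G)) hx
    have h1 : d • ((Additive.toMul x : ↥N) : G) • a = ((Additive.toMul x : ↥N) : G) • a := by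
      conv_lhs => rw [← mul_smul, mul_inv_eq_iff_eq_mul.1 e, mul_smul, hda]
    exact Subtype.ext (hfree _ (Additive.toMul x).2 a (hdfix _ h1))
  have hquad : (aeval T) quad = 0 := by
    refine LinearMap.ext fun x => ?_
    simp only [quad, map_add, map_pow, map_mul, aeval_X, map_one, LinearMap.add_apply, pow_two,
      Module.End.mul_apply, Module.End.one_apply, LinearMap.zero_apply]
    refine hTfix _ ?_
    rw [map_add, map_add, hT3]
    abel
  let ψ : F4 →+* Module.End (ZMod 2) M :=
    Ideal.Quotient.lift (Ideal.span ({quad} : Set (ZMod 2)[X])) (aeval T).toRingHom fun p hp => by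
      obtain ⟨q, rfl⟩ := Ideal.mem_span_singleton'.1 hp
      show aeval T (q * quad) = 0
      rw [map_mul, hquad, mul_zero]
  letI : Module F4 M := Module.compHom M ψ
  have hψ : ∀ (c : F4) (x : M), c • x = ψ c x := fun c x => rfl
  -- conjugation by the point stabiliser is linear over the field
  have hlin : ∀ k : G, k • a = a → ∀ (c : F4) (x : M), cj k (c • x) = c • cj k x := by
    intro k hk c x
    obtain ⟨p, rfl⟩ := Ideal.Quotient.mk_surjective c
    show cj k ((aeval T p) x) = (aeval T p) (cj k x)
    induction p using Polynomial.induction_on' with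
    | add p q hp hq =>
      rw [map_add, LinearMap.add_apply, LinearMap.add_apply, map_add, hp, hq]
    | monomial n r =>
      rw [aeval_monomial, Module.End.mul_apply, Module.End.mul_apply, Module.algebraMap_end_apply,
        Module.algebraMap_end_apply]
      have hn : ∀ y : M, cj k ((T ^ n) y) = (T ^ n) (cj k y) := by
        induction n with
        | zero => intro y; rfl
        | succ n ih =>
          intro y
          rw [pow_succ, Module.End.mul_apply, Module.End.mul_apply, ih]
          show (T ^ n) (cj k (cj d y)) = (T ^ n) (cj d (cj k y))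
          rw [← hcj, ← hcj, hdc k hk]
      show ((cj k).toZModLinearMap 2) (r • (T ^ n) x) = r • (T ^ n) (cj k x)
      rw [map_smul]
      exact congrArg (r • ·) (hn x)
  let L : {k : G // k • a = a} → (M ≃ₗ[F4] M) := fun k =>
    { toFun := cj k
      invFun := cj (k : G)⁻¹
      left_inv := fun x => by rw [← hcj, inv_mul_cancel, hcj1]
      right_inv := fun x => by rw [← hcj, mul_inv_cancel, hcj1]
      map_add' := map_add _
      map_smul' := hlin k k.2 }
  -- coordinates
  have hM16 : Nat.card M = 16 := by
    rw [← P.deg]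
    refine Nat.card_eq_of_bijective (fun x : M => ((Additive.toMul x : ↥N) : G) • a) ⟨?_, ?_⟩
    · intro x y h
      apply Subtype.ext
      have := hfree _ (mul_mem (inv_mem (Additive.toMul y).2) (Additive.toMul x).2) a (by
        rw [mul_smul, inv_smul_eq_iff]; exact h)
      exact (inv_mul_eq_one.1 this).symm
    · intro q
      obtain ⟨x, hx, hxq⟩ := htr a q
      exact ⟨Additive.ofMul (⟨x, hx⟩ : ↥N), hxq⟩
  haveI : Finite M := inferInstanceAs (Finite ↥N)
  haveI : Module.Finite F4 M := Module.Finite.of_finite
  have hrank : Module.finrank F4 M = 2 := by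
    have h := Module.natCard_eq_pow_finrank (K := F4) (V := M)
    rw [hM16, card_F4] at h
    exact (Nat.pow_right_injective (by norm_num : 2 ≤ 4) (show 4 ^ _ = 4 ^ 2 by omega))
  let B := (Module.finBasisOfFinrankEq F4 M hrank).equivFun
  -- the action in coordinates
  let e : M ≃ Ω := Equiv.ofBijective (fun x : M => ((Additive.toMul x : ↥N) : G) • a) (by
    refine (Nat.bijective_iff_injective_and_card _).2 ⟨?_, by rw [hM16, P.deg]⟩
    intro x y h
    apply Subtype.ext
    have := hfree _ (mul_mem (inv_mem (Additive.toMul y).2) (Additive.toMul x).2) a (by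
      rw [mul_smul, inv_smul_eq_iff]; exact h)
    exact (inv_mul_eq_one.1 this).symm)
  have hstabM : ∀ g : G, ((((Additive.toMul (e.symm (g • a)) : ↥N) : G))⁻¹ * g) • a = a := fun g => by
    have h : ((Additive.toMul (e.symm (g • a)) : ↥N) : G) • a = g • a := e.apply_symm_apply (g • a)
    rw [mul_smul, inv_smul_eq_iff, h]
  let aff : G → (M ≃ᵃ[F4] M) := fun g =>
    { toEquiv := e.trans ((MulAction.toPerm g).trans e.symm)
      linear := L ⟨_, hstabM g⟩
      map_vadd' := fun p v => by
        set n := ((Additive.toMul (e.symm (g • a)) : ↥N) : G)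
        have hn : n • a = g • a := e.apply_symm_apply (g • a)
        set k := n⁻¹ * g
        apply e.injective
        show e (e.symm (g • e (v + p))) = e (cj k v + e.symm (g • e p))
        rw [e.apply_symm_apply]
        show g • (((Additive.toMul v : ↥N) : G) * (Additive.toMul p : ↥N)) • a =
          ((k * (Additive.toMul v : ↥N) * k⁻¹) * ((Additive.toMul (e.symm (g • e p)) : ↥N) : G)) • a
        set w := ((Additive.toMul (e.symm (g • e p)) : ↥N) : G)
        have hw : w • a = g • ((Additive.toMul p : ↥N) : G) • a := e.apply_symm_apply (g • e p)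
        have hgv : g * (Additive.toMul v : ↥N) * g⁻¹ = k * (Additive.toMul v : ↥N) * k⁻¹ := by
          have hmem : k * (Additive.toMul v : ↥N) * k⁻¹ ∈ N :=
            hNn.conj_mem _ (Additive.toMul v).2 k
          calc g * (Additive.toMul v : ↥N) * g⁻¹
              = n * (k * (Additive.toMul v : ↥N) * k⁻¹) * n⁻¹ := by simp only [k]; group
            _ = k * (Additive.toMul v : ↥N) * k⁻¹ := by
              rw [hNc n (Additive.toMul (e.symm (g • a))).2 _ hmem, mul_inv_cancel_right]
        rw [mul_smul (k * _ * _) w, hw, ← hgv, ← mul_smul, ← mul_smul, ← mul_smul]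
        congr 1
        group }
  let Φ : G →* ((Fin 2 → F4) ≃ᵃ[F4] (Fin 2 → F4)) :=
    { toFun := fun g => (B.toAffineEquiv.symm.trans (aff g)).trans B.toAffineEquiv
      map_one' := by
        refine AffineEquiv.ext fun v => ?_
        show B (e.symm ((1 : G) • e (B.symm v))) = v
        rw [one_smul, e.symm_apply_apply, B.apply_symm_apply]
      map_mul' := fun g h => by
        refine AffineEquiv.ext fun v => ?_
        show B (e.symm ((g * h) • e (B.symm v))) =
          B (e.symm (g • e (B.symm (B (e.symm (h • e (B.symm v)))))))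
        rw [B.symm_apply_apply, e.apply_symm_apply, mul_smul] }
  have hΦ : Function.Injective Φ := by
    intro g h hgh
    refine eq_of_smul_eq_smul fun q : Ω => ?_
    have h' : B (e.symm (g • e (B.symm (B (e.symm q))))) = B (e.symm (h • e (B.symm (B (e.symm q))))) :=
      congrArg (fun f : (Fin 2 → F4) ≃ᵃ[F4] (Fin 2 → F4) => f (B (e.symm q))) hgh
    simp only [B.symm_apply_apply, e.apply_symm_apply] at h'
    exact e.symm.injective (B.injective h')
  letI : Fintype F4 := Fintype.ofFinite F4
  refine ⟨F4, inferInstance, inferInstance, by rw [← Nat.card_eq_fintype_card, card_F4],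
    ⟨MulEquiv.ofBijective Φ ?_⟩⟩
  haveI : Finite ((Fin 2 → F4) ≃ᵃ[F4] (Fin 2 → F4)) :=
    Finite.of_injective (fun f => (f : (Fin 2 → F4) → (Fin 2 → F4))) fun f g h =>
      AffineEquiv.ext fun v => congrFun h v
  have hG : Nat.card G = 2880 := by
    rw [Cfsg.Agent.Lib.ConstFix25.card_group P.data.two P.data.ne,
      Cfsg.Agent.Lib.ConstFix25.card_offDiag, P.data.card_H, P.deg]
  refine (Nat.bijective_iff_injective_and_card _).2 ⟨hΦ, le_antisymm
    (Nat.card_le_card_of_injective Φ hΦ) ?_⟩
  rw [hG]
  exact card_affine_le F4 card_F4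

end Plane

end Cfsg.Agent.Lib.TwoTransA4
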