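import Cfsg.Agent.Lib.TwoTransA4.Base
import Mathlib.GroupTheory.SpecificGroups.Alternating

/-!
# Pair stabilisers of type `A₄` and their extension to the pair
-/

set_option autoImplicit false
set_option linter.unusedSectionVars false

namespace Cfsg.Agent.Lib.TwoTransA4

open MulAction
open Cfsg.Agent.Lib.ConstFix25 (fx two_apply orderOf_conj mul_self_of_orderOf ne_one_of_orderOf)

/-! ### Facts on `A₄` -/

namespace AFour

abbrev A4 := ↥(alternatingGroup (Fin 4))

theorem card_all : Fintype.card A4 = 12 := by decide +kernel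

theorem card_invol : Fintype.card {x : A4 // x * x = 1 ∧ x ≠ 1} = 3 := by decide +kernel

theorem comm : ∀ x y : A4, x * x = 1 → y * y = 1 → x * y = y * x := by decide +kernel

theorem conj : ∀ x y : A4, x * x = 1 → x ≠ 1 → y * y = 1 → y ≠ 1 → ∃ g, g * x * g⁻¹ = y := by
  decide +kernel

theorem exists_three : ∃ y : A4, y * y ≠ 1 := by decide +kernel

theorem coset : ∀ y : A4, y * y ≠ 1 → ∀ h, ∃ v, v * v = 1 ∧ (h = v ∨ h = v * y ∨ h = v * (y * y)) := by
  decide +kernel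

set_option synthInstance.maxSize 4000 in
theorem sq_of_commute : ∀ x g : A4, x * x = 1 → x ≠ 1 → g * x = x * g → g * g = 1 := by
  decide +kernel

theorem exists_other : ∀ x : A4, ∃ y : A4, y * y = 1 ∧ y ≠ 1 ∧ y ≠ x := by decide +kernel

set_option synthInstance.maxSize 4000 in
theorem four : ∀ x y v : A4, x * x = 1 → x ≠ 1 → y * y = 1 → y ≠ 1 → x ≠ y → v * v = 1 →
    v = 1 ∨ v = x ∨ v = y ∨ v = x * y := by
  decide +kernel

end AFour

variable {G Ω : Type*} [Group G] [MulAction G Ω]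

/-- The hypotheses of the row, with faithfulness. -/
structure Data (G Ω : Type*) [Group G] [MulAction G Ω] (a b : Ω) : Prop where
  faithful : FaithfulSMul G Ω
  two : IsMultiplyPretransitive G Ω 2
  ne : a ≠ b
  alt : Nonempty (↥(stabilizer G a ⊓ stabilizer G b) ≃* ↥(alternatingGroup (Fin 4)))

/-- An involution of the pair stabiliser. -/
def InvH (a b : Ω) (g : G) : Prop := g * g = 1 ∧ g ≠ 1 ∧ g • a = a ∧ g • b = b

theorem orderOf_eq_two {g : G} (h : g * g = 1) (h1 : g ≠ 1) : orderOf g = 2 :=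
  orderOf_eq_prime (by rwa [pow_two]) h1

theorem inv_eq_self {g : G} (h : g * g = 1) : g⁻¹ = g := inv_eq_of_mul_eq_one_right h

theorem InvH.orderOf {a b : Ω} {g : G} (h : InvH a b g) : orderOf g = 2 :=
  orderOf_eq_two h.1 h.2.1

namespace Data

variable {a b : Ω} (D : Data G Ω a b)
include D

theorem card_H : Nat.card ↥(stabilizer G a ⊓ stabilizer G b) = 12 := by
  obtain ⟨e⟩ := D.alt
  rw [Nat.card_congr e.toEquiv, Nat.card_eq_fintype_card]
  exact AFour.card_all

theorem mem {g : G} (ha : g • a = a) (hb : g • b = b) : g ∈ stabilizer G a ⊓ stabilizer G b :=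
  ⟨ha, hb⟩

theorem comm {x y : G} (hxa : x • a = a) (hxb : x • b = b) (hya : y • a = a) (hyb : y • b = b)
    (hx : x * x = 1) (hy : y * y = 1) : x * y = y * x := by
  obtain ⟨e⟩ := D.alt
  have h := AFour.comm (e ⟨x, D.mem hxa hxb⟩) (e ⟨y, D.mem hya hyb⟩)
    (by rw [← map_mul, ← map_one e]; exact congrArg e (Subtype.ext hx))
    (by rw [← map_mul, ← map_one e]; exact congrArg e (Subtype.ext hy))
  rw [← map_mul, ← map_mul] at h
  exact congrArg Subtype.val (e.injective h)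

theorem sq_one_of_commute {x g : G} (hx : InvH a b x) (hga : g • a = a) (hgb : g • b = b)
    (hc : Commute g x) : g * g = 1 := by
  obtain ⟨e⟩ := D.alt
  have h := AFour.sq_of_commute (e ⟨x, D.mem hx.2.2.1 hx.2.2.2⟩) (e ⟨g, D.mem hga hgb⟩)
    (by rw [← map_mul, ← map_one e]; exact congrArg e (Subtype.ext hx.1))
    (fun h => hx.2.1 (congrArg Subtype.val (e.injective (h.trans (map_one e).symm))))
    (by rw [← map_mul, ← map_mul]; exact congrArg e (Subtype.ext hc.eq))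
  rw [← map_mul, ← map_one e] at h
  exact congrArg Subtype.val (e.injective h)

theorem conj {x y : G} (hx : InvH a b x) (hy : InvH a b y) :
    ∃ g : G, g • a = a ∧ g • b = b ∧ g * x * g⁻¹ = y := by
  obtain ⟨e⟩ := D.alt
  obtain ⟨g, hg⟩ := AFour.conj (e ⟨x, D.mem hx.2.2.1 hx.2.2.2⟩) (e ⟨y, D.mem hy.2.2.1 hy.2.2.2⟩)
    (by rw [← map_mul, ← map_one e]; exact congrArg e (Subtype.ext hx.1))
    (fun h => hx.2.1 (congrArg Subtype.val (e.injective (h.trans (map_one e).symm))))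
    (by rw [← map_mul, ← map_one e]; exact congrArg e (Subtype.ext hy.1))
    (fun h => hy.2.1 (congrArg Subtype.val (e.injective (h.trans (map_one e).symm))))
  obtain ⟨k, rfl⟩ := e.surjective g
  rw [← map_inv, ← map_mul, ← map_mul] at hg
  exact ⟨k.1, k.2.1, k.2.2, congrArg Subtype.val (e.injective hg)⟩

theorem exists_three : ∃ y : G, y • a = a ∧ y • b = b ∧ y * y ≠ 1 := by
  obtain ⟨e⟩ := D.alt
  obtain ⟨y, hy⟩ := AFour.exists_three
  obtain ⟨k, rfl⟩ := e.surjective y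
  refine ⟨k.1, k.2.1, k.2.2, fun h => hy ?_⟩
  rw [← map_mul, ← map_one e]
  exact congrArg e (Subtype.ext h)

theorem coset {y : G} (hya : y • a = a) (hyb : y • b = b) (hy : y * y ≠ 1) {h : G}
    (hha : h • a = a) (hhb : h • b = b) :
    ∃ v : G, v • a = a ∧ v • b = b ∧ v * v = 1 ∧ (h = v ∨ h = v * y ∨ h = v * (y * y)) := by
  obtain ⟨e⟩ := D.alt
  obtain ⟨v, hv, hv'⟩ := AFour.coset (e ⟨y, D.mem hya hyb⟩)
    (fun h => hy (congrArg Subtype.val (e.injective ((map_mul e _ _).trans (h.trans (map_one e).symm)))))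
    (e ⟨h, D.mem hha hhb⟩)
  obtain ⟨k, rfl⟩ := e.surjective v
  rw [← map_mul, ← map_one e] at hv
  refine ⟨k.1, k.2.1, k.2.2, congrArg Subtype.val (e.injective hv), ?_⟩
  simp only [← map_mul] at hv'
  rcases hv' with h' | h' | h'
  · exact Or.inl (congrArg Subtype.val (e.injective h'))
  · exact Or.inr (Or.inl (congrArg Subtype.val (e.injective h')))
  · exact Or.inr (Or.inr (congrArg Subtype.val (e.injective h')))

theorem exists_other (x : ↥(stabilizer G a ⊓ stabilizer G b)) :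
    ∃ y : G, InvH a b y ∧ y ≠ x := by
  obtain ⟨e⟩ := D.alt
  obtain ⟨y, hy, hy1, hyx⟩ := AFour.exists_other (e x)
  obtain ⟨k, rfl⟩ := e.surjective y
  rw [← map_mul, ← map_one e] at hy
  exact ⟨k.1, ⟨congrArg Subtype.val (e.injective hy),
    fun h => hy1 (by rw [show k = 1 from Subtype.ext h, map_one]), k.2.1, k.2.2⟩,
    fun h => hyx (congrArg e (Subtype.ext h))⟩

theorem exists_invol : ∃ t : G, InvH a b t :=
  let ⟨t, ht, _⟩ := D.exists_other 1
  ⟨t, ht⟩

theorem exists_invol_ne {t : G} (ht : InvH a b t) : ∃ s : G, InvH a b s ∧ s ≠ t :=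
  D.exists_other ⟨t, D.mem ht.2.2.1 ht.2.2.2⟩

theorem four {x y v : G} (hx : InvH a b x) (hy : InvH a b y) (hne : x ≠ y) (hva : v • a = a)
    (hvb : v • b = b) (hv : v * v = 1) : v = 1 ∨ v = x ∨ v = y ∨ v = x * y := by
  obtain ⟨e⟩ := D.alt
  have h := AFour.four (e ⟨x, D.mem hx.2.2.1 hx.2.2.2⟩) (e ⟨y, D.mem hy.2.2.1 hy.2.2.2⟩)
    (e ⟨v, D.mem hva hvb⟩)
    (by rw [← map_mul, ← map_one e]; exact congrArg e (Subtype.ext hx.1))
    (fun h => hx.2.1 (congrArg Subtype.val (e.injective (h.trans (map_one e).symm))))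
    (by rw [← map_mul, ← map_one e]; exact congrArg e (Subtype.ext hy.1))
    (fun h => hy.2.1 (congrArg Subtype.val (e.injective (h.trans (map_one e).symm))))
    (fun h => hne (congrArg Subtype.val (e.injective h)))
    (by rw [← map_mul, ← map_one e]; exact congrArg e (Subtype.ext hv))
  rw [← map_one e, ← map_mul] at h
  rcases h with h | h | h | h
  · exact Or.inl (congrArg Subtype.val (e.injective h))
  · exact Or.inr (Or.inl (congrArg Subtype.val (e.injective h)))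
  · exact Or.inr (Or.inr (Or.inl (congrArg Subtype.val (e.injective h))))
  · exact Or.inr (Or.inr (Or.inr (congrArg Subtype.val (e.injective h))))

theorem mul_invH {x y : G} (hx : InvH a b x) (hy : InvH a b y) (hne : x ≠ y) :
    InvH a b (x * y) := by
  refine ⟨?_, fun h => hne ?_, by rw [mul_smul, hy.2.2.1, hx.2.2.1],
    by rw [mul_smul, hy.2.2.2, hx.2.2.2]⟩
  · calc x * y * (x * y) = x * (y * x) * y := by group
      _ = 1 := by rw [← D.comm hx.2.2.1 hx.2.2.2 hy.2.2.1 hy.2.2.2 hx.1 hy.1, ← mul_assoc, hx.1,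
          one_mul, hy.1]
  · rw [eq_inv_of_mul_eq_one_left h, inv_eq_self hy.1]

theorem commute_invH {x y : G} (hx : InvH a b x) (hy : InvH a b y) : Commute x y :=
  D.comm hx.2.2.1 hx.2.2.2 hy.2.2.1 hy.2.2.2 hx.1 hy.1

theorem base {t : G} (ht : InvH a b t) : Base G Ω a b t :=
  ⟨D.faithful, D.two, D.ne, ht.orderOf, ht.2.2.1, ht.2.2.2, fun _ hu hua hub =>
    D.conj ht ⟨mul_self_of_orderOf hu, ne_one_of_orderOf hu, hua, hub⟩⟩

theorem pairNum_eq : pairNum G a b = 3 := by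
  obtain ⟨e⟩ := D.alt
  rw [pairNum, ← AFour.card_invol, ← Nat.card_eq_fintype_card]
  refine Nat.card_congr ((Equiv.subtypeEquivRight (q := fun u : G =>
      (u ∈ stabilizer G a ⊓ stabilizer G b) ∧ u * u = 1 ∧ u ≠ 1) fun u =>
    ⟨fun h => ⟨D.mem h.2.1 h.2.2, mul_self_of_orderOf h.1, ne_one_of_orderOf h.1⟩,
      fun h => ⟨orderOf_eq_two h.2.1 h.2.2, h.1.1, h.1.2⟩⟩).trans
    ((Equiv.subtypeSubtypeEquivSubtypeInter (fun u => u ∈ stabilizer G a ⊓ stabilizer G b)
      (fun u => u * u = 1 ∧ u ≠ 1)).symm.trans (e.toEquiv.subtypeEquiv fun x => ?_)))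
  show (x : G) * x = 1 ∧ (x : G) ≠ 1 ↔ e x * e x = 1 ∧ e x ≠ 1
  rw [← map_mul, EmbeddingLike.map_eq_one_iff, ne_eq, ne_eq, EmbeddingLike.map_eq_one_iff,
    ← Subgroup.coe_mul, OneMemClass.coe_eq_one, OneMemClass.coe_eq_one]

/-- The same hypotheses at another pair. -/
theorem of_pair {c d : Ω} (hcd : c ≠ d) : Data G Ω c d := by
  obtain ⟨g, hga, hgb⟩ := two_apply D.two D.ne hcd
  obtain ⟨e⟩ := D.alt
  refine ⟨D.faithful, D.two, hcd, ⟨MulEquiv.trans ?_ e⟩⟩
  refine ((MulEquiv.subgroupMap (MulAut.conj g⁻¹) _).trans (MulEquiv.subgroupCongr ?_))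
  ext x
  constructor
  · rintro ⟨y, ⟨hyc, hyd⟩, rfl⟩
    have hyc' : y • c = c := hyc
    have hyd' : y • d = d := hyd
    show (g⁻¹ * y * g⁻¹⁻¹) • a = a ∧ (g⁻¹ * y * g⁻¹⁻¹) • b = b
    rw [inv_inv, mul_smul, mul_smul, hga, hyc', ← hga, inv_smul_smul, mul_smul, mul_smul, hgb, hyd',
      ← hgb, inv_smul_smul]
    exact ⟨rfl, rfl⟩
  · rintro ⟨hxa, hxb⟩
    have hxa' : x • a = a := hxa
    have hxb' : x • b = b := hxb
    refine ⟨g * x * g⁻¹, ⟨?_, ?_⟩, ?_⟩
    · show (g * x * g⁻¹) • c = c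
      rw [← hga, conj_smul_smul, hxa']
    · show (g * x * g⁻¹) • d = d
      rw [← hgb, conj_smul_smul, hxb']
    · show g⁻¹ * (g * x * g⁻¹) * g⁻¹⁻¹ = x
      group

theorem exists_data_of_class [Finite Ω] {t u : G} (ht : InvH a b t) (hu : IsConj t u) :
    ∃ c d : Ω, Data G Ω c d ∧ InvH c d u := by
  obtain ⟨h2, hfix⟩ := (D.base ht).mem_class_iff.1 hu
  obtain ⟨c, d, hcd, hc, hd⟩ := exists_two_fixed hfix
  exact ⟨c, d, D.of_pair hcd, mul_self_of_orderOf h2, ne_one_of_orderOf h2, hc, hd⟩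

theorem card_cent [Finite G] [Finite Ω] {t : G} (ht : InvH a b t) :
    Nat.card ↥(Subgroup.centralizer ({t} : Set G)) = 4 * (fx Ω t * (fx Ω t - 1)) := by
  have h := (D.base ht).card_cent
  rw [D.pairNum_eq, D.card_H] at h
  omega

theorem fixity [Finite G] [Finite Ω] {t : G} (ht : InvH a b t) :
    3 * (Nat.card Ω - fx Ω t) = swapNum a b t * (fx Ω t * (fx Ω t - 1)) := by
  have h := (D.base ht).fixity
  rwa [D.pairNum_eq] at h

end Data

end Cfsg.Agent.Lib.TwoTransA4
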