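import Cfsg.Agent.Lib.TwoTransA4.Pairs
import Cfsg.Agent.Lib.SmallGroups.Counting
import Mathlib.GroupTheory.Perm.Cycle.Type

/-!
# Doubly transitive groups whose pair stabilisers have one class of involutions

The involutions fixing two points form one class, of constant fixity `f`, and
`i (n - f) = c f (f - 1)`, where `i` involutions fix a given pair and `c` members of the class swap it.
-/

set_option autoImplicit false
set_option linter.unusedSectionVars false

namespace Cfsg.Agent.Lib.TwoTransA4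

open MulAction
open Cfsg.Agent.Lib.ConstFix25 (fx two_apply card_offDiag card_moved fx_conj exists_moved
  orderOf_of_isConj orderOf_conj mul_self_of_orderOf ne_one_of_orderOf)

variable {G Ω : Type*} [Group G] [MulAction G Ω]

/-- The set-up, based at an involution `t` fixing `a` and `b`. -/
structure Base (G Ω : Type*) [Group G] [MulAction G Ω] (a b : Ω) (t : G) : Prop where
  faithful : FaithfulSMul G Ω
  two : IsMultiplyPretransitive G Ω 2
  ne : a ≠ b
  invol : orderOf t = 2
  fix_a : t • a = a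
  fix_b : t • b = b
  conjH : ∀ u : G, orderOf u = 2 → u • a = a → u • b = b →
    ∃ g : G, g • a = a ∧ g • b = b ∧ g * t * g⁻¹ = u

/-- The members of the class swapping a pair. -/
noncomputable def swapNum (a b : Ω) (t : G) : ℕ := Nat.card {u : G // IsConj t u ∧ u • a = b}

/-- The involutions fixing a pair. -/
noncomputable def pairNum (G : Type*) [Group G] [MulAction G Ω] (a b : Ω) : ℕ :=
  Nat.card {u : G // orderOf u = 2 ∧ u • a = a ∧ u • b = b}

theorem two_le_fx_of_fix [Finite Ω] {u : G} {x y : Ω} (hxy : x ≠ y) (hx : u • x = x)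
    (hy : u • y = y) : 2 ≤ fx Ω u := by
  haveI : Nontrivial {z : Ω // u • z = z} :=
    ⟨⟨x, hx⟩, ⟨y, hy⟩, fun h => hxy (congrArg Subtype.val h)⟩
  exact Finite.one_lt_card

theorem exists_two_fixed [Finite Ω] {u : G} (h : 2 ≤ fx Ω u) :
    ∃ x y : Ω, x ≠ y ∧ u • x = x ∧ u • y = y := by
  haveI : Nontrivial {z : Ω // u • z = z} := Finite.one_lt_card_iff_nontrivial.1 h
  obtain ⟨x, y, hxy⟩ := exists_pair_ne {z : Ω // u • z = z}
  exact ⟨x, y, fun e => hxy (Subtype.ext e), x.2, y.2⟩

/-- An involution moves an even number of points. -/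
theorem even_moved [Finite Ω] [FaithfulSMul G Ω] {u : G} (hu : orderOf u = 2) :
    Even (Nat.card Ω - fx Ω u) := by
  classical
  haveI : Fact (Nat.Prime 2) := ⟨Nat.prime_two⟩
  have := Fintype.ofFinite Ω
  let σ : Equiv.Perm Ω := MulAction.toPerm u
  have hσ : σ ^ 2 ^ 1 = 1 := by
    refine Equiv.ext fun x => ?_
    show u • u • x = x
    rw [← mul_smul, mul_self_of_orderOf hu, one_smul]
  have h := Equiv.Perm.card_compl_support_modEq (p := 2) (n := 1) hσ
  have hs : (σ.support)ᶜ.card = fx Ω u := by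
    rw [fx, Nat.card_eq_fintype_card]
    exact (Fintype.card_of_subtype _ fun x => by simp [σ]).symm
  rw [hs, ← Nat.card_eq_fintype_card] at h
  have hle := card_moved (Ω := Ω) u
  exact (even_iff_two_dvd).2 ((Nat.modEq_iff_dvd' (by omega)).1 h)

namespace Base

variable {a b : Ω} {t : G} (B : Base G Ω a b t)
include B

theorem pair_conj {u : G} {x y : Ω} (hxy : x ≠ y) (hu : orderOf u = 2) (hx : u • x = x)
    (hy : u • y = y) : IsConj t u := by
  obtain ⟨g, hga, hgb⟩ := two_apply B.two B.ne hxy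
  have h : ∀ z w : Ω, g • z = w → u • w = w → (g⁻¹ * u * g⁻¹⁻¹) • z = z := by
    intro z w hz hw
    rw [inv_inv, mul_smul, mul_smul, hz, hw, ← hz, inv_smul_smul]
  obtain ⟨k, -, -, hk⟩ := B.conjH (g⁻¹ * u * g⁻¹⁻¹) (by rw [orderOf_conj, hu]) (h a x hga hx)
    (h b y hgb hy)
  exact (isConj_iff.2 ⟨k, hk⟩).trans (isConj_iff.2 ⟨g, by group⟩)

theorem mem_class_iff [Finite Ω] {u : G} : IsConj t u ↔ orderOf u = 2 ∧ 2 ≤ fx Ω u := by
  constructor
  · intro h
    obtain ⟨g, rfl⟩ := isConj_iff.1 h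
    rw [orderOf_conj, fx_conj]
    exact ⟨B.invol, two_le_fx_of_fix B.ne B.fix_a B.fix_b⟩
  · rintro ⟨hu, h2⟩
    obtain ⟨x, y, hxy, hx, hy⟩ := exists_two_fixed h2
    exact B.pair_conj hxy hu hx hy

theorem orderOf_class {u : G} (h : IsConj t u) : orderOf u = 2 := by
  rw [orderOf_of_isConj h, B.invol]

theorem fx_class {u : G} (h : IsConj t u) : fx Ω u = fx Ω t := by
  obtain ⟨g, rfl⟩ := isConj_iff.1 h
  exact fx_conj g t

theorem two_le_fix [Finite Ω] : 2 ≤ fx Ω t := two_le_fx_of_fix B.ne B.fix_a B.fix_b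

theorem fix_lt [Finite Ω] : fx Ω t < Nat.card Ω := by
  haveI := B.faithful
  obtain ⟨x, hx⟩ := exists_moved (Ω := Ω) (ne_one_of_orderOf B.invol)
  haveI : Nonempty {x : Ω // t • x ≠ x} := ⟨⟨x, hx⟩⟩
  have h0 : 0 < Nat.card {x : Ω // t • x ≠ x} := Nat.card_pos
  have := card_moved (Ω := Ω) t
  omega

theorem class_fixed_eq [Finite Ω] :
    Nat.card {u : G // IsConj t u ∧ u • a = a ∧ u • b = b} = pairNum G a b :=
  Nat.card_congr (Equiv.subtypeEquivRight fun _ =>
    ⟨fun h => ⟨B.orderOf_class h.1, h.2.1, h.2.2⟩,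
      fun h => ⟨B.pair_conj B.ne h.1 h.2.1 h.2.2, h.2⟩⟩)

theorem card_class_fixed [Finite G] [Finite Ω] :
    Nat.card {u : G // IsConj t u} * (fx Ω t * (fx Ω t - 1)) =
      Nat.card Ω * (Nat.card Ω - 1) * pairNum G a b := by
  rw [count_fixed (conjClosed_isConj t) B.two B.ne (fun u hu => B.fx_class hu), B.class_fixed_eq]

theorem card_class_moved [Finite G] [Finite Ω] :
    Nat.card {u : G // IsConj t u} * (Nat.card Ω - fx Ω t) =
      Nat.card Ω * (Nat.card Ω - 1) * swapNum a b t :=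
  count_moved (conjClosed_isConj t) B.two B.ne fun _ hu => B.fx_class hu

theorem card_class_pos [Finite G] : 0 < Nat.card {u : G // IsConj t u} :=
  haveI : Nonempty {u : G // IsConj t u} := ⟨⟨t, IsConj.refl t⟩⟩
  Nat.card_pos

/-- The fixity equation. -/
theorem fixity [Finite G] [Finite Ω] :
    pairNum G a b * (Nat.card Ω - fx Ω t) = swapNum a b t * (fx Ω t * (fx Ω t - 1)) := by
  refine Nat.eq_of_mul_eq_mul_left B.card_class_pos ?_
  calc _ = pairNum G a b * (Nat.card {u : G // IsConj t u} * (Nat.card Ω - fx Ω t)) := by ring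
    _ = swapNum a b t * (Nat.card Ω * (Nat.card Ω - 1) * pairNum G a b) := by
      rw [B.card_class_moved]; ring
    _ = _ := by rw [← B.card_class_fixed]; ring

theorem swap_pos [Finite G] [Finite Ω] : 0 < swapNum a b t := by
  have h := B.card_class_moved
  have h1 := B.fix_lt
  have hp := Nat.mul_pos B.card_class_pos (Nat.sub_pos_of_lt h1)
  rw [h] at hp
  exact Nat.pos_of_mul_pos_left hp

/-- The order of the centraliser. -/
theorem card_cent [Finite G] [Finite Ω] :
    pairNum G a b * Nat.card ↥(Subgroup.centralizer ({t} : Set G)) =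
      fx Ω t * (fx Ω t - 1) * Nat.card ↥(stabilizer G a ⊓ stabilizer G b) := by
  refine Nat.eq_of_mul_eq_mul_left B.card_class_pos ?_
  have h := Cfsg.Agent.Lib.SmallGroups.Counting.card_isConj_mul t
  calc _ = pairNum G a b * (Nat.card {u : G // IsConj t u} *
        Nat.card ↥(Subgroup.centralizer ({t} : Set G))) := by ring
    _ = Nat.card Ω * (Nat.card Ω - 1) * pairNum G a b *
        Nat.card ↥(stabilizer G a ⊓ stabilizer G b) := by
      rw [h, Cfsg.Agent.Lib.ConstFix25.card_group B.two B.ne, card_offDiag]; ring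
    _ = _ := by rw [← B.card_class_fixed]; ring

/-- The centraliser is doubly transitive on the fixed points. -/
theorem cent_two {x y : Ω} (hxy : x ≠ y) (hx : t • x = x) (hy : t • y = y) :
    ∃ g : G, Commute g t ∧ g • a = x ∧ g • b = y := by
  obtain ⟨g, hga, hgb⟩ := two_apply B.two B.ne hxy
  have hfix : ∀ z w : Ω, g • z = w → t • w = w → (g⁻¹ * t * g⁻¹⁻¹) • z = z := by
    intro z w hz hw
    rw [inv_inv, mul_smul, mul_smul, hz, hw, ← hz, inv_smul_smul]
  obtain ⟨k, hka, hkb, hk⟩ := B.conjH (g⁻¹ * t * g⁻¹⁻¹) (by rw [orderOf_conj, B.invol])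
    (hfix a x hga hx) (hfix b y hgb hy)
  refine ⟨g * k, ?_, by rw [mul_smul, hka, hga], by rw [mul_smul, hkb, hgb]⟩
  show g * k * t = t * (g * k)
  calc g * k * t = g * (k * t * k⁻¹) * k := by group
    _ = t * (g * k) := by rw [hk]; group

theorem parity [Finite Ω] : Even (Nat.card Ω - fx Ω t) :=
  haveI := B.faithful
  even_moved B.invol

theorem even_iff [Finite Ω] : Even (Nat.card Ω) ↔ Even (fx Ω t) :=
  (Nat.even_sub B.fix_lt.le).1 B.parity

/-- Every involution is conjugate to one swapping the pair. -/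
theorem exists_swap_conj {u : G} (hu : orderOf u = 2) :
    ∃ w : G, IsConj u w ∧ w • a = b ∧ w • b = a := by
  haveI := B.faithful
  obtain ⟨x, hx⟩ := exists_moved (Ω := Ω) (ne_one_of_orderOf hu)
  obtain ⟨g, hga, hgb⟩ := two_apply B.two B.ne (Ne.symm hx)
  refine ⟨g⁻¹ * u * g⁻¹⁻¹, isConj_iff.2 ⟨g⁻¹, rfl⟩, ?_, ?_⟩
  · rw [inv_inv, mul_smul, mul_smul, hga, ← hgb, inv_smul_smul]
  · rw [inv_inv, mul_smul, mul_smul, hgb, ← mul_smul u, mul_self_of_orderOf hu, one_smul, ← hga,
      inv_smul_smul]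

end Base

end Cfsg.Agent.Lib.TwoTransA4
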