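import Cfsg.Agent.Lib.TwoTransA4.Swap

/-!
# The number of class members swapping a pair is three, four or six
-/

set_option autoImplicit false
set_option linter.unusedSectionVars false

namespace Cfsg.Agent.Lib.TwoTransA4

open MulAction
open Cfsg.Agent.Lib.ConstFix25 (fx two_apply mul_self_of_orderOf ne_one_of_orderOf card_moved)

variable {G Ω : Type*} [Group G] [MulAction G Ω]

/-- All involutions of the pair stabiliser have the same fixed points. -/
def Lin (G : Type*) [Group G] [MulAction G Ω] (a b : Ω) : Prop :=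
  ∀ u v : G, InvH a b u → InvH a b v → ∀ x : Ω, u • x = x → v • x = x

/-- Equal fixity and inclusion of fixed points give equality. -/
theorem fix_of_subset [Finite Ω] {u v : G} (hcard : fx Ω v ≤ fx Ω u)
    (h : ∀ x : Ω, u • x = x → v • x = x) {x : Ω} (hx : v • x = x) : u • x = x := by
  let F : {x : Ω // u • x = x} → {x : Ω // v • x = x} := fun y => ⟨y.1, h _ y.2⟩
  have hF : Function.Injective F := fun y z e =>
    Subtype.ext (congrArg (fun w : {x : Ω // v • x = x} => w.1) e)
  obtain ⟨y, hy⟩ := ((Nat.bijective_iff_injective_and_card F).2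
    ⟨hF, le_antisymm (Nat.card_le_card_of_injective F hF) hcard⟩).2 ⟨x, hx⟩
  have e : y.1 = x := congrArg Subtype.val hy
  exact e ▸ y.2

namespace Data

variable {a b : Ω} (D : Data G Ω a b)
include D

theorem conj_invH {u v : G} (hu : InvH a b u) (hv : InvH a b v) : IsConj u v := by
  obtain ⟨g, -, -, hg⟩ := D.conj hu hv
  exact isConj_iff.2 ⟨g, hg⟩

theorem fx_invH {u v : G} (hu : InvH a b u) (hv : InvH a b v) : fx Ω v = fx Ω u :=
  (D.base hu).fx_class (D.conj_invH hu hv)

/-- One coincidence of fixed point sets gives all of them. -/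
theorem lin_of_subset [Finite Ω] {t s : G} (ht : InvH a b t) (hs : InvH a b s) (hst : s ≠ t)
    (h : ∀ x : Ω, t • x = x → s • x = x) : Lin G a b := by
  have hts : ∀ x : Ω, s • x = x → t • x = x := fun x hx =>
    fix_of_subset (D.fx_invH ht hs).le h hx
  have hu : ∀ u : G, InvH a b u → ∀ x : Ω, t • x = x → u • x = x := by
    intro u hu x hx
    rcases D.four hs ht hst hu.2.2.1 hu.2.2.2 hu.1 with e | e | e | e <;> rw [e]
    · exact one_smul G x
    · exact h x hx
    · exact hx
    · rw [mul_smul, hx, h x hx]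
  intro u v huI hvI x hx
  exact hu v hvI x (fix_of_subset (D.fx_invH ht huI).le (hu u huI) hx)

theorem exists_moved_of_not_lin [Finite Ω] (hL : ¬ Lin G a b) {t s : G} (ht : InvH a b t)
    (hs : InvH a b s) (hst : s ≠ t) : ∃ x : Ω, t • x = x ∧ s • x ≠ x := by
  by_contra! h
  exact hL (D.lin_of_subset ht hs hst h)

theorem lin_at {c d : Ω} (hcd : c ≠ d) (hL : Lin G a b) : Lin G c d := by
  obtain ⟨g, hga, hgb⟩ := two_apply D.two D.ne hcd
  have hconj : ∀ u : G, InvH c d u → InvH a b (g⁻¹ * u * g) := by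
    intro u hu
    refine ⟨?_, fun h => hu.2.1 ?_, ?_, ?_⟩
    · rw [show g⁻¹ * u * g * (g⁻¹ * u * g) = g⁻¹ * (u * u) * g by group, hu.1]; group
    · rw [show u = g * (g⁻¹ * u * g) * g⁻¹ by group, h]; group
    · rw [mul_smul, mul_smul, hga, hu.2.2.1, ← hga, inv_smul_smul]
    · rw [mul_smul, mul_smul, hgb, hu.2.2.2, ← hgb, inv_smul_smul]
  intro u v hu hv x hx
  have h := hL _ _ (hconj u hu) (hconj v hv) (g⁻¹ • x)
    (by rw [mul_smul, mul_smul, smul_inv_smul, hx])
  rwa [mul_smul, mul_smul, smul_inv_smul, smul_left_cancel_iff] at h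

/-- Two class members sharing two fixed points share all of them. -/
theorem lin_class [Finite Ω] (hL : Lin G a b) {t u v : G} (ht : InvH a b t) (hu : IsConj t u)
    (hv : IsConj t v) {x y z : Ω} (hxy : x ≠ y) (hux : u • x = x) (huy : u • y = y)
    (hvx : v • x = x) (hvy : v • y = y) (hz : u • z = z) : v • z = z := by
  have hu2 := (D.base ht).orderOf_class hu
  have hv2 := (D.base ht).orderOf_class hv
  exact D.lin_at hxy hL u v ⟨mul_self_of_orderOf hu2, ne_one_of_orderOf hu2, hux, huy⟩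
    ⟨mul_self_of_orderOf hv2, ne_one_of_orderOf hv2, hvx, hvy⟩ z hz

/-- With a single swapping class member the fixed point sets coincide. -/
theorem lin_of_swap_one [Finite G] [Finite Ω] {t : G} (ht : InvH a b t)
    (hc : swapNum a b t = 1) : Lin G a b := by
  by_contra hL
  obtain ⟨s, hs, hst⟩ := D.exists_invol_ne ht
  obtain ⟨x, hx, hsx⟩ := D.exists_moved_of_not_lin hL ht hs hst
  have hcomm := (D.commute_invH hs ht).eq
  have hsxt : t • s • x = s • x := by rw [← mul_smul, ← hcomm, mul_smul, hx]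
  obtain ⟨g, hgt, hga, hgb⟩ := (D.base ht).cent_two (Ne.symm hsx) hx hsxt
  have hmem : ∀ u : G, InvH a b u → u • x = s • x →
      IsConj t (g⁻¹ * u * g⁻¹⁻¹) ∧ (g⁻¹ * u * g⁻¹⁻¹) • a = b := by
    intro u hu hux
    refine ⟨(D.conj_invH ht hu).trans (isConj_iff.2 ⟨g⁻¹, rfl⟩), ?_⟩
    rw [inv_inv, mul_smul, mul_smul, hga, hux, ← hgb, inv_smul_smul]
  have h1 := hmem s hs rfl
  have h2 := hmem (s * t) (D.mul_invH hs ht hst) (by rw [mul_smul, hx])
  haveI := (Nat.card_eq_one_iff_unique.1 hc).1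
  have h : g⁻¹ * s * g⁻¹⁻¹ = g⁻¹ * (s * t) * g⁻¹⁻¹ := congrArg Subtype.val
    (Subsingleton.elim (⟨_, h1⟩ : {u : G // IsConj t u ∧ u • a = b}) ⟨_, h2⟩)
  exact ht.2.1 (mul_left_cancel ((mul_left_cancel (mul_right_cancel h)).symm.trans (mul_one s).symm))

/-- Lines through a point outside a line. -/
theorem lin_bound [Finite G] [Finite Ω] (hL : Lin G a b) {t : G} (ht : InvH a b t) :
    fx Ω t * (fx Ω t - 1) + 1 ≤ Nat.card Ω := by
  classical
  have := Fintype.ofFinite Ω
  haveI := D.faithful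
  obtain ⟨p, hp⟩ := Cfsg.Agent.Lib.ConstFix25.exists_moved (Ω := Ω) ht.2.1
  set B := D.base ht
  have hline : ∀ x : {x : Ω // t • x = x}, ∃ v : G, IsConj t v ∧ v • p = p ∧ v • x.1 = x.1 := by
    intro x
    have hpx : p ≠ x.1 := fun e => hp (by rw [e]; exact x.2)
    obtain ⟨g, hga, hgb⟩ := two_apply D.two D.ne hpx
    refine ⟨g * t * g⁻¹, isConj_iff.2 ⟨g, rfl⟩, ?_, ?_⟩
    · rw [← hga, conj_smul_smul, ht.2.2.1]
    · rw [← hgb, conj_smul_smul, ht.2.2.2]
  choose v hvT hvp hvx using hline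
  let F : (Σ x : {x : Ω // t • x = x}, {z : {z : Ω // v x • z = z} // z.1 ≠ p}) →
      {z : Ω // z ≠ p} := fun s => ⟨s.2.1.1, s.2.2⟩
  have hF : Function.Injective F := by
    rintro ⟨x, ⟨⟨z, hz⟩, hzp⟩⟩ ⟨y, ⟨⟨z', hz'⟩, hz'p⟩⟩ h
    obtain rfl : z = z' := congrArg Subtype.val h
    obtain rfl : x = y := by
      by_contra hxy
      have hvy : v x • y.1 = y.1 :=
        D.lin_class hL ht (hvT y) (hvT x) hzp hz' (hvp y) hz (hvp x) (hvx y)
      exact hp (D.lin_class hL ht (hvT x) (IsConj.refl t) (fun e => hxy (Subtype.ext e)) (hvx x)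
        hvy x.2 y.2 (hvp x))
    rfl
  have h := Nat.card_le_card_of_injective F hF
  rw [Nat.card_sigma, Finset.sum_congr rfl (g := fun _ => fx Ω t - 1) fun x _ => ?_,
    Finset.sum_const, smul_eq_mul, Finset.card_univ, ← Nat.card_eq_fintype_card] at h
  · have hn : Nat.card {z : Ω // z ≠ p} + 1 = Nat.card Ω := by
      rw [Nat.card_eq_fintype_card, Nat.card_eq_fintype_card, Fintype.card_subtype_compl,
        Fintype.card_subtype_eq]
      exact Nat.sub_add_cancel (Fintype.card_pos_iff.2 ⟨p⟩)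
    have hf : Nat.card {x : Ω // t • x = x} = fx Ω t := rfl
    rw [hf] at h
    omega
  · rw [← B.fx_class (hvT x)]
    show _ = Nat.card {z : Ω // v x • z = z} - 1
    rw [Nat.card_eq_fintype_card, Nat.card_eq_fintype_card, Fintype.card_subtype_compl]
    congr 1
    exact Fintype.card_eq_one_iff.2 ⟨⟨⟨p, hvp x⟩, rfl⟩, fun z => Subtype.ext (Subtype.ext z.2)⟩

theorem swap_num_ne_one [Finite G] [Finite Ω] {t : G} (ht : InvH a b t) :
    swapNum a b t ≠ 1 := by
  intro hc
  have hb := D.lin_bound (D.lin_of_swap_one ht hc) ht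
  have hfx := D.fixity ht
  have h2 := (D.base ht).two_le_fix
  have hlt := (D.base ht).fix_lt
  rw [hc, one_mul] at hfx
  obtain ⟨k, hk⟩ : ∃ k, fx Ω t = k + 2 := ⟨fx Ω t - 2, by omega⟩
  obtain ⟨d, hd⟩ : ∃ d, Nat.card Ω = fx Ω t + d := ⟨Nat.card Ω - fx Ω t, by omega⟩
  rw [hd, Nat.add_sub_cancel_left, hk] at hfx
  rw [hd, hk] at hb
  simp only [show k + 2 - 1 = k + 1 from by omega] at hfx hb
  nlinarith [hfx, hb]

theorem all_conj [Finite G] {t : G} (ht : InvH a b t)
    (hall : ∀ w : G, Sw a b w → IsConj t w) (u : G) (hu : orderOf u = 2) : IsConj t u := by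
  obtain ⟨w, huw, hwa, -⟩ := (D.base ht).exists_swap_conj hu
  refine (hall w ⟨?_, hwa⟩).trans huw.symm
  exact mul_self_of_orderOf ((Cfsg.Agent.Lib.ConstFix25.orderOf_of_isConj huw).trans hu)

theorem swap_sub {t u : G} (ht : InvH a b t) (h : IsConj t u ∧ u • a = b) : Sw a b u :=
  ⟨mul_self_of_orderOf ((D.base ht).orderOf_class h.1), h.2⟩

theorem caseA_swap {j : G} (hj : CaseA a b j) {u : G} (hu : Sw a b u) :
    ∃ k : G, k • a = a ∧ k • b = b ∧ k * k = 1 ∧ u = j * k := by
  have hka : (j * u) • a = a := by rw [mul_smul, hu.2, hj.1.swap]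
  have hkb : (j * u) • b = b := by rw [mul_smul, hu.swap, hj.1.2]
  refine ⟨j * u, hka, hkb, ?_, by rw [← mul_assoc, hj.1.1, one_mul]⟩
  have hc := (hj.2 _ hka hkb).eq
  have e : u = j * (j * u) := by rw [← mul_assoc, hj.1.1, one_mul]
  have h2 : u * u = 1 := hu.1
  rw [e, show j * (j * u) * (j * (j * u)) = j * ((j * u) * j) * (j * u) by group, ← hc,
    ← mul_assoc j j (j * u), hj.1.1, one_mul] at h2
  exact h2

/-- The three possibilities. -/
theorem swap_cases [Finite G] [Finite Ω] {t : G} (ht : InvH a b t) :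
    (∃ j : G, CaseA a b j ∧ swapNum a b t = 3 ∧ ¬ IsConj t j) ∨
      (∃ j : G, CaseA a b j ∧ swapNum a b t = 4 ∧ ∀ u : G, orderOf u = 2 → IsConj t u) ∨
      (CaseS G a b ∧ swapNum a b t = 6 ∧ ∀ u : G, orderOf u = 2 → IsConj t u) := by
  classical
  rcases D.dichotomy with ⟨j, hj⟩ | hS
  · have hvj : ∀ v : G, InvH a b v → IsConj (j * t) (j * v) := by
      intro v hv
      obtain ⟨g, hga, hgb, rfl⟩ := D.conj ht hv
      refine isConj_iff.2 ⟨g, ?_⟩
      calc g * (j * t) * g⁻¹ = (g * j) * (t * g⁻¹) := by group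
        _ = j * (g * t * g⁻¹) := by rw [← (hj.2 g hga hgb).eq]; group
    have hjt : Sw a b (j * t) := by
      refine ⟨?_, by rw [mul_smul, ht.2.2.1, hj.1.2]⟩
      rw [show j * t * (j * t) = j * (t * j) * t by group, ← (hj.2 t ht.2.2.1 ht.2.2.2).eq,
        ← mul_assoc j j t, hj.1.1, one_mul, ht.1]
    have hcj : swapNum a b t = (if IsConj t j then 1 else 0) + (if IsConj t (j * t) then 3 else 0) := by
      have := Fintype.ofFinite G
      rw [swapNum]
      have hset : {u : G | IsConj t u ∧ u • a = b} =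
          (if IsConj t j then {j} else ∅) ∪
            (if IsConj t (j * t) then (j * ·) '' {v : G | InvH a b v} else ∅) := by
        ext u
        simp only [Set.mem_union, Set.mem_setOf_eq]
        constructor
        · intro hu
          obtain ⟨k, hka, hkb, hk, rfl⟩ := D.caseA_swap hj (D.swap_sub ht hu)
          by_cases h1 : k = 1
          · subst h1
            rw [mul_one] at hu ⊢
            exact Or.inl (by rw [if_pos hu.1]; exact rfl)
          · refine Or.inr ?_
            rw [if_pos (hu.1.trans (hvj k ⟨hk, h1, hka, hkb⟩).symm)]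
            exact ⟨k, ⟨hk, h1, hka, hkb⟩, rfl⟩
        · rintro (h | h) <;> split_ifs at h with hc
          · obtain rfl : u = j := h
            exact ⟨hc, hj.1.2⟩
          · exact h.elim
          · obtain ⟨v, hv, rfl⟩ := h
            exact ⟨hc.trans (hvj v hv), by rw [mul_smul, hv.2.2.1, hj.1.2]⟩
          · exact h.elim
      have hdisj : Disjoint (if IsConj t j then ({j} : Set G) else ∅)
          (if IsConj t (j * t) then (j * ·) '' {v : G | InvH a b v} else ∅) := by
        split_ifs <;> simp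
        exact fun h => h.2.1 rfl
      rw [show Nat.card {u : G // IsConj t u ∧ u • a = b} = Set.ncard {u : G | IsConj t u ∧ u • a = b}
        from Nat.card_coe_set_eq _, hset, Set.ncard_union_eq hdisj (Set.toFinite _) (Set.toFinite _)]
      have h3 : Set.ncard {v : G | InvH a b v} = 3 := by
        rw [← D.pairNum_eq, pairNum, ← Nat.card_coe_set_eq]
        exact Nat.card_congr (Equiv.subtypeEquivRight fun u =>
          ⟨fun h => ⟨h.orderOf, h.2.2⟩,
            fun h => ⟨mul_self_of_orderOf h.1, ne_one_of_orderOf h.1, h.2⟩⟩)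
      split_ifs <;> simp [Set.ncard_image_of_injective _ (mul_right_injective j), h3, -Set.image_mul_left]
    have hne := D.swap_num_ne_one ht
    have hpos := (D.base ht).swap_pos
    by_cases h1 : IsConj t j <;> by_cases h2 : IsConj t (j * t) <;>
      simp only [h1, h2, if_true, if_false] at hcj <;> norm_num at hcj
    · refine Or.inr (Or.inl ⟨j, hj, hcj, D.all_conj ht fun w hw => ?_⟩)
      obtain ⟨k, hka, hkb, hk, rfl⟩ := D.caseA_swap hj hw
      by_cases hk1 : k = 1
      · rw [hk1, mul_one]; exact h1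
      · exact h2.trans (hvj k ⟨hk, hk1, hka, hkb⟩)
    · exact absurd hcj hne
    · exact Or.inl ⟨j, hj, hcj, h1⟩
    · omega
  · obtain ⟨⟨u, hu⟩⟩ := (Nat.card_pos_iff.1 (D.base ht).swap_pos).1
    have hall : ∀ w : G, Sw a b w → IsConj t w :=
      fun w hw => hu.1.trans (hS.conj u w (D.swap_sub ht hu) hw)
    refine Or.inr (Or.inr ⟨hS, ?_, D.all_conj ht hall⟩)
    rw [swapNum, ← hS.card]
    exact Nat.card_congr (Equiv.subtypeEquivRight fun w =>
      ⟨fun h => D.swap_sub ht h, fun h => ⟨hall w h, h.2⟩⟩)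

end Data

end Cfsg.Agent.Lib.TwoTransA4
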