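import Cfsg.Agent.Lib.TwoTransA4.Image

/-!
# Swapping numbers of the induced group
-/

set_option autoImplicit false
set_option linter.unusedSectionVars false

namespace Cfsg.Agent.Lib.TwoTransA4

open MulAction
open Cfsg.Agent.Lib.ConstFix25 (fx mul_self_of_orderOf ne_one_of_orderOf)

variable {G Ω : Type*} [Group G] [MulAction G Ω]

namespace Data

variable {a b : Ω} (D : Data G Ω a b)
include D

theorem swapNum_X_cases [Finite G] [Finite Ω] {t s : G} (ht : InvH a b t) (hL : ¬ Lin G a b)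
    (hs : InvH a b s) (hst : s ≠ t) :
    swapNum (pa ht) (pb ht) (bar (D.commute_invH hs ht) : ↥(X Ω t)) = 1 ∨
      swapNum (pa ht) (pb ht) (bar (D.commute_invH hs ht) : ↥(X Ω t)) = 2 := by
  have h1 := (D.baseX ht hL hs hst).swap_pos
  have h2 := D.swapNum_X_le ht hL hs hst
  omega

/-- A centralising swapper `g` with `g` or `g t` outside the class leaves one swapper in the class. -/
theorem swapNum_X_eq_one [Finite G] [Finite Ω] {t s g : G} (ht : InvH a b t) (hL : ¬ Lin G a b)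
    (hs : InvH a b s) (hst : s ≠ t) (hg : Commute g t) (hga : g • a = b) (hgb : g • b = a)
    (hnot : ¬ (IsConj t g ∧ IsConj t (g * t))) :
    swapNum (pa ht) (pb ht) (bar (D.commute_invH hs ht) : ↥(X Ω t)) = 1 := by
  refine (D.swapNum_X_cases ht hL hs hst).resolve_right fun h2 => hnot ?_
  refine D.class_of_bar_conj ht hs hst hg hga hgb ?_
  have hswap : ∀ u : ↥(X Ω t), IsConj (bar (D.commute_invH hs ht) : ↥(X Ω t)) u →
      u • pa ht = pb ht → u • pb ht = pa ht := by
    intro u hu hua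
    rw [← hua, ← mul_smul, mul_self_of_orderOf ((D.baseX ht hL hs hst).orderOf_class hu), one_smul]
  let ι : {u : ↥(X Ω t) // IsConj (bar (D.commute_invH hs ht) : ↥(X Ω t)) u ∧ u • pa ht = pb ht} →
      {u : ↥(X Ω t) // u • pa ht = pb ht ∧ u • pb ht = pa ht} :=
    fun u => ⟨u.1, u.2.2, hswap u.1 u.2.1 u.2.2⟩
  obtain ⟨u, hu⟩ := ((Nat.bijective_iff_injective_and_card ι).2
    ⟨fun u v h => Subtype.ext (congrArg Subtype.val h :), by
      rw [D.card_swappers ht, D.card_stab_X ht hL hs hst]; exact h2⟩).2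
    ⟨bar hg, Subtype.ext hga, Subtype.ext hgb⟩
  have e : u.1 = bar hg := congrArg Subtype.val hu
  exact e ▸ u.2.1

theorem swapNum_X_three [Finite G] [Finite Ω] {t s j : G} (ht : InvH a b t) (hL : ¬ Lin G a b)
    (hs : InvH a b s) (hst : s ≠ t) (hj : CaseA a b j) (hjt : ¬ IsConj t j) :
    swapNum (pa ht) (pb ht) (bar (D.commute_invH hs ht) : ↥(X Ω t)) = 1 :=
  D.swapNum_X_eq_one ht hL hs hst (hj.2 t ht.2.2.1 ht.2.2.2) hj.1.2 hj.1.swap fun h => hjt h.1

theorem swapNum_X_six [Finite G] [Finite Ω] {t s : G} (ht : InvH a b t) (hL : ¬ Lin G a b)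
    (hs : InvH a b s) (hst : s ≠ t) (hS : CaseS G a b) :
    swapNum (pa ht) (pb ht) (bar (D.commute_invH hs ht) : ↥(X Ω t)) = 1 := by
  obtain ⟨w, hw, hwt, hws⟩ := hS.exists_sw t ht
  refine D.swapNum_X_eq_one ht hL hs hst (g := w * s) (hwt.mul_left (D.commute_invH hs ht))
    (by rw [mul_smul, hs.2.2.1, hw.2]) (by rw [mul_smul, hs.2.2.2, hw.swap]) fun h => ?_
  have hsq := mul_self_of_orderOf ((D.base ht).orderOf_class h.1)
  have e : w * s * (w * s) = t := by
    calc w * s * (w * s) = (w * s * w⁻¹) * s := by rw [inv_eq_self hw.1]; group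
      _ = s * (t * s) := by rw [hws s hs hst, mul_assoc]
      _ = t := by rw [(D.commute_invH ht hs).eq, ← mul_assoc, hs.1, one_mul]
  exact ht.2.1 (e.symm.trans hsq)

/-- The fixity equation of the induced group. -/
theorem fixity_X [Finite G] [Finite Ω] {t s : G} (ht : InvH a b t) (hL : ¬ Lin G a b)
    (hs : InvH a b s) (hst : s ≠ t) :
    fx Ω t = fx (W Ω t) (bar (D.commute_invH hs ht) : ↥(X Ω t)) +
      swapNum (pa ht) (pb ht) (bar (D.commute_invH hs ht) : ↥(X Ω t)) *
        (fx (W Ω t) (bar (D.commute_invH hs ht) : ↥(X Ω t)) *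
          (fx (W Ω t) (bar (D.commute_invH hs ht) : ↥(X Ω t)) - 1)) := by
  have B := D.baseX ht hL hs hst
  have h := B.fixity
  rw [D.pairNum_X ht hL hs hst, one_mul] at h
  have hlt : fx (W Ω t) (bar (D.commute_invH hs ht) : ↥(X Ω t)) < fx Ω t := B.fix_lt
  change fx Ω t - _ = _ at h
  omega

end Data

end Cfsg.Agent.Lib.TwoTransA4
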