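import Cfsg.Agent.Lib.TwoTransA4.EvenRatio
import Cfsg.Agent.Lib.TwoTransA4.SwapX
import Cfsg.Agent.Lib.Perm.Sharply2

/-!
# Even degree: four configurations
-/

set_option autoImplicit false
set_option linter.unusedSectionVars false

namespace Cfsg.Agent.Lib.TwoTransA4

open MulAction
open Cfsg.Agent.Lib.ConstFix25 (fx mul_self_of_orderOf ne_one_of_orderOf)

variable {G Ω : Type*} [Group G] [MulAction G Ω]

namespace Base

variable {a b : Ω} {t : G} (B : Base G Ω a b t)
include B

/-- If only `1` and `t` fix a pair, the centraliser is sharply doubly transitive on the fixed points. -/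
theorem fix_prime_pow [Finite G] [Finite Ω]
    (h2 : ∀ g : G, g • a = a → g • b = b → g = 1 ∨ g = t) :
    ∃ p k : ℕ, p.Prime ∧ fx Ω t = p ^ k := by
  classical
  have := Fintype.ofFinite (W Ω t)
  have htwo : IsMultiplyPretransitive ↥(X Ω t) (W Ω t) 2 := by
    refine is_two_pretransitive_iff.2 ?_
    intro x y z w hxy hzw
    obtain ⟨g, hgt, hga, hgb⟩ := B.cent_two (fun e => hxy (Subtype.ext e)) x.2 y.2
    obtain ⟨k, hkt, hka, hkb⟩ := B.cent_two (fun e => hzw (Subtype.ext e)) z.2 w.2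
    refine ⟨bar (hkt.mul_left hgt.inv_left), Subtype.ext ?_, Subtype.ext ?_⟩
    · rw [bar_smul, mul_smul, ← hga, inv_smul_smul, hka]
    · rw [bar_smul, mul_smul, ← hgb, inv_smul_smul, hkb]
  have hcard : 2 ≤ Fintype.card (W Ω t) := by
    rw [← Nat.card_eq_fintype_card]; exact B.two_le_fix
  have hsharp : ∀ p : Fin 2 ↪ W Ω t, stabilizer ↥(X Ω t) p = ⊥ := by
    intro p
    refine (Subgroup.eq_bot_iff_forall _).2 fun x hx => ?_
    have h0 : x • p 0 = p 0 := congrArg (fun q : Fin 2 ↪ W Ω t => q 0) hx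
    have h1 : x • p 1 = p 1 := congrArg (fun q : Fin 2 ↪ W Ω t => q 1) hx
    have hp : p 0 ≠ p 1 := fun e => absurd (p.injective e) (by decide)
    obtain ⟨g, hg, rfl⟩ := exists_bar x
    obtain ⟨k, hk, hka, hkb⟩ := B.cent_two (fun e => hp (Subtype.ext e)) (p 0).2 (p 1).2
    have ha : (k⁻¹ * g * k) • a = a := by
      rw [mul_smul, mul_smul, hka, ← bar_smul hg, h0, ← hka, inv_smul_smul]
    have hb : (k⁻¹ * g * k) • b = b := by
      rw [mul_smul, mul_smul, hkb, ← bar_smul hg, h1, ← hkb, inv_smul_smul]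
    refine (bar_eq_one_iff hg).2 fun y hy => ?_
    rw [show g = k * (k⁻¹ * g * k) * k⁻¹ by group, mul_smul, mul_smul]
    have hy' : t • k⁻¹ • y = k⁻¹ • y := by rw [← mul_smul, ← hk.inv_left.eq, mul_smul, hy]
    rcases h2 _ ha hb with h | h <;> rw [h]
    · rw [one_smul, smul_inv_smul]
    · rw [hy', smul_inv_smul]
  obtain ⟨p, j, -, hp, -, hj, -⟩ := Cfsg.Agent.Lib.Perm.Sharply2.exists_kernel hsharp hcard
  exact ⟨p, j, hp, by rw [← hj, ← Nat.card_eq_fintype_card]; rfl⟩

end Base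

theorem not_prime_pow_six : ¬ ∃ p k : ℕ, p.Prime ∧ 6 = p ^ k := by
  rintro ⟨p, k, hp, h⟩
  have h2 : p = 2 := ((Nat.prime_dvd_prime_iff_eq Nat.prime_two hp).1
    (Nat.prime_two.dvd_of_dvd_pow (h ▸ (by norm_num : 2 ∣ 6)))).symm
  have h3 : p = 3 := ((Nat.prime_dvd_prime_iff_eq Nat.prime_three hp).1
    (Nat.prime_three.dvd_of_dvd_pow (h ▸ (by norm_num : 3 ∣ 6)))).symm
  omega

namespace Data

variable {a b : Ω} (D : Data G Ω a b)
include D

theorem card_le_factorial [Finite G] [Finite Ω] :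
    Nat.card Ω * (Nat.card Ω - 1) * 12 ≤ (Nat.card Ω).factorial := by
  classical
  have := Fintype.ofFinite Ω
  haveI := D.faithful
  have h : Nat.card G ≤ Nat.card (Equiv.Perm Ω) :=
    Nat.card_le_card_of_injective (MulAction.toPermHom G Ω) MulAction.toPerm_injective
  rw [Nat.card_perm, Cfsg.Agent.Lib.ConstFix25.card_group D.two D.ne,
    Cfsg.Agent.Lib.ConstFix25.card_offDiag, D.card_H] at h
  exact h

/-- The configurations of even degree. -/
theorem even_cases [Finite G] [Finite Ω] {t : G} (ht : InvH a b t) (heven : Even (Nat.card Ω)) :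
    (∃ j, CaseA a b j ∧ ¬ IsConj t j ∧ swapNum a b t = 3 ∧ Lin G a b ∧ fx Ω t = 4 ∧
        Nat.card Ω = 16) ∨
      Nat.card Ω = 6 ∨
      (swapNum a b t = 6 ∧ fx Ω t = 4 ∧ Nat.card Ω = 28) := by
  have hfe : Even (fx Ω t) := (D.base ht).even_iff.1 heven
  have hf2 := (D.base ht).two_le_fix
  have hlt := (D.base ht).fix_lt
  obtain ⟨ρ, hρ, hρ1, hρ2⟩ := D.even_ratio ht heven
  have hfx := D.fixity ht
  obtain ⟨d, hd⟩ : ∃ d, Nat.card Ω = fx Ω t + d := ⟨Nat.card Ω - fx Ω t, by omega⟩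
  rw [hd, Nat.add_sub_cancel_left] at hfx
  have hnq : (3 : ℚ) * d = (swapNum a b t : ℚ) * (fx Ω t * ((fx Ω t : ℚ) - 1)) := by
    have : ((fx Ω t - 1 : ℕ) : ℚ) = (fx Ω t : ℚ) - 1 := by
      rw [Nat.cast_sub (by omega)]; norm_num
    rw [← this]
    exact_mod_cast hfx
  rw [hd, Nat.cast_add] at hρ
  have hfq : (0 : ℚ) < (fx Ω t : ℚ) - 1 := by
    have : (2 : ℚ) ≤ fx Ω t := by exact_mod_cast hf2
    linarith
  by_cases hL : Lin G a b
  · -- collinear
    have hcard : (Nat.card D.centFour : ℚ) = 4 * ((fx Ω t : ℚ) - 1) := by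
      rw [D.centFour_lin ht hL hfe, D.card_cent_stab ht, Nat.cast_mul,
        Nat.cast_sub (show 1 ≤ fx Ω t by omega)]
      norm_num
    rw [hcard] at hρ
    have hkey : ρ = 3 + (swapNum a b t : ℚ) * fx Ω t := by
      have h1 : (64 * ((fx Ω t : ℚ) - 1) ^ 3) * (ρ - (3 + (swapNum a b t : ℚ) * fx Ω t)) = 0 := by
        linear_combination (-1 : ℚ) * hρ + (64 * ((fx Ω t : ℚ) - 1) ^ 2) * hnq
      rcases mul_eq_zero.1 h1 with h | h
      · exact absurd h (mul_ne_zero (by norm_num) (pow_ne_zero 3 hfq.ne'))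
      · linarith
    rw [hkey] at hρ2
    have hle : swapNum a b t * fx Ω t ≤ 15 := by
      have : ((swapNum a b t * fx Ω t : ℕ) : ℚ) ≤ 15 := by push_cast; linarith
      exact_mod_cast this
    obtain ⟨k, hk⟩ := hfe
    rcases D.swap_cases ht with ⟨j, hj, hc, hjt⟩ | ⟨j, hj, hc, -⟩ | ⟨hS, hc, -⟩ <;>
      rw [hc] at hle hfx
    · rcases (show fx Ω t = 2 ∨ fx Ω t = 4 by omega) with h | h <;> rw [h] at hfx
      · have h4 := D.card_le_factorial
        rw [hd, h, show d = 2 by omega] at h4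
        norm_num [Nat.factorial] at h4
      · exact Or.inl ⟨j, hj, hjt, hc, hL, h, by omega⟩
    · rw [show fx Ω t = 2 by omega] at hfx
      omega
    · rw [show fx Ω t = 2 by omega] at hfx
      exact Or.inr (Or.inl (by omega))
  · -- twisted
    obtain ⟨s, hs, hst⟩ := D.exists_invol_ne ht
    set sb : ↥(X Ω t) := bar (D.commute_invH hs ht) with hsb
    have BX := D.baseX ht hL hs hst
    have hee : Even (fx (W Ω t) sb) := BX.even_iff.1 hfe
    have he2 : 2 ≤ fx (W Ω t) sb := BX.two_le_fix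
    have hcard : (Nat.card D.centFour : ℚ) = 4 * ((fx (W Ω t) sb : ℚ) - 1) := by
      rw [D.card_centFour ht hL hs hst hee, Nat.cast_mul,
        Nat.cast_sub (show 1 ≤ fx (W Ω t) sb by omega)]
      norm_num
    rw [hcard] at hρ
    have hfX := D.fixity_X ht hL hs hst
    rw [← hsb] at hfX
    set e := fx (W Ω t) sb
    set c' := swapNum (pa ht) (pb ht) sb with hc'
    have hkey : (3 + (swapNum a b t : ℚ) * fx Ω t) * ((e : ℚ) - 1) ^ 2 =
        ρ * ((fx Ω t : ℚ) - 1) ^ 2 := by
      have h1 : (64 * ((fx Ω t : ℚ) - 1)) * ((3 + (swapNum a b t : ℚ) * fx Ω t) * ((e : ℚ) - 1) ^ 2 -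
          ρ * ((fx Ω t : ℚ) - 1) ^ 2) = 0 := by
        linear_combination hρ - (64 * ((e : ℚ) - 1) ^ 2) * hnq
      rcases mul_eq_zero.1 h1 with h | h
      · exact absurd h (mul_ne_zero (by norm_num) hfq.ne')
      · linarith
    have heq : (2 : ℚ) ≤ e := by exact_mod_cast he2
    have hcast : (((e : ℕ) - 1 : ℕ) : ℚ) = (e : ℚ) - 1 := by rw [Nat.cast_sub (by omega)]; norm_num
    -- cancel `(e - 1)²`
    have hone : c' = 1 → (fx Ω t : ℚ) = e ^ 2 ∧
        3 + (swapNum a b t : ℚ) * e ^ 2 = ρ * ((e : ℚ) + 1) ^ 2 := by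
      intro h1
      have hf : (fx Ω t : ℚ) = e ^ 2 := by
        rw [hfX, h1]; push_cast [hcast]; ring
      refine ⟨hf, ?_⟩
      rw [hf] at hkey
      have h1 : ((e : ℚ) - 1) ^ 2 *
          (3 + (swapNum a b t : ℚ) * e ^ 2 - ρ * ((e : ℚ) + 1) ^ 2) = 0 := by
        linear_combination hkey
      rcases mul_eq_zero.1 h1 with h | h
      · exact absurd h (pow_ne_zero 2 (by linarith))
      · linarith
    rcases D.swap_cases ht with ⟨j, hj, hc, hjt⟩ | ⟨j, hj, hc, -⟩ | ⟨hS, hc, -⟩
    · obtain ⟨-, h⟩ := hone (D.swapNum_X_three ht hL hs hst hj hjt)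
      rw [hc] at h
      push_cast at h
      exfalso
      rcases hρ1 with hr | hr
      · subst hr; nlinarith
      · nlinarith
    · exfalso
      rcases D.swapNum_X_cases ht hL hs hst with h1 | h1
      · obtain ⟨-, h⟩ := hone h1
        rw [hc] at h
        push_cast at h
        rcases hρ1 with hr | hr
        · subst hr
          have he6 : (e : ℚ) = 6 := by
            have h0 : (e : ℚ) * ((e : ℚ) - 6) = 0 := by linear_combination h
            rcases mul_eq_zero.1 h0 with h' | h' <;> linarith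
          have hne := D.bar_ne_one ht hL hs hst
          refine not_prime_pow_six ?_
          obtain ⟨p, k, hp, hpk⟩ := BX.fix_prime_pow fun g hga hgb => D.fix_X_cases ht hs hst hga hgb
          exact ⟨p, k, hp, by rw [← hpk]; exact_mod_cast he6.symm⟩
        · nlinarith
      · have hf : (fx Ω t : ℚ) = e + 2 * (e * ((e : ℚ) - 1)) := by
          rw [hfX, show c' = 2 from h1]; push_cast [hcast]; ring
        rw [hc, hf] at hkey
        push_cast at hkey
        have h0 : ((e : ℚ) - 1) ^ 2 * (3 + 4 * (e + 2 * (e * ((e : ℚ) - 1))) -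
            ρ * (2 * (e : ℚ) + 1) ^ 2) = 0 := by
          linear_combination hkey
        rcases mul_eq_zero.1 h0 with h | h
        · exact absurd h (pow_ne_zero 2 (by linarith))
        · rcases hρ1 with hr | hr
          · subst hr; nlinarith
          · nlinarith
    · obtain ⟨hf, h⟩ := hone (D.swapNum_X_six ht hL hs hst hS)
      rw [hc] at h
      push_cast at h
      rcases hρ1 with hr | hr
      · subst hr
        have he : (e : ℚ) = 2 := by
          have h0 : (e : ℚ) * ((e : ℚ) - 2) = 0 := by linear_combination (1 / 3 : ℚ) * h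
          rcases mul_eq_zero.1 h0 with h' | h' <;> linarith
        rw [he] at hf
        norm_num at hf
        have hf4 : fx Ω t = 4 := by exact_mod_cast hf
        refine Or.inr (Or.inr ⟨hc, hf4, ?_⟩)
        rw [hc, hf4] at hfx
        omega
      · exfalso
        nlinarith

end Data

end Cfsg.Agent.Lib.TwoTransA4
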