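import Cfsg.Agent.S0948
import Cfsg.Agent.Lib.KleinBlock.Formula
import Cfsg.Agent.Lib.Blocks.LocalRing
import Mathlib.Tactic.Linarith
import Mathlib.Tactic.Positivity

/-!
# The order ratio of a group with a fused four group as Sylow subgroup

`|G| |C(V)|² = ρ |C(J)|³` with `ρ = 3` or `6 ≤ ρ`, and `ρ ≤ 18`.
-/

set_option autoImplicit false

namespace Cfsg.Agent.Lib.TwoTransA4

universe u

/-- No normal complement when all involutions are conjugate. -/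
theorem no_complement {G : Type u} [Group G] [Finite G] (P : Sylow 2 G)
    (hP : IsKleinFour (P : Subgroup G)) (hone : ∀ s t : G, orderOf s = 2 → orderOf t = 2 → IsConj s t)
    {g₀ : ℕ} (hg₀ : Odd g₀) (hG : Nat.card G = 4 * g₀) :
    ¬ ∃ N : Subgroup G, N.Normal ∧ Nat.card N = g₀ := by
  rintro ⟨N, hN, hcard⟩
  have hc := (Involutions.KleinSylow.card_classes_eq_three_iff hP).2 ⟨N, hN, ?_⟩
  · have h1 : Nat.card (Involutions.KleinSylow.InvClasses G) ≤ 1 := by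
      refine Finite.card_le_one_iff_subsingleton.2 ⟨?_⟩
      rintro ⟨C, s, hs, rfl⟩ ⟨C', s', hs', rfl⟩
      exact Subtype.ext (ConjClasses.mk_eq_mk_iff_isConj.2 (hone s s' hs hs'))
    omega
  · refine Subgroup.isComplement'_of_coprime (by rw [hcard, hP.card_four, hG, mul_comm]) ?_
    rw [hcard, hP.card_four]
    exact (Nat.coprime_two_right.2 hg₀).pow_right 2

theorem ratio_one (k : ℕ) (hk : 0 < k) (h4 : (4 : ℤ) ∣ (k : ℤ) - 1) :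
    (4 * (k : ℚ) * (2 * k + 1) / (k + 1) ^ 2 = 3 ∨ 6 ≤ 4 * (k : ℚ) * (2 * k + 1) / (k + 1) ^ 2) ∧
      4 * (k : ℚ) * (2 * k + 1) / (k + 1) ^ 2 ≤ 18 := by
  have hpos : (0 : ℚ) < (k + 1) ^ 2 := by positivity
  have h0 : (1 : ℚ) ≤ k := by exact_mod_cast hk
  refine ⟨?_, by rw [div_le_iff₀ hpos]; nlinarith⟩
  rcases eq_or_ne k 1 with rfl | h1
  · left; norm_num
  · right
    have h5 : (5 : ℚ) ≤ k := by exact_mod_cast (show 5 ≤ k by omega)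
    rw [le_div_iff₀ hpos]
    nlinarith

theorem ratio_neg (x₁ x₂ x₃ : ℕ) (h1 : 0 < x₁) (hd1 : (4 : ℤ) ∣ (x₁ : ℤ) - 1)
    (h2 : 0 < x₂) (hd2 : (4 : ℤ) ∣ (x₂ : ℤ) + 1) (h3 : 0 < x₃) (hd3 : (4 : ℤ) ∣ (x₃ : ℤ) + 1)
    (hrel : (1 : ℤ) + x₁ - x₂ - x₃ = 0) :
    6 ≤ 8 * ((x₁ : ℚ) / (x₁ + 1) * (x₂ / (x₂ - 1)) * (x₃ / (x₃ - 1))) ∧
      8 * ((x₁ : ℚ) / (x₁ + 1) * (x₂ / (x₂ - 1)) * (x₃ / (x₃ - 1))) ≤ 18 := by
  have g1 : (5 : ℚ) ≤ x₁ := by exact_mod_cast (show 5 ≤ x₁ by omega)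
  have g2 : (3 : ℚ) ≤ x₂ := by exact_mod_cast (show 3 ≤ x₂ by omega)
  have g3 : (3 : ℚ) ≤ x₃ := by exact_mod_cast (show 3 ≤ x₃ by omega)
  have a0 : (5 : ℚ) / 6 ≤ x₁ / (x₁ + 1) := by rw [le_div_iff₀ (by linarith)]; linarith
  have a1 : (x₁ : ℚ) / (x₁ + 1) ≤ 1 := by rw [div_le_iff₀ (by linarith)]; linarith
  have b0 : (1 : ℚ) ≤ x₂ / (x₂ - 1) := by rw [le_div_iff₀ (by linarith)]; linarith
  have b1 : (x₂ : ℚ) / (x₂ - 1) ≤ 3 / 2 := by rw [div_le_iff₀ (by linarith)]; linarith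
  have c0 : (1 : ℚ) ≤ x₃ / (x₃ - 1) := by rw [le_div_iff₀ (by linarith)]; linarith
  have c1 : (x₃ : ℚ) / (x₃ - 1) ≤ 3 / 2 := by rw [div_le_iff₀ (by linarith)]; linarith
  constructor
  · have h := mul_le_mul (mul_le_mul a0 b0 (by norm_num) (by linarith)) c0 (by norm_num)
      (mul_nonneg (by linarith) (by linarith))
    linarith
  · have h := mul_le_mul (mul_le_mul a1 b1 (by linarith) (by norm_num)) c1 (by linarith) (by norm_num)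
    linarith

/-- The ratio. -/
theorem ratio {G : Type u} [Group G] [Finite G] (P : Sylow 2 G) (hP : IsKleinFour (P : Subgroup G))
    (hone : ∀ s t : G, orderOf s = 2 → orderOf t = 2 → IsConj s t) {J : G}
    (hJ : J ∈ (P : Subgroup G)) (hJ2 : orderOf J = 2) :
    ∃ ρ : ℚ, (Nat.card G : ℚ) *
        (Nat.card (Subgroup.centralizer ((P : Subgroup G) : Set G)) : ℚ) ^ 2 =
        ρ * (Nat.card (Subgroup.centralizer ({J} : Set G)) : ℚ) ^ 3 ∧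
      (ρ = 3 ∨ 6 ≤ ρ) ∧ ρ ≤ 18 := by
  haveI : Fact (Nat.Prime 2) := ⟨Nat.prime_two⟩
  obtain ⟨M, hM⟩ := Cfsg.Agent.Lib.Blocks.exists_isPModular 2 Nat.prime_two
  obtain ⟨ζ₂, ζ₃, ζ₄, ε, hε, hn2, hn3, h23, h24, h34, hB, hval, hd2, hd3, hd4, hrel⟩ :=
    Cfsg.Agent.S0948.result M hM P hP hone
  obtain ⟨g₀, hg⟩ : 4 ∣ Nat.card G := hP.card_four ▸ Subgroup.card_subgroup_dvd_card _
  have hg₀ : Odd g₀ := by
    have h := P.not_dvd_index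
    have hi := Subgroup.card_mul_index (P : Subgroup G)
    rw [hP.card_four, hg] at hi
    rw [show (P : Subgroup G).index = g₀ by omega] at h
    exact Nat.odd_iff.2 (by omega)
  obtain ⟨e2, e3, e4⟩ := hval J hJ2
  have hn4 : (ζ₄ : G → ℂ) ≠ fun _ => 1 := fun h => by
    rw [h] at e4
    norm_num at e4
  obtain ⟨n, D⟩ := Cfsg.Agent.Lib.KleinBlock.exists_data M hM g₀ hg₀ hg
    (no_complement P hP hone hg₀ hg) P J hJ hJ2 ζ₂ ζ₃ ζ₄ 1 ε (-1) hB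
    ⟨hn2, hn3, hn4, h23, h24, h34⟩ ⟨Or.inl rfl, hε, Or.inr rfl⟩
    ⟨by rw [e2]; simp, e3, by rw [e4]; simp⟩
  have hf := D.formula
  have p2 : 0 < Cfsg.charDegree (ζ₂ : G → ℂ) := Cfsg.Agent.Lib.Blocks.charDegree_pos ζ₂
  have p3 : 0 < Cfsg.charDegree (ζ₃ : G → ℂ) := Cfsg.Agent.Lib.Blocks.charDegree_pos ζ₃
  have p4 : 0 < Cfsg.charDegree (ζ₄ : G → ℂ) := Cfsg.Agent.Lib.Blocks.charDegree_pos ζ₄
  have hr : (1 : ℤ) + (Cfsg.charDegree (ζ₂ : G → ℂ) : ℤ) +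
      ε * Cfsg.charDegree (ζ₃ : G → ℂ) - Cfsg.charDegree (ζ₄ : G → ℂ) = 0 := by
    have h := hrel 1 (by simp)
    simp only [Cfsg.Agent.Lib.Blocks.char_one_eq_degree] at h
    exact_mod_cast h
  have hcP : (Nat.card (Subgroup.centralizer ((P : Subgroup G) : Set G)) : ℚ) ≠ 0 :=
    Nat.cast_ne_zero.2 Nat.card_pos.ne'
  set x₁ := Cfsg.charDegree (ζ₂ : G → ℂ)
  set x₂ := Cfsg.charDegree (ζ₃ : G → ℂ)
  set x₃ := Cfsg.charDegree (ζ₄ : G → ℂ)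
  have key : ∀ ρ : ℚ, 8 * (((x₁ : ℚ) * x₂ * x₃) / ((x₁ + (1 : ℤ)) * (x₂ + ε) * (x₃ + (-1 : ℤ))))
      = ρ → (Nat.card G : ℚ) *
        (Nat.card (Subgroup.centralizer ((P : Subgroup G) : Set G)) : ℚ) ^ 2 =
        ρ * (Nat.card (Subgroup.centralizer ({J} : Set G)) : ℚ) ^ 3 := by
    intro ρ hρ
    rw [hf, hρ, div_mul_cancel₀ _ (pow_ne_zero 2 hcP)]
  rcases hε with rfl | rfl
  · have heq : x₁ = x₂ := D.degree_eq rfl rfl rfl
    have h3 : x₃ = 2 * x₁ + 1 := by omega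
    refine ⟨4 * (x₁ : ℚ) * (2 * x₁ + 1) / (x₁ + 1) ^ 2, key _ ?_, ratio_one x₁ p2 hd2⟩
    rw [← heq, h3]
    push_cast
    have e1 : (x₁ : ℚ) ≠ 0 := Nat.cast_ne_zero.2 p2.ne'
    have e2 : (x₁ : ℚ) + 1 ≠ 0 := by positivity
    rw [show (2 * (x₁ : ℚ) + 1 + -1) = 2 * x₁ by ring]
    field_simp
    ring
  · obtain ⟨h6, h18⟩ := ratio_neg x₁ x₂ x₃ p2 hd2 p3 (by simpa using hd3) p4 hd4 (by omega)
    refine ⟨_, key _ ?_, Or.inr h6, h18⟩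
    push_cast
    rw [div_mul_div_comm, div_mul_div_comm]
    ring

end Cfsg.Agent.Lib.TwoTransA4
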