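import Cfsg.Agent.Lib.TwoTransA4.PointStab
import Cfsg.Agent.Lib.TwoTransA4.FourRatio

/-!
# Even degree: the order formula of the point stabiliser
-/

set_option autoImplicit false
set_option linter.unusedSectionVars false

namespace Cfsg.Agent.Lib.TwoTransA4

open MulAction
open Cfsg.Agent.Lib.ConstFix25 (fx mul_self_of_orderOf ne_one_of_orderOf)

variable {G Ω : Type*} [Group G] [MulAction G Ω]

theorem isKleinFour_of {V : Type*} [Group V] [Finite V] (h4 : Nat.card V = 4)
    (hsq : ∀ v : V, v * v = 1) : IsKleinFour V := by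
  haveI : Nontrivial V := Finite.one_lt_card_iff_nontrivial.1 (by omega)
  exact ⟨h4, (Monoid.exponent_eq_prime_iff Nat.prime_two).2 fun v hv =>
    orderOf_eq_prime (by rw [pow_two]; exact hsq v) hv⟩

theorem card_centralizer_subgroup (K : Subgroup G) (S : Set ↥K) :
    Nat.card ↥(Subgroup.centralizer S) =
      Nat.card ↥(Subgroup.centralizer ((Subtype.val '' S) : Set G) ⊓ K) := by
  refine Nat.card_congr
    { toFun := fun x => ⟨x.1.1, fun v hv => ?_, x.1.2⟩
      invFun := fun x => ⟨⟨x.1, x.2.2⟩, fun v hv => Subtype.ext (x.2.1 _ ⟨v, hv, rfl⟩)⟩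
      left_inv := fun x => rfl
      right_inv := fun x => rfl }
  obtain ⟨w, hw, rfl⟩ := hv
  exact congrArg Subtype.val (x.2 w hw)

namespace Data

variable {a b : Ω} (D : Data G Ω a b)
include D

/-- The ratio in even degree, in terms of `cP = |C_{G_a}(V)|`. -/
theorem even_ratio [Finite G] [Finite Ω] {t : G} (ht : InvH a b t) (heven : Even (Nat.card Ω)) :
    ∃ ρ : ℚ, (12 * ((Nat.card Ω : ℚ) - 1)) * (Nat.card D.centFour : ℚ) ^ 2 =
        ρ * (4 * ((fx Ω t : ℚ) - 1)) ^ 3 ∧ (ρ = 3 ∨ 6 ≤ ρ) ∧ ρ ≤ 18 := by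
  haveI : Fact (Nat.Prime 2) := ⟨Nat.prime_two⟩
  have hle : D.fourSub ≤ stabilizer G a := fun g hg => hg.1
  set V := D.fourSub.subgroupOf (stabilizer G a) with hV
  have hV4 : Nat.card V = 4 := by
    rw [Nat.card_congr (Subgroup.subgroupOfEquivOfLe hle).toEquiv, D.card_fourSub]
  have hfac : (Nat.card ↥(stabilizer G a)).factorization 2 = 2 := by
    rw [D.card_stab, show 12 * (Nat.card Ω - 1) = 4 * (3 * (Nat.card Ω - 1)) by ring]
    obtain ⟨k, hk⟩ := heven
    have h1 : 2 ≤ Nat.card Ω := le_trans ((D.base ht).two_le_fix) (D.base ht).fix_lt.le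
    rw [Nat.factorization_mul (by norm_num) (by omega), Finsupp.add_apply,
      Nat.factorization_eq_zero_of_not_dvd (n := 3 * (Nat.card Ω - 1)) (by omega), add_zero,
      show (4 : ℕ) = 2 ^ 2 by norm_num, Nat.prime_two.factorization_pow, Finsupp.single_eq_same]
  let P : Sylow 2 ↥(stabilizer G a) := Sylow.ofCard V (by rw [hV4, hfac]; rfl)
  have hP : (P : Subgroup ↥(stabilizer G a)) = V := Sylow.coe_ofCard _ _
  have hsq : ∀ v : ↥(P : Subgroup ↥(stabilizer G a)), v * v = 1 := fun v => by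
    have h : (v : ↥(stabilizer G a)) ∈ V := hP ▸ v.2
    exact Subtype.ext (Subtype.ext h.2.2)
  have hklein : IsKleinFour (P : Subgroup ↥(stabilizer G a)) :=
    isKleinFour_of (by rw [hP, hV4]) hsq
  have hone : ∀ u v : ↥(stabilizer G a), orderOf u = 2 → orderOf v = 2 → IsConj u v := by
    intro u v hu hv
    have hmem : ∀ x : ↥(stabilizer G a), orderOf x = 2 →
        ∃ g : ↥(stabilizer G a), InvH a b ((g * x * g⁻¹ : ↥(stabilizer G a)) : G) := by
      intro x hx
      have hp : IsPGroup 2 ↥(Subgroup.zpowers x) :=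
        IsPGroup.of_card (n := 1) (by rw [Nat.card_zpowers, hx, pow_one])
      obtain ⟨Q, hQ⟩ := hp.exists_le_sylow
      obtain ⟨g, hg⟩ := MulAction.exists_smul_eq ↥(stabilizer G a) Q P
      refine ⟨g, ?_⟩
      have h : g * x * g⁻¹ ∈ (P : Subgroup ↥(stabilizer G a)) := by
        rw [← hg, Sylow.coe_subgroup_smul]
        exact ⟨x, hQ (Subgroup.mem_zpowers x), rfl⟩
      rw [hP] at h
      refine ⟨h.2.2, fun e => ?_, h.1, h.2.1⟩
      have : g * x * g⁻¹ = 1 := Subtype.ext e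
      rw [conj_eq_one_iff.1 this, orderOf_one] at hx
      norm_num at hx
    obtain ⟨g, hg⟩ := hmem u hu
    obtain ⟨g', hg'⟩ := hmem v hv
    obtain ⟨k, hka, -, hk⟩ := D.conj hg hg'
    refine (isConj_iff.2 ⟨g, rfl⟩).trans ((isConj_iff.2 ⟨⟨k, hka⟩, Subtype.ext hk⟩).trans
      (isConj_iff.2 ⟨g', rfl⟩).symm)
  let J : ↥(stabilizer G a) := ⟨t, ht.2.2.1⟩
  have hJ : J ∈ (P : Subgroup ↥(stabilizer G a)) := by
    rw [hP]; exact ⟨ht.2.2.1, ht.2.2.2, ht.1⟩
  have hJ2 : orderOf J = 2 := (Subgroup.orderOf_coe J).symm.trans ht.orderOf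
  obtain ⟨ρ, hρ, h1, h2⟩ := ratio P hklein hone hJ hJ2
  refine ⟨ρ, ?_, h1, h2⟩
  have e1 : Nat.card (Subgroup.centralizer ((P : Subgroup ↥(stabilizer G a)) :
      Set ↥(stabilizer G a))) = Nat.card D.centFour := by
    rw [card_centralizer_subgroup]
    have hset : ((Subtype.val '' ((P : Subgroup ↥(stabilizer G a)) : Set ↥(stabilizer G a))) : Set G) =
        (D.fourSub : Set G) := by
      rw [hP]
      ext x
      exact ⟨fun ⟨y, hy, e⟩ => e ▸ hy, fun hx => ⟨⟨x, hle hx⟩, hx, rfl⟩⟩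
    rw [hset]
    rfl
  have e2 : Nat.card (Subgroup.centralizer ({J} : Set ↥(stabilizer G a))) = 4 * (fx Ω t - 1) := by
    rw [card_centralizer_subgroup, Set.image_singleton]
    exact D.card_cent_stab ht
  rw [e1, e2, D.card_stab] at hρ
  have h2f := (D.base ht).two_le_fix
  haveI : Nonempty Ω := ⟨a⟩
  have hn : 1 ≤ Nat.card Ω := Nat.card_pos
  push_cast [Nat.cast_sub (show 1 ≤ fx Ω t by omega), Nat.cast_sub hn] at hρ
  exact hρ

/-- In the collinear case the centraliser of `t` in `G_a` centralises the four group. -/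
theorem centFour_lin [Finite G] [Finite Ω] {t : G} (ht : InvH a b t) (hL : Lin G a b)
    (hev : Even (fx Ω t)) :
    D.centFour = Subgroup.centralizer ({t} : Set G) ⊓ stabilizer G a := by
  obtain ⟨s, hs, hst⟩ := D.exists_invol_ne ht
  refine D.centFour_eq ht hs hst _ (D.centFour_le ht) le_rfl ?_ (D.card_cent_stab ht) ?_
  · rintro g ⟨hg, hga⟩
    have hgt : Commute g t := Subgroup.mem_centralizer_singleton_iff.1 hg
    have hfix : ∀ x : Ω, t • x = x → (g * s * g⁻¹) • x = x := by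
      intro x hx
      have h : s • (g⁻¹ • x) = g⁻¹ • x :=
        hL t s ht hs _ (by rw [← mul_smul, ← hgt.inv_left.eq, mul_smul, hx])
      rw [mul_smul, mul_smul, h, smul_inv_smul]
    have hI : InvH a b (g * s * g⁻¹) :=
      ⟨by rw [show g * s * g⁻¹ * (g * s * g⁻¹) = g * (s * s) * g⁻¹ by group, hs.1]; group,
        fun e => hs.2.1 (conj_eq_one_iff.1 e), hfix a ht.2.2.1, hfix b ht.2.2.2⟩
    rcases D.four hs ht hst hI.2.2.1 hI.2.2.2 hI.1 with h | h | h | h
    · exact absurd h hI.2.1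
    · exact Or.inl h
    · refine absurd ?_ hst
      calc s = g⁻¹ * (g * s * g⁻¹) * g := by group
        _ = t := by rw [h, mul_assoc, ← hgt.eq]; group
    · exact Or.inr h
  · obtain ⟨k, hk⟩ := hev
    have := (D.base ht).two_le_fix
    exact ⟨k - 1, by omega⟩

/-- Otherwise its order is `4 (e - 1)`. -/
theorem card_centFour [Finite G] [Finite Ω] {t s : G} (ht : InvH a b t) (hL : ¬ Lin G a b)
    (hs : InvH a b s) (hst : s ≠ t)
    (hev : Even (fx (W Ω t) (bar (D.commute_invH hs ht) : ↥(X Ω t)))) :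
    Nat.card D.centFour = 4 * (fx (W Ω t) (bar (D.commute_invH hs ht) : ↥(X Ω t)) - 1) := by
  set sb : ↥(X Ω t) := bar (D.commute_invH hs ht) with hsb
  have BX := D.baseX ht hL hs hst
  set A := Subgroup.centralizer ({t} : Set G) ⊓ stabilizer G a
  set φ : ↥A →* ↥(X Ω t) :=
    (cmap Ω t).rangeRestrict.comp (Subgroup.inclusion inf_le_left) with hφ
  have hφbar : ∀ g : ↥A, φ g = bar (Subgroup.mem_centralizer_singleton_iff.1 g.2.1) := fun g => rfl
  set B := ((Subgroup.centralizer ({sb} : Set ↥(X Ω t))).comap φ).map A.subtype with hB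
  have hker : Nat.card ↥φ.ker = 2 := by
    refine Nat.card_eq_two_iff.2 ⟨⟨1, φ.ker.one_mem⟩, ⟨⟨t, Subgroup.mem_centralizer_singleton_iff.2
      rfl, ht.2.2.1⟩, ?_⟩, ?_, ?_⟩
    · rw [MonoidHom.mem_ker, hφbar]
      exact (bar_eq_one_iff _).2 fun x hx => hx
    · exact fun e => ht.2.1 (congrArg (fun z : ↥φ.ker => ((z : ↥A) : G)) e).symm
    · refine Set.eq_univ_iff_forall.2 fun x => ?_
      have hx : φ x = 1 := x.2
      replace hx := (bar_eq_one_iff _).1 ((hφbar _).symm.trans hx)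
      rcases D.fix_cases ht hs hst (Subgroup.mem_centralizer_singleton_iff.1 x.1.2.1)
        x.1.2.2 (hx b ht.2.2.2) with h | h | h | h
      · exact Or.inl (Subtype.ext (Subtype.ext h))
      · exact Or.inr (Subtype.ext (Subtype.ext h))
      · exact absurd ((bar_eq_one_iff (D.commute_invH hs ht)).2 fun y hy => h ▸ hx y hy)
          (D.bar_ne_one ht hL hs hst)
      · refine absurd ((bar_eq_one_iff (D.commute_invH hs ht)).2 fun y hy => ?_)
          (D.bar_ne_one ht hL hs hst)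
        have h' := hx y hy
        rwa [h, mul_smul, hy] at h'
  have hrange : φ.range = stabilizer ↥(X Ω t) (pa ht) := by
    ext x
    constructor
    · rintro ⟨g, rfl⟩
      exact Subtype.ext g.2.2
    · intro hx
      obtain ⟨g, hg, rfl⟩ := exists_bar x
      exact ⟨⟨g, mem_cent hg, congrArg Subtype.val hx⟩, rfl⟩
  have hcardB : Nat.card B = 4 * (fx (W Ω t) sb - 1) := by
    rw [hB, Nat.card_congr ((Subgroup.comap φ (Subgroup.centralizer {sb})).equivMapOfInjective
      A.subtype A.subtype_injective).toEquiv.symm, card_comap_eq, hker, hrange]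
    have h := BX.card_cent_inf
    rw [D.pairNum_X ht hL hs hst, D.card_stab_X ht hL hs hst, one_mul] at h
    rw [h]
    ring
  have hmem : ∀ g : G, g ∈ B ↔
      ∃ hg : g ∈ A, φ ⟨g, hg⟩ * sb = sb * φ ⟨g, hg⟩ := by
    intro g
    constructor
    · rintro ⟨x, hx, rfl⟩
      exact ⟨x.2, Subgroup.mem_centralizer_singleton_iff.1 hx⟩
    · rintro ⟨hg, h⟩
      exact ⟨⟨g, hg⟩, Subgroup.mem_centralizer_singleton_iff.2 h, rfl⟩
  obtain ⟨k, hk⟩ := hev
  have h2e : 2 ≤ fx (W Ω t) sb := BX.two_le_fix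
  rw [D.centFour_eq ht hs hst B ?_ (fun g hg => ((hmem g).1 hg).1) ?_ hcardB ⟨k - 1, by omega⟩,
    hcardB]
  · intro g hg
    obtain ⟨hgA, hgs⟩ := (D.mem_centFour ht hs hst).1 hg
    refine (hmem g).2 ⟨hgA, ?_⟩
    have hgt : Commute g t := Subgroup.mem_centralizer_singleton_iff.1 hgA.1
    rw [hφbar, ← bar_mul hgt (D.commute_invH hs ht), ← bar_mul (D.commute_invH hs ht) hgt]
    exact bar_congr _ _ hgs.eq
  · intro g hg
    obtain ⟨hgA, hg'⟩ := (hmem g).1 hg
    have hgt : Commute g t := Subgroup.mem_centralizer_singleton_iff.1 hgA.1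
    have hcom := D.commute_invH hs ht
    rw [hφbar, ← bar_mul hgt hcom, ← bar_mul hcom hgt, bar_eq_iff] at hg'
    set c := s⁻¹ * (g * s * g⁻¹) with hc
    have hcfix : ∀ x : Ω, t • x = x → c • x = x := by
      intro x hx
      have h := hg' (g⁻¹ • x) (by rw [← mul_smul, ← hgt.inv_left.eq, mul_smul, hx])
      rw [hc, mul_smul, inv_smul_eq_iff, mul_smul, h, mul_smul, smul_inv_smul]
    have hct : Commute c t := hcom.inv_left.mul_left ((hgt.mul_left hcom).mul_left hgt.inv_left)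
    have hgs : g * s * g⁻¹ = s * c := by rw [hc, mul_inv_cancel_left]
    rcases D.fix_cases ht hs hst hct (hcfix a ht.2.2.1) (hcfix b ht.2.2.2) with h | h | h | h
    · exact Or.inl (by rw [hgs, h, mul_one])
    · exact Or.inr (by rw [hgs, h])
    · exact absurd ((bar_eq_one_iff hcom).2 fun y hy => h ▸ hcfix y hy)
        (D.bar_ne_one ht hL hs hst)
    · refine absurd ((bar_eq_one_iff hcom).2 fun y hy => ?_) (D.bar_ne_one ht hL hs hst)
      have h' := hcfix y hy
      rwa [h, mul_smul, hy] at h'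

end Data

end Cfsg.Agent.Lib.TwoTransA4
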