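import Cfsg.Agent.Lib.TwoTransA4.Cases

/-!
# The permutation group induced by an involution centraliser on the fixed points
-/

set_option autoImplicit false
set_option linter.unusedSectionVars false

namespace Cfsg.Agent.Lib.TwoTransA4

open MulAction
open Cfsg.Agent.Lib.ConstFix25 (fx two_apply mul_self_of_orderOf ne_one_of_orderOf card_moved
  card_map_pair card_offDiag)

variable {G : Type*} (Ω : Type*) [Group G] [MulAction G Ω]

/-- The fixed points of `t`. -/
abbrev W (t : G) : Type _ := {x : Ω // t • x = x}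

/-- The centraliser of `t` acting on the fixed points of `t`. -/
def cmap (t : G) : ↥(Subgroup.centralizer ({t} : Set G)) →* Equiv.Perm (W Ω t) where
  toFun g := (MulAction.toPerm (g : G)).subtypeEquiv fun x => by
    rw [MulAction.toPerm_apply, ← mul_smul t, ← Subgroup.mem_centralizer_singleton_iff.1 g.2,
      mul_smul, smul_left_cancel_iff]
  map_one' := by
    ext x
    show (((1 : ↥(Subgroup.centralizer ({t} : Set G))) : G) • x.1 : Ω) = x.1
    rw [OneMemClass.coe_one, one_smul]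
  map_mul' g h := by
    ext x
    show (((g * h : ↥(Subgroup.centralizer ({t} : Set G))) : G) • x.1 : Ω) =
      (g : G) • ((h : G) • x.1)
    rw [Subgroup.coe_mul, mul_smul]

/-- The induced group. -/
abbrev X (t : G) : Subgroup (Equiv.Perm (W Ω t)) := (cmap Ω t).range

variable {Ω} {t : G}

theorem mem_cent {g : G} (h : Commute g t) : g ∈ Subgroup.centralizer ({t} : Set G) :=
  Subgroup.mem_centralizer_singleton_iff.2 h.eq

/-- The image of a centralising element. -/
def bar {g : G} (h : Commute g t) : ↥(X Ω t) := (cmap Ω t).rangeRestrict ⟨g, mem_cent h⟩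

theorem bar_smul {g : G} (h : Commute g t) (x : W Ω t) :
    (((bar h : ↥(X Ω t)) • x : W Ω t) : Ω) = g • x.1 := rfl

theorem bar_mul {g k : G} (hg : Commute g t) (hk : Commute k t) :
    (bar (hg.mul_left hk) : ↥(X Ω t)) = bar hg * bar hk :=
  map_mul (cmap Ω t).rangeRestrict ⟨g, mem_cent hg⟩ ⟨k, mem_cent hk⟩

theorem bar_one : (bar (Commute.one_left t) : ↥(X Ω t)) = 1 :=
  map_one (cmap Ω t).rangeRestrict

theorem bar_inv {g : G} (hg : Commute g t) : (bar hg.inv_left : ↥(X Ω t)) = (bar hg)⁻¹ :=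
  map_inv (cmap Ω t).rangeRestrict ⟨g, mem_cent hg⟩

theorem bar_congr {g k : G} (hg : Commute g t) (hk : Commute k t) (e : g = k) :
    (bar hg : ↥(X Ω t)) = bar hk := by
  subst e; rfl

theorem exists_bar (x : ↥(X Ω t)) : ∃ (g : G) (h : Commute g t), bar h = x := by
  obtain ⟨⟨g, hg⟩, rfl⟩ := (cmap Ω t).rangeRestrict_surjective x
  exact ⟨g, Subgroup.mem_centralizer_singleton_iff.1 hg, rfl⟩

theorem bar_eq_one_iff {g : G} (h : Commute g t) :
    (bar h : ↥(X Ω t)) = 1 ↔ ∀ x : Ω, t • x = x → g • x = x := by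
  constructor
  · intro e x hx
    have := bar_smul h (⟨x, hx⟩ : W Ω t)
    rw [e, one_smul] at this
    exact this.symm
  · intro e
    refine Subtype.ext (Equiv.ext fun x => Subtype.ext ?_)
    exact e x.1 x.2

theorem bar_eq_iff {g k : G} (hg : Commute g t) (hk : Commute k t) :
    (bar hg : ↥(X Ω t)) = bar hk ↔ ∀ x : Ω, t • x = x → g • x = k • x := by
  constructor
  · intro e x hx
    have := bar_smul hg (⟨x, hx⟩ : W Ω t)
    rw [e] at this
    exact this.symm
  · intro e
    refine Subtype.ext (Equiv.ext fun x => Subtype.ext ?_)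
    exact e x.1 x.2

instance faithfulX (t : G) : FaithfulSMul ↥(X Ω t) (W Ω t) :=
  ⟨fun {g h} e => Subtype.ext (Equiv.ext e)⟩

namespace Data

variable {a b : Ω} (D : Data G Ω a b)

/-- The two base points among the fixed points. -/
def pa (ht : InvH a b t) : W Ω t := ⟨a, ht.2.2.1⟩

/-- The two base points among the fixed points. -/
def pb (ht : InvH a b t) : W Ω t := ⟨b, ht.2.2.2⟩

include D

theorem pa_ne_pb (ht : InvH a b t) : pa ht ≠ pb ht := fun e => D.ne (congrArg Subtype.val e)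

theorem card_W : Nat.card (W Ω t) = fx Ω t := rfl

theorem two_X (ht : InvH a b t) : IsMultiplyPretransitive ↥(X Ω t) (W Ω t) 2 := by
  refine is_two_pretransitive_iff.2 ?_
  intro x y z w hxy hzw
  obtain ⟨g, hgt, hga, hgb⟩ := (D.base ht).cent_two (fun e => hxy (Subtype.ext e)) x.2 y.2
  obtain ⟨k, hkt, hka, hkb⟩ := (D.base ht).cent_two (fun e => hzw (Subtype.ext e)) z.2 w.2
  refine ⟨bar (hkt.mul_left hgt.inv_left), Subtype.ext ?_, Subtype.ext ?_⟩
  · rw [bar_smul, mul_smul, ← hga, inv_smul_smul, hka]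
  · rw [bar_smul, mul_smul, ← hgb, inv_smul_smul, hkb]

/-- A centralising element fixing both base points. -/
theorem fix_cases (ht : InvH a b t) {s g : G} (hs : InvH a b s) (hst : s ≠ t) (hg : Commute g t)
    (hga : g • a = a) (hgb : g • b = b) : g = 1 ∨ g = t ∨ g = s ∨ g = s * t := by
  rcases D.four hs ht hst hga hgb (D.sq_one_of_commute ht hga hgb hg) with h | h | h | h
  · exact Or.inl h
  · exact Or.inr (Or.inr (Or.inl h))
  · exact Or.inr (Or.inl h)
  · exact Or.inr (Or.inr (Or.inr h))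

/-- A centralising swapper squares into `⟨t⟩`. -/
theorem swap_sq [Finite G] (ht : InvH a b t) {g : G} (hg : Commute g t) (hga : g • a = b)
    (hgb : g • b = a) : g * g = 1 ∨ g * g = t := by
  rcases D.dichotomy with ⟨j, hj⟩ | hS
  · have hjt : Commute j t := hj.2 t ht.2.2.1 ht.2.2.2
    set k := j * g with hk
    have hka : k • a = a := by rw [hk, mul_smul, hga, hj.1.swap]
    have hkb : k • b = b := by rw [hk, mul_smul, hgb, hj.1.2]
    have hk2 := D.sq_one_of_commute ht hka hkb (hjt.mul_left hg)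
    have hjk := (hj.2 k hka hkb).eq
    refine Or.inl ?_
    have e : g = j * k := by rw [hk, ← mul_assoc, hj.1.1, one_mul]
    rw [e, show j * k * (j * k) = j * (k * j) * k by group, ← hjk,
      ← mul_assoc j j k, hj.1.1, one_mul, hk2]
  · obtain ⟨w, hw, hwt, hws⟩ := hS.exists_sw t ht
    obtain ⟨s, hs, hst⟩ := D.exists_invol_ne ht
    set k := w * g with hk
    have hka : k • a = a := by rw [hk, mul_smul, hga, hw.swap]
    have hkb : k • b = b := by rw [hk, mul_smul, hgb, hw.2]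
    have e : g = w * k := by rw [hk, ← mul_assoc, hw.1, one_mul]
    have hk2 := D.sq_one_of_commute ht hka hkb (hwt.mul_left hg)
    have h1 : g * g = w * k * w⁻¹ * k := by rw [e, inv_eq_self hw.1]; group
    rw [h1]
    by_cases h1 : k = 1
    · exact Or.inl (by rw [h1]; group)
    by_cases h2 : k = t
    · refine Or.inl ?_
      rw [h2, show w * t * w⁻¹ = t from mul_inv_eq_iff_eq_mul.2 hwt.eq, ht.1]
    · refine Or.inr ?_
      rw [hws k ⟨hk2, h1, hka, hkb⟩ h2, mul_assoc, (D.commute_invH ht ⟨hk2, h1, hka, hkb⟩).eq,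
        ← mul_assoc, hk2, one_mul]

theorem swapX_sq [Finite G] (ht : InvH a b t) {x : ↥(X Ω t)} (hxa : x • pa ht = pb ht)
    (hxb : x • pb ht = pa ht) : x * x = 1 := by
  obtain ⟨g, hg, rfl⟩ := exists_bar x
  rw [← bar_mul]
  rcases D.swap_sq ht hg (congrArg Subtype.val hxa) (congrArg Subtype.val hxb) with h | h
  · exact (bar_eq_one_iff _).2 fun y _ => by rw [h, one_smul]
  · exact (bar_eq_one_iff _).2 fun y hy => by rw [h, hy]

theorem fix_X_lin (ht : InvH a b t) (hL : Lin G a b) {x : ↥(X Ω t)} (hxa : x • pa ht = pa ht)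
    (hxb : x • pb ht = pb ht) : x = 1 := by
  obtain ⟨g, hg, rfl⟩ := exists_bar x
  obtain ⟨s, hs, hst⟩ := D.exists_invol_ne ht
  refine (bar_eq_one_iff _).2 fun y hy => ?_
  rcases D.fix_cases ht hs hst hg (congrArg Subtype.val hxa) (congrArg Subtype.val hxb)
    with h | h | h | h <;> rw [h]
  · exact one_smul G y
  · exact hy
  · exact hL t s ht hs y hy
  · rw [mul_smul, hy, hL t s ht hs y hy]

theorem card_stab_lin (ht : InvH a b t) (hL : Lin G a b) :
    Nat.card ↥(stabilizer ↥(X Ω t) (pa ht) ⊓ stabilizer ↥(X Ω t) (pb ht)) = 1 :=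
  Nat.card_eq_one_iff_exists.2 ⟨1, fun x => Subtype.ext (D.fix_X_lin ht hL x.2.1 x.2.2)⟩

theorem fix_X_cases (ht : InvH a b t) {s : G} (hs : InvH a b s) (hst : s ≠ t) {x : ↥(X Ω t)}
    (hxa : x • pa ht = pa ht) (hxb : x • pb ht = pb ht) :
    x = 1 ∨ x = bar (D.commute_invH hs ht) := by
  obtain ⟨g, hg, rfl⟩ := exists_bar x
  rcases D.fix_cases ht hs hst hg (congrArg Subtype.val hxa) (congrArg Subtype.val hxb)
    with h | h | h | h
  · exact Or.inl ((bar_eq_one_iff _).2 fun y _ => by rw [h, one_smul])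
  · exact Or.inl ((bar_eq_one_iff _).2 fun y hy => by rw [h, hy])
  · exact Or.inr (bar_congr _ _ h)
  · exact Or.inr ((bar_eq_iff _ _).2 fun y hy => by rw [h, mul_smul, hy])

theorem bar_ne_one [Finite Ω] (ht : InvH a b t) (hL : ¬ Lin G a b) {s : G} (hs : InvH a b s)
    (hst : s ≠ t) : (bar (D.commute_invH hs ht) : ↥(X Ω t)) ≠ 1 := fun e =>
  hL (D.lin_of_subset ht hs hst ((bar_eq_one_iff _).1 e))

theorem baseX [Finite Ω] (ht : InvH a b t) (hL : ¬ Lin G a b) {s : G} (hs : InvH a b s)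
    (hst : s ≠ t) :
    Base ↥(X Ω t) (W Ω t) (pa ht) (pb ht) (bar (D.commute_invH hs ht)) := by
  have hne := D.bar_ne_one ht hL hs hst
  have h2 : (bar (D.commute_invH hs ht) : ↥(X Ω t)) * bar (D.commute_invH hs ht) = 1 := by
    rw [← bar_mul]
    exact (bar_eq_one_iff _).2 fun y _ => by rw [hs.1, one_smul]
  refine ⟨inferInstance, D.two_X ht, D.pa_ne_pb ht, orderOf_eq_two h2 hne, Subtype.ext hs.2.2.1,
    Subtype.ext hs.2.2.2, fun u hu hua hub => ⟨1, one_smul _ _, one_smul _ _, ?_⟩⟩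
  rcases D.fix_X_cases ht hs hst hua hub with h | h
  · exact absurd h (ne_one_of_orderOf hu)
  · rw [h, one_mul, inv_one, mul_one]

theorem pairNum_X [Finite Ω] (ht : InvH a b t) (hL : ¬ Lin G a b) {s : G} (hs : InvH a b s)
    (hst : s ≠ t) : pairNum ↥(X Ω t) (pa ht) (pb ht) = 1 := by
  have B := D.baseX ht hL hs hst
  refine Nat.card_eq_one_iff_exists.2 ⟨⟨_, B.invol, B.fix_a, B.fix_b⟩, fun u => Subtype.ext ?_⟩
  exact (D.fix_X_cases ht hs hst u.2.2.1 u.2.2.2).resolve_left (ne_one_of_orderOf u.2.1)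

theorem card_stab_X [Finite Ω] (ht : InvH a b t) (hL : ¬ Lin G a b) {s : G} (hs : InvH a b s)
    (hst : s ≠ t) :
    Nat.card ↥(stabilizer ↥(X Ω t) (pa ht) ⊓ stabilizer ↥(X Ω t) (pb ht)) = 2 := by
  have B := D.baseX ht hL hs hst
  refine Nat.card_eq_two_iff.2 ⟨1, ⟨_, B.fix_a, B.fix_b⟩, ?_, ?_⟩
  · exact fun e => ne_one_of_orderOf B.invol (congrArg Subtype.val e).symm
  · refine Set.eq_univ_iff_forall.2 fun x => ?_
    rcases D.fix_X_cases ht hs hst x.2.1 x.2.2 with h | h
    · exact Or.inl (Subtype.ext h)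
    · exact Or.inr (Subtype.ext h)

theorem card_swappers (ht : InvH a b t) :
    Nat.card {x : ↥(X Ω t) // x • pa ht = pb ht ∧ x • pb ht = pa ht} =
      Nat.card ↥(stabilizer ↥(X Ω t) (pa ht) ⊓ stabilizer ↥(X Ω t) (pb ht)) :=
  card_map_pair (D.two_X ht) (D.pa_ne_pb ht) (D.pa_ne_pb ht).symm

theorem card_X_lin [Finite G] [Finite Ω] (ht : InvH a b t) (hL : Lin G a b) :
    Nat.card ↥(X Ω t) = fx Ω t * (fx Ω t - 1) := by
  rw [Cfsg.Agent.Lib.ConstFix25.card_group (D.two_X ht) (D.pa_ne_pb ht), card_offDiag,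
    D.card_stab_lin ht hL, mul_one]
  rfl

theorem card_X [Finite G] [Finite Ω] (ht : InvH a b t) (hL : ¬ Lin G a b) :
    Nat.card ↥(X Ω t) = 2 * (fx Ω t * (fx Ω t - 1)) := by
  obtain ⟨s, hs, hst⟩ := D.exists_invol_ne ht
  rw [Cfsg.Agent.Lib.ConstFix25.card_group (D.two_X ht) (D.pa_ne_pb ht), card_offDiag,
    D.card_stab_X ht hL hs hst, mul_comm]
  rfl

theorem swapNum_X_le [Finite G] [Finite Ω] (ht : InvH a b t) (hL : ¬ Lin G a b) {s : G}
    (hs : InvH a b s) (hst : s ≠ t) :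
    swapNum (pa ht) (pb ht) (bar (D.commute_invH hs ht) : ↥(X Ω t)) ≤ 2 := by
  rw [← D.card_stab_X ht hL hs hst, ← D.card_swappers ht]
  refine Nat.card_le_card_of_injective (fun u => ⟨u.1, u.2.2, ?_⟩)
    (fun u v h => Subtype.ext (congrArg Subtype.val h :))
  have h2 := (D.baseX ht hL hs hst).orderOf_class u.2.1
  obtain ⟨u, hu1, hu2⟩ := u
  show u • pb ht = pa ht
  rw [← hu2, ← mul_smul, mul_self_of_orderOf h2, one_smul]

/-- Both members of the fibre over a conjugate are class members. -/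
theorem class_of_bar_conj [Finite G] [Finite Ω] (ht : InvH a b t) {s : G} (hs : InvH a b s)
    (hst : s ≠ t) {g : G} (hg : Commute g t) (hga : g • a = b)
    (hgb : g • b = a) (h : IsConj (bar (D.commute_invH hs ht) : ↥(X Ω t)) (bar hg)) :
    IsConj t g ∧ IsConj t (g * t) := by
  obtain ⟨c, hc⟩ := isConj_iff.1 h
  obtain ⟨k, hk, rfl⟩ := exists_bar c
  rw [← bar_inv, ← bar_mul, ← bar_mul, bar_eq_iff] at hc
  have hcom : Commute (k * s * k⁻¹) t := (hk.mul_left (D.commute_invH hs ht)).mul_left hk.inv_left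
  set m := (k * s * k⁻¹)⁻¹ * g with hm
  have hfix : ∀ x : Ω, t • x = x → m • x = x := fun x hx => by
    rw [hm, mul_smul, inv_smul_eq_iff, hc x hx]
  have e : g = k * s * k⁻¹ * m := by rw [hm]; group
  have h1 : IsConj t (k * s * k⁻¹) := (D.conj_invH ht hs).trans (isConj_iff.2 ⟨k, rfl⟩)
  have h2 : IsConj t (k * s * k⁻¹ * t) := by
    refine (D.conj_invH ht (D.mul_invH hs ht hst)).trans (isConj_iff.2 ⟨k, ?_⟩)
    calc k * (s * t) * k⁻¹ = k * s * (t * k⁻¹) := by group
      _ = _ := by rw [← hk.inv_left.eq]; group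
  rcases D.fix_cases ht hs hst (g := m) (hcom.inv_left.mul_left hg) (hfix a ht.2.2.1)
    (hfix b ht.2.2.2) with h' | h' | h' | h'
  · rw [h', mul_one] at e
    rw [e]
    exact ⟨h1, h2⟩
  · rw [h'] at e
    rw [e, mul_assoc (k * s * k⁻¹) t t, ht.1, mul_one]
    exact ⟨h2, h1⟩
  all_goals
    exfalso
    by_cases hL : Lin G a b
    · have hfx : ∀ x : Ω, t • x = x → g • x = x := fun x hx => by
        rw [← hc x hx, mul_smul, mul_smul, hL t s ht hs (k⁻¹ • x)
          (by rw [← mul_smul, ← hk.inv_left.eq, mul_smul, hx]), smul_inv_smul]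
      exact D.ne ((hfx a ht.2.2.1).symm.trans hga)
    · refine hL (D.lin_of_subset ht hs hst fun x hx => ?_)
      have := hfix x hx
      rw [h'] at this
      simpa [mul_smul, hx] using this

end Data

end Cfsg.Agent.Lib.TwoTransA4
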