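import Cfsg.Agent.Lib.TwoTransA4.SwapX

/-!
# Commuting involutions of the induced group in odd degree
-/

set_option autoImplicit false
set_option linter.unusedSectionVars false

namespace Cfsg.Agent.Lib.TwoTransA4

open MulAction
open Cfsg.Agent.Lib.ConstFix25 (fx two_apply mul_self_of_orderOf ne_one_of_orderOf orderOf_conj
  orderOf_of_isConj fx_conj)

variable {G Ω : Type*} [Group G] [MulAction G Ω]

theorem conjClosed_invol : ConjClosed fun u : G => orderOf u = 2 := fun g u hu =>
  (orderOf_conj g u).trans hu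

theorem conjClosed_outside (t : G) : ConjClosed fun u : G => orderOf u = 2 ∧ ¬ IsConj t u :=
  fun g u h => ⟨(orderOf_conj g u).trans h.1, fun hc => h.2 (hc.trans (isConj_iff.2 ⟨g, rfl⟩).symm)⟩

namespace Base

variable {a b : Ω} {t : G} (B : Base G Ω a b t)
include B

theorem eq_of_two_fixed [Finite G] [Finite Ω] (h1 : pairNum G a b = 1) {x y : G}
    (hx : orderOf x = 2) (hy : orderOf y = 2) {p q : Ω} (hpq : p ≠ q) (hxp : x • p = p)
    (hxq : x • q = q) (hyp : y • p = p) (hyq : y • q = q) : x = y := by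
  have h := card_both_eq conjClosed_invol B.two B.ne hpq
  rw [show Nat.card {u : G // orderOf u = 2 ∧ u • a = a ∧ u • b = b} = 1 from h1] at h
  haveI := (Nat.card_eq_one_iff_unique.1 h).1
  exact congrArg Subtype.val (Subsingleton.elim
    (⟨x, hx, hxp, hxq⟩ : {u : G // orderOf u = 2 ∧ u • p = p ∧ u • q = q}) ⟨y, hy, hyp, hyq⟩)

/-- With one class member swapping a pair, the product of two commuting members is outside. -/
theorem mul_outside [Finite G] [Finite Ω] (h1 : pairNum G a b = 1) (hc : swapNum a b t = 1)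
    {x y : G} (hx : IsConj t x) (hy : IsConj t y) (hne : x ≠ y) (hxy : Commute x y) :
    ¬ IsConj t (x * y) := by
  intro hm
  obtain ⟨hx2, hxf⟩ := B.mem_class_iff.1 hx
  have hy2 := B.orderOf_class hy
  obtain ⟨p, q, hpq, hp, hq⟩ := exists_two_fixed hxf
  obtain ⟨z, hz, hyz⟩ : ∃ z : Ω, x • z = z ∧ y • z ≠ z := by
    by_contra! h
    exact hne (B.eq_of_two_fixed h1 hx2 hy2 hpq hp hq (h p hp) (h q hq))
  have hxyz : x • y • z = y • z := by rw [← mul_smul, hxy.eq, mul_smul, hz]
  have hcard := card_swap_eq (conjClosed_isConj t) B.two B.ne (Ne.symm hyz)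
  rw [show Nat.card {u : G // IsConj t u ∧ u • a = b} = 1 from hc] at hcard
  haveI := (Nat.card_eq_one_iff_unique.1 hcard).1
  have h := congrArg Subtype.val (Subsingleton.elim
    (⟨y, hy, rfl⟩ : {u : G // IsConj t u ∧ u • z = y • z}) ⟨x * y, hm, by rw [mul_smul, hxyz]⟩)
  exact ne_one_of_orderOf hx2 (mul_eq_right.1 h.symm)

/-- Involutions outside the class: one for each point. -/
theorem outside_eq [Finite G] [Finite Ω] (hodd : Odd (Nat.card Ω)) (hc : swapNum a b t = 1)
    (hsw : ∀ u : G, u • a = b → u • b = a → u * u = 1)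
    (h2 : Nat.card {u : G // u • a = b ∧ u • b = a} = 2) {x y : G} (hx : orderOf x = 2)
    (hxn : ¬ IsConj t x) (hy : orderOf y = 2) (hyn : ¬ IsConj t y) (hxy : Commute x y) : x = y := by
  haveI := B.faithful
  have hk : ∀ u : G, orderOf u = 2 ∧ ¬ IsConj t u → fx Ω u = 1 := by
    rintro u ⟨hu, hun⟩
    have hle : fx Ω u ≤ 1 := by
      by_contra h
      exact hun (B.mem_class_iff.2 ⟨hu, by omega⟩)
    by_contra h1
    have hev := even_moved (Ω := Ω) hu
    rw [show fx Ω u = 0 by omega, Nat.sub_zero] at hev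
    exact Nat.not_even_iff_odd.2 hodd hev
  refine eq_of_commute (conjClosed_outside t) B.two B.ne hk ?_ ⟨hx, hxn⟩ ⟨hy, hyn⟩ hxy
  classical
  have hswap : ∀ u : G, orderOf u = 2 → u • a = b → u • b = a := fun u hu hua => by
    rw [← hua, ← mul_smul, mul_self_of_orderOf hu, one_smul]
  have hinv : ∀ u : G, u • a = b → u • b = a → orderOf u = 2 := fun u hua hub =>
    orderOf_eq_two (hsw u hua hub) fun e => B.ne (by rw [← hua, e, one_smul])
  have hsplit : {u : G | u • a = b ∧ u • b = a} =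
      {u : G | IsConj t u ∧ u • a = b} ∪ {u : G | (orderOf u = 2 ∧ ¬ IsConj t u) ∧ u • a = b} := by
    ext u
    simp only [Set.mem_union, Set.mem_setOf_eq]
    constructor
    · rintro ⟨hua, hub⟩
      by_cases h : IsConj t u
      · exact Or.inl ⟨h, hua⟩
      · exact Or.inr ⟨⟨hinv u hua hub, h⟩, hua⟩
    · rintro (⟨h, hua⟩ | ⟨⟨h, -⟩, hua⟩)
      · exact ⟨hua, hswap u (B.orderOf_class h) hua⟩
      · exact ⟨hua, hswap u h hua⟩
  have hdisj : Disjoint {u : G | IsConj t u ∧ u • a = b}
      {u : G | (orderOf u = 2 ∧ ¬ IsConj t u) ∧ u • a = b} := by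
    rw [Set.disjoint_left]
    exact fun u h h' => h'.1.2 h.1
  have h := congrArg Set.ncard hsplit
  rw [Set.ncard_union_eq hdisj (Set.toFinite _) (Set.toFinite _)] at h
  simp only [← Nat.card_coe_set_eq] at h
  change Nat.card {u : G // u • a = b ∧ u • b = a} = swapNum a b t + _ at h
  rw [h2, hc] at h
  change 2 = 1 + Nat.card {u : G // (orderOf u = 2 ∧ ¬ IsConj t u) ∧ u • a = b} at h
  omega

end Base

namespace Data

variable {a b : Ω} (D : Data G Ω a b)
include D

/-- In the collinear odd case an involution of the induced group fixes one point. -/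
theorem bar_fx_lin [Finite G] [Finite Ω] {t : G} (ht : InvH a b t) (hL : Lin G a b)
    (hodd : Odd (fx Ω t)) (u : ↥(X Ω t)) (hu : orderOf u = 2) : fx (W Ω t) u = 1 := by
  have hle : fx (W Ω t) u ≤ 1 := by
    by_contra h
    obtain ⟨p, q, hpq, hp, hq⟩ := exists_two_fixed (u := u) (Ω := W Ω t) (by omega)
    obtain ⟨g, hga, hgb⟩ := two_apply (D.two_X ht) (D.pa_ne_pb ht) hpq
    have h1 := D.fix_X_lin ht hL (x := g⁻¹ * u * g⁻¹⁻¹)
      (by rw [inv_inv, mul_smul, mul_smul, hga, hp, ← hga, inv_smul_smul])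
      (by rw [inv_inv, mul_smul, mul_smul, hgb, hq, ← hgb, inv_smul_smul])
    exact ne_one_of_orderOf hu (conj_eq_one_iff.1 h1)
  by_contra h1
  have hev := even_moved (Ω := W Ω t) hu
  rw [show fx (W Ω t) u = 0 by omega, Nat.sub_zero] at hev
  exact Nat.not_even_iff_odd.2 hodd hev

/-- One involution of the induced group swaps the pair. -/
theorem bar_swap_lin [Finite G] [Finite Ω] {t : G} (ht : InvH a b t) (hL : Lin G a b) :
    Nat.card {u : ↥(X Ω t) // orderOf u = 2 ∧ u • pa ht = pb ht} = 1 := by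
  rw [← D.card_stab_lin ht hL, ← D.card_swappers ht]
  refine Nat.card_congr (Equiv.subtypeEquivRight fun u => ⟨fun h => ⟨h.2, ?_⟩, fun h => ⟨?_, h.1⟩⟩)
  · rw [← h.2, ← mul_smul, mul_self_of_orderOf h.1, one_smul]
  · exact orderOf_eq_two (D.swapX_sq ht h.1 h.2) fun e => D.pa_ne_pb ht (by rw [← h.1, e, one_smul])

/-- In the collinear odd case commuting involutions induce the same permutation. -/
theorem bar_eq_lin [Finite G] [Finite Ω] {t : G} (ht : InvH a b t) (hL : Lin G a b)
    (hodd : Odd (fx Ω t)) {x y : ↥(X Ω t)} (hx : orderOf x = 2) (hy : orderOf y = 2)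
    (hxy : Commute x y) : x = y :=
  eq_of_commute conjClosed_invol (D.two_X ht) (D.pa_ne_pb ht) (D.bar_fx_lin ht hL hodd)
    (D.bar_swap_lin ht hL) hx hy hxy

/-- Two involutions of the induced group fixing the same point are equal. -/
theorem bar_unique_lin [Finite G] [Finite Ω] {t : G} (ht : InvH a b t) (hL : Lin G a b)
    (hodd : Odd (fx Ω t)) {x y : ↥(X Ω t)} (hx : orderOf x = 2) (hy : orderOf y = 2) {p : W Ω t}
    (hp : x • p = p) (hq : y • p = p) : x = y :=
  (unique_point conjClosed_invol (D.two_X ht) (D.pa_ne_pb ht) (D.bar_fx_lin ht hL hodd)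
    (D.bar_swap_lin ht hL) p).unique ⟨hx, hp⟩ ⟨hy, hq⟩

end Data

end Cfsg.Agent.Lib.TwoTransA4
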