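import Cfsg.Agent.Lib.TwoTransA4.OddFour
import Cfsg.Agent.Lib.TwoTransA4.EvenRatio

/-!
# Odd degree, four class members swap a pair, `c' = 2`: impossible by the order formula
-/

set_option autoImplicit false
set_option linter.unusedSectionVars false

namespace Cfsg.Agent.Lib.TwoTransA4

open MulAction
open Cfsg.Agent.Lib.ConstFix25 (fx two_apply mul_self_of_orderOf ne_one_of_orderOf orderOf_conj
  card_map_pair card_offDiag card_moved exists_moved)

variable {G Ω : Type*} [Group G] [MulAction G Ω]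

/-- Elements of two-power order are trivial or involutions when no involution is a square. -/
theorem sq_eq_one_of_two_pow [Finite G] (hroot : ∀ w : G, w * w ≠ 1 → orderOf (w * w) ≠ 2) {x : G}
    (hx : ∃ k : ℕ, orderOf x = 2 ^ k) : x * x = 1 := by
  obtain ⟨k, hk⟩ := hx
  by_contra h
  have h2 : 2 ≤ k := by
    by_contra hlt
    apply h
    rw [← pow_two]
    refine orderOf_dvd_iff_pow_eq_one.1 ?_
    rw [hk]
    exact (pow_dvd_pow 2 (show k ≤ 1 by omega))
  have hp : orderOf (x ^ 2 ^ (k - 2)) = 4 := by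
    rw [orderOf_pow, hk, Nat.gcd_eq_right (pow_dvd_pow 2 (by omega)), Nat.pow_div (by omega)
      (by norm_num), show k - (k - 2) = 2 by omega]
  refine hroot (x ^ 2 ^ (k - 2)) (fun e => ?_) ?_
  · have := orderOf_le_of_pow_eq_one (x := x ^ 2 ^ (k - 2)) two_pos (by rw [pow_two]; exact e)
    omega
  · rw [← pow_two, orderOf_pow, hp]
    norm_num

namespace Base

variable {a b : Ω} {t : G} (B : Base G Ω a b t)
include B

/-- The induced group of the centraliser, sharply transitive on pairs. -/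
theorem two_bar : IsMultiplyPretransitive ↥(X Ω t) (W Ω t) 2 := by
  refine is_two_pretransitive_iff.2 ?_
  intro x y z w hxy hzw
  obtain ⟨g, hgt, hga, hgb⟩ := B.cent_two (fun e => hxy (Subtype.ext e)) x.2 y.2
  obtain ⟨k, hkt, hka, hkb⟩ := B.cent_two (fun e => hzw (Subtype.ext e)) z.2 w.2
  refine ⟨bar (hkt.mul_left hgt.inv_left), Subtype.ext ?_, Subtype.ext ?_⟩
  · rw [bar_smul, mul_smul, ← hga, inv_smul_smul, hka]
  · rw [bar_smul, mul_smul, ← hgb, inv_smul_smul, hkb]

theorem ne_pts : (⟨a, B.fix_a⟩ : W Ω t) ≠ ⟨b, B.fix_b⟩ := fun e => B.ne (congrArg Subtype.val e)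

theorem bar_fix_one (h2 : ∀ g : G, g • a = a → g • b = b → g = 1 ∨ g = t) {x : ↥(X Ω t)}
    (ha : x • (⟨a, B.fix_a⟩ : W Ω t) = ⟨a, B.fix_a⟩)
    (hb : x • (⟨b, B.fix_b⟩ : W Ω t) = ⟨b, B.fix_b⟩) : x = 1 := by
  obtain ⟨g, hg, rfl⟩ := exists_bar x
  refine (bar_eq_one_iff hg).2 fun y hy => ?_
  rcases h2 g (congrArg Subtype.val ha) (congrArg Subtype.val hb) with h | h <;> rw [h]
  · exact one_smul G y
  · exact hy

theorem bar_fx_one [Finite Ω] (h2 : ∀ g : G, g • a = a → g • b = b → g = 1 ∨ g = t)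
    (hodd : Odd (fx Ω t)) {u : ↥(X Ω t)} (hu : orderOf u = 2) : fx (W Ω t) u = 1 := by
  have hle : fx (W Ω t) u ≤ 1 := by
    by_contra h
    obtain ⟨p, q, hpq, hp, hq⟩ := exists_two_fixed (u := u) (Ω := W Ω t) (by omega)
    obtain ⟨g, hga, hgb⟩ := two_apply B.two_bar B.ne_pts hpq
    have h1 := B.bar_fix_one h2 (x := g⁻¹ * u * g⁻¹⁻¹)
      (by rw [inv_inv, mul_smul, mul_smul, hga, hp, ← hga, inv_smul_smul])
      (by rw [inv_inv, mul_smul, mul_smul, hgb, hq, ← hgb, inv_smul_smul])
    exact ne_one_of_orderOf hu (conj_eq_one_iff.1 h1)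
  by_contra h1
  have hev := even_moved (Ω := W Ω t) hu
  rw [show fx (W Ω t) u = 0 by omega, Nat.sub_zero] at hev
  exact Nat.not_even_iff_odd.2 hodd hev

/-- One involution of the induced group for each point. -/
theorem bar_unique [Finite G] [Finite Ω] (h2 : ∀ g : G, g • a = a → g • b = b → g = 1 ∨ g = t)
    (hsq : ∀ g : G, Commute g t → g • a = b → g • b = a → g * g = 1) (hodd : Odd (fx Ω t))
    {x y : ↥(X Ω t)} (hx : orderOf x = 2) (hy : orderOf y = 2) :
    (∀ p : W Ω t, x • p = p → y • p = p → x = y) ∧ (Commute x y → x = y) := by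
  have hk : ∀ u : ↥(X Ω t), orderOf u = 2 → fx (W Ω t) u = 1 := fun u hu => B.bar_fx_one h2 hodd hu
  have h1 : Nat.card {u : ↥(X Ω t) // orderOf u = 2 ∧
      u • (⟨a, B.fix_a⟩ : W Ω t) = ⟨b, B.fix_b⟩} = 1 := by
    rw [← (Nat.card_eq_one_iff_exists.2 ⟨1, fun x => Subtype.ext (B.bar_fix_one h2 x.2.1 x.2.2)⟩ :
      Nat.card ↥(stabilizer ↥(X Ω t) (⟨a, B.fix_a⟩ : W Ω t) ⊓
        stabilizer ↥(X Ω t) (⟨b, B.fix_b⟩ : W Ω t)) = 1),
      ← card_map_pair B.two_bar B.ne_pts B.ne_pts.symm]
    refine Nat.card_congr (Equiv.subtypeEquivRight fun u => ⟨fun h => ⟨h.2, ?_⟩, fun h => ⟨?_, h.1⟩⟩)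
    · rw [← h.2, ← mul_smul, mul_self_of_orderOf h.1, one_smul]
    · refine orderOf_eq_two ?_ fun e => B.ne_pts (by rw [← h.1, e, one_smul])
      obtain ⟨g, hg, rfl⟩ := exists_bar u
      rw [← bar_mul]
      exact (bar_eq_one_iff _).2 fun y _ => by
        rw [hsq g hg (congrArg Subtype.val h.1) (congrArg Subtype.val h.2), one_smul]
  exact ⟨fun p hp hq =>
    (unique_point conjClosed_invol B.two_bar B.ne_pts hk h1 p).unique ⟨hx, hp⟩ ⟨hy, hq⟩,
    fun hc => eq_of_commute conjClosed_invol B.two_bar B.ne_pts hk h1 hx hy hc⟩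

/-- With one involution fixing a pair and both swappers conjugate to it, no involution is a square. -/
theorem no_root [Finite G] [Finite Ω] (h2 : ∀ g : G, g • a = a → g • b = b → g = 1 ∨ g = t)
    (hsq : ∀ g : G, g • a = b → g • b = a → g * g = 1)
    (hall : ∀ u : G, orderOf u = 2 → IsConj t u) (w : G) (hw : w * w ≠ 1) :
    orderOf (w * w) ≠ 2 := by
  intro hz
  obtain ⟨p, q, hpq, hp, hq⟩ := exists_two_fixed (B.mem_class_iff.1 (hall _ hz)).2
  have hconj : ∀ x y : Ω, x ≠ y → ∀ g : G, g • x = y → g • y = x → g * g = 1 := by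
    intro x y hxy g hgx hgy
    obtain ⟨k, hka, hkb⟩ := two_apply B.two B.ne hxy
    have h := hsq (k⁻¹ * g * k) (by rw [mul_smul, mul_smul, hka, hgx, ← hkb, inv_smul_smul])
      (by rw [mul_smul, mul_smul, hkb, hgy, ← hka, inv_smul_smul])
    calc g * g = k * ((k⁻¹ * g * k) * (k⁻¹ * g * k)) * k⁻¹ := by group
      _ = 1 := by rw [h]; group
  have hfix : w • p = p ∧ w • q = q := by
    constructor
    · by_contra h
      exact hw (hconj p (w • p) (Ne.symm h) w rfl (by rw [← mul_smul]; exact hp))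
    · by_contra h
      exact hw (hconj q (w • q) (Ne.symm h) w rfl (by rw [← mul_smul]; exact hq))
  obtain ⟨k, hka, hkb⟩ := two_apply B.two B.ne hpq
  refine hw ?_
  rcases h2 (k⁻¹ * w * k) (by rw [mul_smul, mul_smul, hka, hfix.1, ← hka, inv_smul_smul])
    (by rw [mul_smul, mul_smul, hkb, hfix.2, ← hkb, inv_smul_smul]) with h | h
  · rw [show w = k * (k⁻¹ * w * k) * k⁻¹ by group, h]; group
  · calc w * w = k * ((k⁻¹ * w * k) * (k⁻¹ * w * k)) * k⁻¹ := by group
      _ = 1 := by rw [h, mul_self_of_orderOf B.invol]; group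

/-- The order formula then bounds the fixity. -/
theorem twisted_false [Finite G] [Finite Ω] (hp : pairNum G a b = 1) (hc : swapNum a b t = 2)
    (h2 : ∀ g : G, g • a = a → g • b = b → g = 1 ∨ g = t)
    (hsq : ∀ g : G, g • a = b → g • b = a → g * g = 1) (hodd : Odd (Nat.card Ω)) : False := by
  classical
  haveI := B.faithful
  haveI : Fact (Nat.Prime 2) := ⟨Nat.prime_two⟩
  have ht1 := ne_one_of_orderOf B.invol
  have htt := mul_self_of_orderOf B.invol
  have hstab : Nat.card ↥(stabilizer G a ⊓ stabilizer G b) = 2 := by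
    refine Nat.card_eq_two_iff.2 ⟨1, ⟨t, B.fix_a, B.fix_b⟩, ?_, ?_⟩
    · exact fun e => ht1 (congrArg Subtype.val e).symm
    · refine Set.eq_univ_iff_forall.2 fun x => ?_
      rcases h2 _ x.2.1 x.2.2 with h | h
      · exact Or.inl (Subtype.ext h)
      · exact Or.inr (Subtype.ext h)
  have hswap : ∀ g : G, g • a = b → g • b = a → IsConj t g := by
    intro g hga hgb
    let ι : {u : G // IsConj t u ∧ u • a = b} → {u : G // u • a = b ∧ u • b = a} := fun u =>
      ⟨u.1, u.2.2, by
        obtain ⟨u, hu1, hu2⟩ := u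
        show u • b = a
        rw [← hu2, ← mul_smul, mul_self_of_orderOf (B.orderOf_class hu1), one_smul]⟩
    obtain ⟨u, hu⟩ := ((Nat.bijective_iff_injective_and_card ι).2
      ⟨fun u v h => Subtype.ext (congrArg Subtype.val h :),
        (show swapNum a b t = Nat.card {u : G // u • a = b ∧ u • b = a} by
          rw [hc, card_map_pair B.two B.ne B.ne.symm, hstab])⟩).2 ⟨g, hga, hgb⟩
    have e : u.1 = g := congrArg Subtype.val hu
    exact e ▸ u.2.1
  have hall : ∀ u : G, orderOf u = 2 → IsConj t u := fun u hu => by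
    obtain ⟨w, huw, hwa, hwb⟩ := B.exists_swap_conj hu
    exact (hswap w hwa hwb).trans huw.symm
  have hfodd : Odd (fx Ω t) := Nat.not_even_iff_odd.1 fun h =>
    Nat.not_even_iff_odd.2 hodd (B.even_iff.2 h)
  have hsqt : ∀ g : G, Commute g t → g • a = b → g • b = a → g * g = 1 := fun g _ => hsq g
  -- a swapper commuting with `t`
  obtain ⟨g, hga, hgb⟩ := two_apply B.two B.ne B.ne.symm
  have hgg := hsq g hga hgb
  have hgt : Commute g t := by
    have hf := conj_fix hga hgb B.fix_a B.fix_b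
    rcases h2 _ hf.1 hf.2 with h | h
    · exact absurd (conj_eq_one_iff.1 h) ht1
    · exact mul_inv_eq_iff_eq_mul.1 h
  have hg1 : g ≠ 1 := fun e => B.ne (by rw [← hga, e, one_smul])
  have hgne : g ≠ t := fun e => B.ne (by rw [← hga, e, B.fix_a])
  -- two-subgroups containing `t`
  have hpoint : ∀ x : G, x * x = 1 → x ≠ 1 → x ≠ t → ∀ hx : Commute x t,
      orderOf (bar hx : ↥(X Ω t)) = 2 := by
    intro x hx2 hx1 hxt hx
    refine orderOf_eq_two (by
      rw [← bar_mul]; exact (bar_eq_one_iff _).2 fun y _ => by rw [hx2, one_smul]) fun e => ?_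
    have hfix := (bar_eq_one_iff hx).1 e
    rcases h2 x (hfix a B.fix_a) (hfix b B.fix_b) with h | h
    exacts [hx1 h, hxt h]
  have hcoset : ∀ x : G, ∀ hx : Commute x t,
      (bar hx : ↥(X Ω t)) = bar hgt → x = g ∨ x = g * t := by
    intro x hx e
    rw [bar_eq_iff] at e
    have hfix : ∀ y : Ω, t • y = y → (g * x) • y = y := fun y hy => by
      rw [mul_smul, e y hy, ← mul_smul, hgg, one_smul]
    have ex : x = g * (g * x) := by rw [← mul_assoc, hgg, one_mul]
    rcases h2 _ (hfix a B.fix_a) (hfix b B.fix_b) with h | h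
    · exact Or.inl (by rw [ex, h, mul_one])
    · exact Or.inr (by rw [ex, h])
  have hroot := B.no_root h2 hsq hall
  obtain ⟨P, hP⟩ := (IsPGroup.of_card (p := 2) (G := ↥(Subgroup.zpowers t)) (n := 1)
    (by rw [Nat.card_zpowers, B.invol, pow_one])).exists_le_sylow
  have htP : t ∈ (P : Subgroup G) := hP (Subgroup.mem_zpowers t)
  have hP2 : ∀ x ∈ (P : Subgroup G), x * x = 1 := by
    intro x hx
    obtain ⟨k, hk⟩ := IsPGroup.iff_orderOf.1 P.isPGroup' ⟨x, hx⟩
    rw [Subgroup.orderOf_mk] at hk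
    exact sq_eq_one_of_two_pow hroot ⟨k, hk⟩
  have hPc : ∀ x ∈ (P : Subgroup G), ∀ y ∈ (P : Subgroup G), Commute x y := by
    intro x hx y hy
    have h := hP2 _ (mul_mem hx hy)
    calc x * y = (x * y)⁻¹ := (inv_eq_self h).symm
      _ = y * x := by rw [mul_inv_rev, inv_eq_self (hP2 x hx), inv_eq_self (hP2 y hy)]
  have hPle : Nat.card (P : Subgroup G) ≤ 4 := by
    rcases Set.eq_empty_or_nonempty ({x : G | x ∈ (P : Subgroup G) ∧ x ≠ 1 ∧ x ≠ t}) with h | h
    · refine le_trans ?_ (show 2 ≤ 4 by norm_num)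
      rw [show Nat.card (P : Subgroup G) = Set.ncard ((P : Subgroup G) : Set G) from
        Nat.card_coe_set_eq _]
      refine (Set.ncard_le_ncard (t := {1, t}) (fun x hx => ?_) (Set.toFinite _)).trans
        ((Set.ncard_insert_le _ _).trans (by rw [Set.ncard_singleton]))
      by_contra hne
      simp only [Set.mem_insert_iff, Set.mem_singleton_iff, not_or] at hne
      exact Set.eq_empty_iff_forall_notMem.1 h x ⟨hx, hne⟩
    · obtain ⟨z, hz, hz1, hzt⟩ := h
      rw [show Nat.card (P : Subgroup G) = Set.ncard ((P : Subgroup G) : Set G) from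
        Nat.card_coe_set_eq _]
      refine (Set.ncard_le_ncard (t := {1, t, z, z * t}) (fun x hx => ?_) (Set.toFinite _)).trans ?_
      · by_contra hne
        simp only [Set.mem_insert_iff, Set.mem_singleton_iff, not_or] at hne
        have hxt := hPc x hx t htP
        have hztc := hPc z hz t htP
        have e := (B.bar_unique h2 hsqt hfodd (hpoint x (hP2 x hx) hne.1 hne.2.1 hxt)
          (hpoint z (hP2 z hz) hz1 hzt hztc)).2 (by
            show _ * _ = _ * _
            rw [← bar_mul, ← bar_mul]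
            exact bar_congr _ _ (hPc x hx z hz).eq)
        rw [bar_eq_iff] at e
        have hfix : ∀ y : Ω, t • y = y → (z * x) • y = y := fun y hy => by
          rw [mul_smul, e y hy, ← mul_smul, hP2 z hz, one_smul]
        have ex : x = z * (z * x) := by rw [← mul_assoc, hP2 z hz, one_mul]
        rcases h2 _ (hfix a B.fix_a) (hfix b B.fix_b) with h | h
        · exact hne.2.2.1 (by rw [ex, h, mul_one])
        · exact hne.2.2.2 (by rw [ex, h])
      · refine (Set.ncard_insert_le _ _).trans ?_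
        have := Set.ncard_insert_le t ({z, z * t} : Set G)
        have := Set.ncard_insert_le z ({z * t} : Set G)
        rw [Set.ncard_singleton] at this
        omega
  -- the four group `E = ⟨t, g⟩`
  let E : Subgroup G :=
    { carrier := {x | x = 1 ∨ x = t ∨ x = g ∨ x = g * t}
      one_mem' := Or.inl rfl
      mul_mem' := by
        have e1 : g * t * t = g := by rw [mul_assoc, htt, mul_one]
        have e2 : t * g = g * t := hgt.eq.symm
        have e3 : t * (g * t) = g := by rw [← mul_assoc, e2, e1]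
        have e4 : g * (g * t) = t := by rw [← mul_assoc, hgg, one_mul]
        have e5 : g * t * g = t := by rw [mul_assoc, e2, e4]
        have e6 : g * t * (g * t) = 1 := by rw [mul_assoc, e3, hgg]
        rintro x y (rfl | rfl | rfl | rfl) (rfl | rfl | rfl | rfl) <;>
          simp [htt, hgg, e1, e2, e3, e4, e5, e6]
      inv_mem' := by
        rintro x (rfl | rfl | rfl | rfl)
        · exact Or.inl inv_one
        · exact Or.inr (Or.inl (inv_eq_self htt))
        · exact Or.inr (Or.inr (Or.inl (inv_eq_self hgg)))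
        · exact Or.inr (Or.inr (Or.inr (by
            rw [mul_inv_rev, inv_eq_self htt, inv_eq_self hgg, hgt.eq]))) }
  have hgt1 : g * t ≠ 1 := fun e => hgne (by
    rw [eq_inv_of_mul_eq_one_left e, inv_eq_self htt])
  have hEsq : ∀ x ∈ E, x * x = 1 := by
    rintro x (rfl | rfl | rfl | rfl)
    · exact one_mul 1
    · exact htt
    · exact hgg
    · rw [show g * t * (g * t) = g * (t * g) * t by group, ← hgt.eq, ← mul_assoc g g t, hgg,
        one_mul, htt]
  have hE4 : Nat.card E = 4 := by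
    rw [show Nat.card E = Set.ncard ({1, t, g, g * t} : Set G) from
      (Nat.card_coe_set_eq _).trans (congrArg Set.ncard (Set.ext fun x => by
        simp only [Set.mem_insert_iff, Set.mem_singleton_iff]; exact Iff.rfl))]
    rw [Set.ncard_insert_of_notMem (by simp [Ne.symm ht1, Ne.symm hg1, Ne.symm hgt1]) (Set.toFinite _),
      Set.ncard_insert_of_notMem (by
        simp only [Set.mem_insert_iff, Set.mem_singleton_iff, not_or]
        exact ⟨Ne.symm hgne, fun e => hg1 (mul_eq_right.1 e.symm)⟩) (Set.toFinite _),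
      Set.ncard_pair (fun e => ht1 (mul_eq_left.1 e.symm))]
  have hEp : IsPGroup 2 ↥E := IsPGroup.of_card (n := 2) (by rw [hE4]; norm_num)
  obtain ⟨Q, hQ⟩ := hEp.exists_le_sylow
  have hQE : (Q : Subgroup G) = E := by
    refine (Subgroup.eq_of_le_of_card_ge hQ ?_).symm
    rw [Q.card_eq_multiplicity, ← P.card_eq_multiplicity, hE4]
    exact hPle
  have hklein : IsKleinFour (Q : Subgroup G) := by
    rw [hQE]; exact isKleinFour_of hE4 fun v => Subtype.ext (hEsq v v.2)
  have hfac : (Nat.card G).factorization 2 = 2 := by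
    have h := Q.card_eq_multiplicity
    rw [hQE, hE4] at h
    exact (Nat.pow_right_injective le_rfl (h.symm.trans (by norm_num : (4 : ℕ) = 2 ^ 2)))
  obtain ⟨ρ, hρ, hρ1, -⟩ := ratio Q hklein (fun u v hu hv => (hall u hu).symm.trans (hall v hv))
    (show t ∈ (Q : Subgroup G) by rw [hQE]; exact Or.inr (Or.inl rfl)) B.invol
  -- the point fixed by `g` among the fixed points of `t`
  have hgo := hpoint g hgg hg1 hgne hgt
  obtain ⟨⟨p, hp'⟩⟩ := (Nat.card_pos_iff.1 (show 0 < Nat.card {y : W Ω t // (bar hgt : ↥(X Ω t)) • y = y} by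
    have h := B.bar_fx_one h2 hfodd hgo
    rw [fx] at h
    omega)).1
  have hgp : g • p.1 = p.1 := congrArg Subtype.val hp'
  have hne' : ∃ q : Ω, q ≠ p.1 ∧ t • q = q := by
    rcases eq_or_ne a p.1 with h | h
    · exact ⟨b, h ▸ B.ne.symm, B.fix_b⟩
    · exact ⟨a, h, B.fix_a⟩
  obtain ⟨q, hqp, hq⟩ := hne'
  set C := Subgroup.centralizer ({t} : Set G)
  -- `|C(t)_p| = 2 (e - 1)`
  have B' : Base G Ω p.1 q t := by
    obtain ⟨k, hkt, hka, hkb⟩ := B.cent_two (Ne.symm hqp) p.2 hq
    refine ⟨B.faithful, B.two, Ne.symm hqp, B.invol, p.2, hq, fun u hu hup huq => ?_⟩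
    refine ⟨1, one_smul _ _, one_smul _ _, ?_⟩
    rw [one_mul, inv_one, mul_one]
    exact B.eq_of_two_fixed hp B.invol hu (Ne.symm hqp) p.2 hq hup huq
  have hp' : pairNum G p.1 q = 1 := by
    rw [pairNum, card_both_eq conjClosed_invol B.two B.ne (Ne.symm hqp)]
    exact hp
  have hstab' : Nat.card ↥(stabilizer G p.1 ⊓ stabilizer G q) = 2 := by
    rw [← Cfsg.Agent.Lib.ConstFix25.card_pair_eq B.two B.ne (Ne.symm hqp), hstab]
  have hCp : Nat.card ↥(C ⊓ stabilizer G p.1) = 2 * (fx Ω t - 1) := by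
    have h := B'.card_cent_inf
    rw [hp', hstab', one_mul] at h
    rw [h]; ring
  have hEeq : Subgroup.centralizer (E : Set G) = C ⊓ stabilizer G p.1 := by
    refine eq_of_diff_mem ?_ ?_ ?_
    · intro x hx
      have hxt : Commute x t := (hx t (Or.inr (Or.inl rfl))).symm
      have hxg : Commute x g := (hx g (Or.inr (Or.inr (Or.inl rfl)))).symm
      refine ⟨mem_cent hxt, ?_⟩
      have hxp : t • x • p.1 = x • p.1 := by rw [← mul_smul, ← hxt.eq, mul_smul, p.2]
      have h := B.bar_fx_one h2 hfodd hgo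
      rw [fx] at h
      haveI := (Nat.card_eq_one_iff_unique.1 h).1
      have e := Subsingleton.elim
        (⟨⟨x • p.1, hxp⟩, Subtype.ext (show g • x • p.1 = x • p.1 by
          rw [← mul_smul, ← hxg.eq, mul_smul, hgp])⟩ :
          {y : W Ω t // (bar hgt : ↥(X Ω t)) • y = y}) ⟨p, Subtype.ext hgp⟩
      exact congrArg (fun y => ((y.1 : W Ω t) : Ω)) e
    · intro x hx x' hx' hxn hx'n
      have hmove : ∀ y ∈ C ⊓ stabilizer G p.1, y * g * y⁻¹ = g ∨ y * g * y⁻¹ = g * t := by
        rintro y ⟨hy, hyp⟩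
        have hyt : Commute y t := Subgroup.mem_centralizer_singleton_iff.1 hy
        have hc : Commute (y * g * y⁻¹) t := (hyt.mul_left hgt).mul_left hyt.inv_left
        have hsq' : y * g * y⁻¹ * (y * g * y⁻¹) = 1 := by
          rw [show y * g * y⁻¹ * (y * g * y⁻¹) = y * (g * g) * y⁻¹ by group, hgg]; group
        have ho : orderOf (bar hc : ↥(X Ω t)) = 2 := by
          refine hpoint _ hsq' (fun e => hg1 (conj_eq_one_iff.1 e)) (fun e => hgne ?_) hc
          calc g = y⁻¹ * (y * g * y⁻¹) * y := by group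
            _ = t := by rw [e, mul_assoc, ← hyt.eq]; group
        have hfixp : (bar hc : ↥(X Ω t)) • p = p := Subtype.ext (by
          show (y * g * y⁻¹) • p.1 = p.1
          have hyp' : y • p.1 = p.1 := hyp
          conv_lhs => rw [← hyp']
          rw [conj_smul_smul, hgp, hyp'])
        exact hcoset _ hc ((B.bar_unique h2 hsqt hfodd ho hgo).1 p hfixp (Subtype.ext hgp))
      have hout : ∀ y ∈ C ⊓ stabilizer G p.1, y ∉ Subgroup.centralizer (E : Set G) →
          y * g * y⁻¹ = g * t := by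
        intro y hy hyn
        refine (hmove y hy).resolve_left fun h => hyn ?_
        have hyg : Commute y g := mul_inv_eq_iff_eq_mul.1 h
        have hyt : Commute y t := Subgroup.mem_centralizer_singleton_iff.1 hy.1
        rintro v (rfl | rfl | rfl | rfl)
        exacts [(Commute.one_left y).eq, hyt.symm.eq, hyg.symm.eq, (hyg.mul_right hyt).symm.eq]
      have h1 := hout x hx hxn
      rw [← hout x' hx' hx'n] at h1
      have hc2 : Commute (x⁻¹ * x') g := by
        show x⁻¹ * x' * g = g * (x⁻¹ * x')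
        calc x⁻¹ * x' * g = x⁻¹ * (x' * g * x'⁻¹) * x' := by group
          _ = g * (x⁻¹ * x') := by rw [← h1]; group
      have hc1 : Commute (x⁻¹ * x') t :=
        (show Commute x t from Subgroup.mem_centralizer_singleton_iff.1 hx.1).inv_left.mul_left
          (Subgroup.mem_centralizer_singleton_iff.1 hx'.1)
      rintro v (rfl | rfl | rfl | rfl)
      exacts [(Commute.one_left _).eq, hc1.symm.eq, hc2.symm.eq, (hc2.mul_right hc1).symm.eq]
    · intro m hm
      rw [← Nat.not_even_iff_odd]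
      rintro ⟨k, rfl⟩
      have h4 : 4 ∣ Nat.card ↥(Subgroup.centralizer (E : Set G)) := by
        rw [← hE4]
        refine Subgroup.card_dvd_of_le fun x hx v hv => ?_
        have h := hEsq _ (E.mul_mem hv hx)
        calc v * x = (v * x)⁻¹ := (inv_eq_self h).symm
          _ = x * v := by rw [mul_inv_rev, inv_eq_self (hEsq x hx), inv_eq_self (hEsq v hv)]
      have h8 : 2 ^ 3 ∣ Nat.card G := by
        refine (Nat.dvd_trans ?_ (Subgroup.card_subgroup_dvd_card (C ⊓ stabilizer G p.1)))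
        obtain ⟨d, hd⟩ := h4
        exact ⟨d * k, by rw [hm, hd]; ring⟩
      have := (Nat.prime_two.pow_dvd_iff_le_factorization Nat.card_pos.ne').1 h8
      omega
  rw [hQE, hEeq, hCp] at hρ
  have hC : Nat.card ↥(Subgroup.centralizer ({t} : Set G)) = 2 * (fx Ω t * (fx Ω t - 1)) := by
    have h := B.card_cent
    rw [hp, hstab, one_mul] at h
    rw [h]; ring
  rw [hC, Cfsg.Agent.Lib.ConstFix25.card_group B.two B.ne, card_offDiag, hstab] at hρ
  have hfix := B.fixity
  rw [hp, hc, one_mul] at hfix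
  have h2e := B.two_le_fix
  have hlt := B.fix_lt
  have hn : Nat.card Ω = fx Ω t + 2 * (fx Ω t * (fx Ω t - 1)) := by omega
  set e := fx Ω t
  have heq : (2 : ℚ) ≤ e := by exact_mod_cast h2e
  have hne : ((Nat.card Ω : ℕ) : ℚ) = e * (2 * e - 1) := by
    rw [hn]; push_cast [Nat.cast_sub (show 1 ≤ e by omega)]; ring
  push_cast [Nat.cast_sub (show 1 ≤ e by omega), Nat.cast_sub (show 1 ≤ Nat.card Ω by omega)] at hρ
  rw [hne] at hρ
  have h0 : (8 * (e : ℚ) * ((e : ℚ) - 1) ^ 3) * ((4 * (e : ℚ) ^ 2 - 1) - ρ * e ^ 2) = 0 := by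
    linear_combination hρ
  rcases mul_eq_zero.1 h0 with h | h
  · exact absurd h (mul_ne_zero (by positivity) (pow_ne_zero 3 (by linarith)))
  · rcases hρ1 with hr | hr
    · subst hr; nlinarith
    · nlinarith

end Base

namespace Data

variable {a b : Ω} (D : Data G Ω a b)
include D

theorem mixed_or_two [Finite G] [Finite Ω] {t s : G} (ht : InvH a b t) (hL : ¬ Lin G a b)
    (hs : InvH a b s) (hst : s ≠ t) :
    Mixed a b t ∨ swapNum (pa ht) (pb ht) (bar (D.commute_invH hs ht) : ↥(X Ω t)) = 2 := by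
  classical
  refine (D.swapNum_X_cases ht hL hs hst).elim (fun h1 => Or.inl ?_) Or.inr
  have BX := D.baseX ht hL hs hst
  set sb : ↥(X Ω t) := bar (D.commute_invH hs ht)
  have h2 : Nat.card {u : ↥(X Ω t) // u • pa ht = pb ht ∧ u • pb ht = pa ht} = 2 := by
    rw [D.card_swappers ht, D.card_stab_X ht hL hs hst]
  obtain ⟨u, hu, hun⟩ : ∃ u : {u : ↥(X Ω t) // u • pa ht = pb ht ∧ u • pb ht = pa ht},
      True ∧ ¬ IsConj sb u.1 := by
    by_contra! h
    have hle := Nat.card_le_card_of_injective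
      (fun u : {u : ↥(X Ω t) // u • pa ht = pb ht ∧ u • pb ht = pa ht} =>
        (⟨u.1, h u trivial, u.2.1⟩ : {u : ↥(X Ω t) // IsConj sb u ∧ u • pa ht = pb ht}))
      (fun u v e => Subtype.ext (congrArg
        (fun w : {u : ↥(X Ω t) // IsConj sb u ∧ u • pa ht = pb ht} => w.1) e))
    rw [h2, show Nat.card {u : ↥(X Ω t) // IsConj sb u ∧ u • pa ht = pb ht} = 1 from h1] at hle
    omega
  obtain ⟨g, hg, hgu⟩ := exists_bar u.1
  have hga : g • a = b := by
    have := congrArg Subtype.val u.2.1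
    rwa [← hgu] at this
  have hgb : g • b = a := by
    have := congrArg Subtype.val u.2.2
    rwa [← hgu] at this
  refine ⟨g, hg, hga, hgb, fun hsh => hun (BX.mem_class_iff.2 ⟨?_, ?_⟩)⟩
  · exact orderOf_eq_two (D.swapX_sq ht u.2.1 u.2.2) fun e => D.pa_ne_pb ht (by
      rw [← u.2.1, e, one_smul])
  · rw [← hgu]; exact (share_iff hg).1 hsh

/-- Four class members do not swap a pair in odd degree. -/
theorem four_odd_false [Finite G] [Finite Ω] {t j : G} (ht : InvH a b t) (hj : CaseA a b j)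
    (hall : ∀ u : G, orderOf u = 2 → IsConj t u) (hodd : Odd (Nat.card Ω)) : False := by
  have hfodd : Odd (fx Ω t) := Nat.not_even_iff_odd.1 fun h =>
    Nat.not_even_iff_odd.2 hodd ((D.base ht).even_iff.2 h)
  have hL := D.not_lin_four ht hj hall hfodd
  obtain ⟨s, hs, hst⟩ := D.exists_invol_ne ht
  rcases D.mixed_or_two ht hL hs hst with hM | h2
  · exact D.not_mixed_four ht hj hall hfodd hM
  · exact (D.baseX ht hL hs hst).twisted_false (D.pairNum_X ht hL hs hst) h2
      (fun x hxa hxb => D.fix_X_cases ht hs hst hxa hxb) (fun x hxa hxb => D.swapX_sq ht hxa hxb)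
      hfodd

end Data

end Cfsg.Agent.Lib.TwoTransA4
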