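import Cfsg.Agent.Lib.TwoTransA4.Image

/-!
# Centralisers inside a point stabiliser
-/

set_option autoImplicit false
set_option linter.unusedSectionVars false

namespace Cfsg.Agent.Lib.TwoTransA4

open MulAction
open Cfsg.Agent.Lib.ConstFix25 (fx two_apply mul_self_of_orderOf ne_one_of_orderOf card_offDiag)

/-- A subgroup that contains the difference of any two outside elements has index at most two. -/
theorem eq_of_diff_mem {G : Type*} [Group G] [Finite G] {A B : Subgroup G} (hle : B ≤ A)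
    (hdiff : ∀ g ∈ A, ∀ g' ∈ A, g ∉ B → g' ∉ B → g⁻¹ * g' ∈ B)
    (hk : ∀ m : ℕ, Nat.card A = Nat.card B * m → Odd m) : B = A := by
  classical
  refine le_antisymm hle fun g hg => by_contra fun hgB => ?_
  have hcover : (A : Set G) = (B : Set G) ∪ (g * ·) '' (B : Set G) := by
    ext x
    constructor
    · intro hx
      by_cases hxB : x ∈ B
      · exact Or.inl hxB
      · exact Or.inr ⟨g⁻¹ * x, hdiff g hg x hx hgB hxB, mul_inv_cancel_left g x⟩
    · rintro (hx | ⟨y, hy, rfl⟩)
      · exact hle hx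
      · exact mul_mem hg (hle hy)
  have hdisj : Disjoint (B : Set G) ((g * ·) '' (B : Set G)) := by
    rw [Set.disjoint_left]
    rintro x hx ⟨y, hy, rfl⟩
    exact hgB (by simpa using B.mul_mem hx (B.inv_mem hy))
  have h := congrArg Set.ncard hcover
  rw [Set.ncard_union_eq hdisj (Set.toFinite _) (Set.toFinite _),
    Set.ncard_image_of_injective _ (mul_right_injective g)] at h
  simp only [← Nat.card_coe_set_eq, SetLike.coe_sort_coe] at h
  exact (Nat.not_odd_iff_even.2 even_two) (hk 2 (by rw [h]; ring))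

/-- The order of a preimage. -/
theorem card_comap_eq {G Q : Type*} [Group G] [Group Q] [Finite G] (f : G →* Q) (B : Subgroup Q) :
    Nat.card ↥(B.comap f) = Nat.card ↥f.ker * Nat.card ↥(B ⊓ f.range) := by
  set f' := f.comp (B.comap f).subtype with hf
  rw [← Subgroup.card_mul_index f'.ker, Subgroup.index_ker]
  congr 1
  · refine Nat.card_congr
      { toFun := fun x => ⟨x.1.1, x.2⟩
        invFun := fun x => ⟨⟨x.1, ?_⟩, x.2⟩
        left_inv := fun x => rfl
        right_inv := fun x => rfl }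
    show f x.1 ∈ B
    rw [(x.2 : f x.1 = 1)]
    exact B.one_mem
  · congr 1
    rw [hf, MonoidHom.range_comp, Subgroup.range_subtype]
    exact congrArg (fun S : Subgroup Q => ↥S) ((Subgroup.map_comap_eq f B).trans (inf_comm _ _))

variable {G Ω : Type*} [Group G] [MulAction G Ω]

/-- The centraliser is transitive on the fixed points. -/
theorem Base.card_cent_inf [Finite G] [Finite Ω] {a b : Ω} {t : G} (B : Base G Ω a b t) :
    pairNum G a b * Nat.card ↥(Subgroup.centralizer ({t} : Set G) ⊓ stabilizer G a) =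
      (fx Ω t - 1) * Nat.card ↥(stabilizer G a ⊓ stabilizer G b) := by
  set C := Subgroup.centralizer ({t} : Set G)
  have horb : orbit C a = {x : Ω | t • x = x} := by
    ext x
    constructor
    · rintro ⟨g, rfl⟩
      show t • ((g : G) • a) = (g : G) • a
      rw [← mul_smul, ← Subgroup.mem_centralizer_singleton_iff.1 g.2, mul_smul, B.fix_a]
    · intro hx
      rcases eq_or_ne x a with rfl | hxa
      · exact mem_orbit_self _
      · obtain ⟨g, hg, hga, -⟩ := B.cent_two hxa hx B.fix_a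
        exact ⟨⟨g, mem_cent hg⟩, hga⟩
  have h1 : fx Ω t * Nat.card ↥(C ⊓ stabilizer G a) = Nat.card C := by
    rw [← Subgroup.card_mul_index (stabilizer C a), MulAction.index_stabilizer, horb, mul_comm]
    congr 1
    exact Nat.card_congr
      { toFun := fun x => ⟨⟨x.1, x.2.1⟩, x.2.2⟩
        invFun := fun x => ⟨x.1.1, x.1.2, x.2⟩
        left_inv := fun x => rfl
        right_inv := fun x => rfl }
  have h2 := B.card_cent
  rw [← h1] at h2
  refine Nat.eq_of_mul_eq_mul_left (show 0 < fx Ω t by have := B.two_le_fix; omega) ?_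
  calc _ = pairNum G a b * (fx Ω t * Nat.card ↥(C ⊓ stabilizer G a)) := by ring
    _ = _ := by rw [h2]; ring

theorem card_stab_mul [Finite G] [Finite Ω] [Nontrivial Ω] (h2 : IsMultiplyPretransitive G Ω 2)
    (a : Ω) : Nat.card ↥(stabilizer G a) * Nat.card Ω = Nat.card G := by
  haveI := pretransitive h2
  rw [Cfsg.Agent.Lib.Perm.Basic.card_eq_card_mul_card_stabilizer (G := G) a, mul_comm]

namespace Data

variable {a b : Ω} (D : Data G Ω a b)
include D

theorem card_stab [Finite G] [Finite Ω] :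
    Nat.card ↥(stabilizer G a) = 12 * (Nat.card Ω - 1) := by
  haveI : Nontrivial Ω := ⟨⟨a, b, D.ne⟩⟩
  refine Nat.eq_of_mul_eq_mul_left (show 0 < Nat.card Ω from Nat.card_pos) ?_
  rw [mul_comm, card_stab_mul D.two a, Cfsg.Agent.Lib.ConstFix25.card_group D.two D.ne,
    card_offDiag, D.card_H]
  ring

theorem card_cent_stab [Finite G] [Finite Ω] {t : G} (ht : InvH a b t) :
    Nat.card ↥(Subgroup.centralizer ({t} : Set G) ⊓ stabilizer G a) = 4 * (fx Ω t - 1) := by
  have h := (D.base ht).card_cent_inf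
  rw [D.pairNum_eq, D.card_H] at h
  omega

/-- The four group of the pair. -/
def fourSub : Subgroup G where
  carrier := {g | g • a = a ∧ g • b = b ∧ g * g = 1}
  mul_mem' := by
    rintro x y ⟨hxa, hxb, hx⟩ ⟨hya, hyb, hy⟩
    refine ⟨by rw [mul_smul, hya, hxa], by rw [mul_smul, hyb, hxb], ?_⟩
    calc x * y * (x * y) = x * (y * x) * y := by group
      _ = 1 := by rw [← D.comm hxa hxb hya hyb hx hy, ← mul_assoc, hx, one_mul, hy]
  one_mem' := ⟨one_smul _ _, one_smul _ _, one_mul 1⟩
  inv_mem' := by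
    rintro x ⟨hxa, hxb, hx⟩
    rw [inv_eq_self hx]
    exact ⟨hxa, hxb, hx⟩

theorem mem_fourSub {g : G} : g ∈ D.fourSub ↔ g • a = a ∧ g • b = b ∧ g * g = 1 := Iff.rfl

theorem card_fourSub [Finite G] : Nat.card D.fourSub = 4 := by
  obtain ⟨t, ht⟩ := D.exists_invol
  obtain ⟨s, hs, hst⟩ := D.exists_invol_ne ht
  have h : (D.fourSub : Set G) = {1, s, t, s * t} := by
    ext v
    simp only [Set.mem_insert_iff, Set.mem_singleton_iff, SetLike.mem_coe, D.mem_fourSub]
    constructor
    · rintro ⟨hva, hvb, hv⟩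
      exact D.four hs ht hst hva hvb hv
    · have hm := D.mul_invH hs ht hst
      rintro (rfl | rfl | rfl | rfl)
      · exact ⟨one_smul _ _, one_smul _ _, one_mul 1⟩
      · exact ⟨hs.2.2.1, hs.2.2.2, hs.1⟩
      · exact ⟨ht.2.2.1, ht.2.2.2, ht.1⟩
      · exact ⟨hm.2.2.1, hm.2.2.2, hm.1⟩
  rw [show Nat.card D.fourSub = Set.ncard (D.fourSub : Set G) from Nat.card_coe_set_eq _, h]
  have h1 : s * t ≠ s := fun e => ht.2.1 (mul_eq_left.1 e)
  have h2 : s * t ≠ t := fun e => hs.2.1 (mul_eq_right.1 e)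
  rw [Set.ncard_insert_of_notMem (by
      simp [Ne.symm hs.2.1, Ne.symm ht.2.1, Ne.symm (D.mul_invH hs ht hst).2.1]) (Set.toFinite _),
    Set.ncard_insert_of_notMem (by simp [hst, Ne.symm h1]) (Set.toFinite _),
    Set.ncard_pair (Ne.symm h2)]

/-- The point stabiliser's centraliser of the four group. -/
def centFour : Subgroup G := Subgroup.centralizer (D.fourSub : Set G) ⊓ stabilizer G a

theorem centFour_le {t : G} (ht : InvH a b t) :
    D.centFour ≤ Subgroup.centralizer ({t} : Set G) ⊓ stabilizer G a := fun g hg =>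
  ⟨Subgroup.mem_centralizer_singleton_iff.2 (hg.1 t ⟨ht.2.2.1, ht.2.2.2, ht.1⟩).symm, hg.2⟩

theorem mem_centFour {t s g : G} (ht : InvH a b t) (hs : InvH a b s) (hst : s ≠ t) :
    g ∈ D.centFour ↔ g ∈ Subgroup.centralizer ({t} : Set G) ⊓ stabilizer G a ∧ Commute g s := by
  refine ⟨fun h => ⟨D.centFour_le ht h, (h.1 s ⟨hs.2.2.1, hs.2.2.2, hs.1⟩).symm⟩, ?_⟩
  rintro ⟨⟨hg, hga⟩, hgs⟩
  have hgt : Commute g t := Subgroup.mem_centralizer_singleton_iff.1 hg
  refine ⟨?_, hga⟩
  rintro v ⟨hva, hvb, hv⟩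
  rcases D.four hs ht hst hva hvb hv with rfl | rfl | rfl | rfl
  · exact (Commute.one_right g).eq.symm
  · exact hgs.eq.symm
  · exact hgt.eq.symm
  · exact (hgs.mul_right hgt).eq.symm

theorem four_dvd_centFour [Finite G] : 4 ∣ Nat.card D.centFour := by
  rw [← D.card_fourSub]
  exact Subgroup.card_dvd_of_le fun g hg =>
    ⟨fun v hv => D.comm hv.1 hv.2.1 hg.1 hg.2.1 hv.2.2 hg.2.2, hg.1⟩

/-- Elements moving `s` to `s` or `s t` form `centFour` when their number has two-part four. -/
theorem centFour_eq [Finite G] {t s : G} (ht : InvH a b t) (hs : InvH a b s) (hst : s ≠ t)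
    (A : Subgroup G) (hle : D.centFour ≤ A)
    (hA : A ≤ Subgroup.centralizer ({t} : Set G) ⊓ stabilizer G a)
    (hmove : ∀ g ∈ A, g * s * g⁻¹ = s ∨ g * s * g⁻¹ = s * t) {m : ℕ}
    (hcard : Nat.card A = 4 * m) (hm : Odd m) : D.centFour = A := by
  refine eq_of_diff_mem hle ?_ ?_
  · intro g hg g' hg' hgn hg'n
    have hmove' : ∀ x ∈ A, x ∉ D.centFour → x * s * x⁻¹ = s * t := fun x hx hxn =>
      (hmove x hx).resolve_left fun h =>
        hxn ((D.mem_centFour ht hs hst).2 ⟨hA hx, mul_inv_eq_iff_eq_mul.1 h⟩)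
    refine (D.mem_centFour ht hs hst).2 ⟨hA (mul_mem (inv_mem hg) hg'), ?_⟩
    have h1 := hmove' g hg hgn
    rw [← hmove' g' hg' hg'n] at h1
    show g⁻¹ * g' * s = s * (g⁻¹ * g')
    calc g⁻¹ * g' * s = g⁻¹ * (g' * s * g'⁻¹) * g' := by group
      _ = s * (g⁻¹ * g') := by rw [← h1]; group
  · intro k hk
    obtain ⟨d, hd⟩ := D.four_dvd_centFour
    rw [hd, hcard, mul_assoc] at hk
    rw [Nat.eq_of_mul_eq_mul_left (by norm_num : 0 < 4) hk] at hm
    exact Nat.Odd.of_mul_right hm

end Data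

end Cfsg.Agent.Lib.TwoTransA4
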