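import Cfsg.Agent.Lib.PSLFacts.FourGroups

/-!
# Four groups of `PSL(2,q)`, `q` odd, are self centralising
-/

set_option autoImplicit false
set_option linter.unusedSectionVars false

namespace Cfsg.Agent.Lib.TwoTransA4

open Cfsg.Agent.Lib Cfsg.Agent.Lib.PSLTwo.Sylow Cfsg.Agent.Lib.PSLTwo.ClassSize
open Cfsg.Agent.Lib.SL2Tori Cfsg.Agent.Lib.SL2Tori.Products Cfsg.Agent.Lib.PSLFacts.Invol
open Cfsg.Agent.Lib.PSLFacts.FourCount Cfsg.Agent.Lib.PSLFacts.FourGroups

variable {F : Type*} [Field F] [Fintype F]

local notation "SL" => Matrix.SpecialLinearGroup (Fin 2) F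
local notation "PSL2" => Matrix.ProjectiveSpecialLinearGroup (Fin 2) F

theorem psl_four_centralizer (h2 : (2 : F) ≠ 0) {u v : PSL2} (h : IsPair u v) {k : PSL2}
    (hu : k * u = u * k) (hv : k * v = v * k) : k = 1 ∨ k = u ∨ k = v ∨ k = u * v := by
  obtain ⟨x, y, rfl, rfl, ha⟩ := exists_anti h2 h
  obtain ⟨z, rfl⟩ := proj_surjective k
  set n : SL := negOne with hn
  have hc : ∀ g : SL, n * g = g * n := negOne_central
  have hnn : n * n = 1 := negOne_sq
  have hxy : x * y = y * x * n := ha.2.2
  have hyx : y * x = x * y * n := by rw [hxy, mul_assoc (y * x), hnn, mul_one]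
  have hpn : proj n = (1 : PSL2) := by
    have := proj_eq_iff.2 (Or.inr (one_mul n).symm : n = (1 : SL) ∨ n = 1 * n)
    rw [map_one] at this
    exact this.symm
  have hxx : proj x * proj x = 1 := mul_self_of_order h.1
  have hyy : proj y * proj y = 1 := mul_self_of_order h.2.1
  have hsc : ∀ k : SL, k * x = x * k → k * y = y * k → proj k = 1 := by
    intro k hkx hky
    rcases ha.scalar h2 hkx hky with rfl | rfl
    · exact map_one _
    · exact hpn
  rw [← map_mul, ← map_mul] at hu hv
  -- correct the two signs by `x` and `y`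
  have hsgn : ∀ p q : SL, proj (p * q) = proj (q * p) → p * q = q * p ∨ p * q = q * p * n := by
    intro p q e
    rcases proj_eq_iff.1 e.symm with e | e
    · exact Or.inl e
    · exact Or.inr e
  have flip : ∀ (p c q : SL), p * c = c * p * n → ∀ {e : SL}, (∀ g : SL, e * g = g * e) →
      q * c = c * q * e → (q * p) * c = c * (q * p) * (e * n) := by
    intro p c q hpc e he hqc
    calc q * p * c = q * c * (p * n) := by rw [mul_assoc q p c, hpc]; group
      _ = c * q * (e * p) * n := by rw [hqc]; group
      _ = c * (q * p) * (e * n) := by rw [he p]; group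
  have keep : ∀ (p c q : SL), p * c = c * p → ∀ {e : SL}, (∀ g : SL, e * g = g * e) →
      q * c = c * q * e → (q * p) * c = c * (q * p) * e := by
    intro p c q hpc e he hqc
    calc q * p * c = q * c * p := by rw [mul_assoc q p c, hpc, ← mul_assoc]
      _ = c * q * (e * p) := by rw [hqc]; group
      _ = c * (q * p) * e := by rw [he p]; group
  have h1c : ∀ g : SL, (1 : SL) * g = g * 1 := fun g => by rw [one_mul, mul_one]
  rcases hsgn z x hu with ex | ex <;> rcases hsgn z y hv with ey | ey
  · exact Or.inl (hsc z ex ey)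
  · -- anticommutes with `y`: multiply by `x`
    have e1 : z * x * x = x * (z * x) := by
      simpa using keep x x z rfl h1c (by rw [mul_one]; exact ex)
    have e2 : z * x * y = y * (z * x) := by
      have := flip x y z hxy (e := n) hc ey
      rwa [hnn, mul_one] at this
    refine Or.inr (Or.inl ?_)
    have h0 := hsc _ e1 e2
    rw [map_mul] at h0
    rw [eq_inv_of_mul_eq_one_left h0, inv_eq_of_mul_eq_one_right hxx]
  · have e1 : z * y * x = x * (z * y) := by
      have := flip y x z hyx (e := n) hc ex
      rwa [hnn, mul_one] at this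
    have e2 : z * y * y = y * (z * y) := by
      simpa using keep y y z rfl h1c (by rw [mul_one]; exact ey)
    refine Or.inr (Or.inr (Or.inl ?_))
    have h0 := hsc _ e1 e2
    rw [map_mul] at h0
    rw [eq_inv_of_mul_eq_one_left h0, inv_eq_of_mul_eq_one_right hyy]
  · have a1 : z * x * x = x * (z * x) * n := keep x x z rfl hc ex
    have a2 : z * x * y = y * (z * x) := by
      have := flip x y z hxy (e := n) hc ey
      rwa [hnn, mul_one] at this
    have e1 : z * x * y * x = x * (z * x * y) := by
      have := flip y x (z * x) hyx (e := n) hc a1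
      rwa [hnn, mul_one] at this
    have e2 : z * x * y * y = y * (z * x * y) := by
      simpa using keep y y (z * x) rfl h1c (by rw [mul_one]; exact a2)
    refine Or.inr (Or.inr (Or.inr ?_))
    have h0 := hsc _ e1 e2
    rw [map_mul, map_mul, mul_assoc] at h0
    rw [eq_inv_of_mul_eq_one_left h0, mul_inv_rev, inv_eq_of_mul_eq_one_right hxx,
      inv_eq_of_mul_eq_one_right hyy, h.2.2.2.eq]

end Cfsg.Agent.Lib.TwoTransA4
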