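import Cfsg.Agent.Lib.TwoTransA4.Alt4
import Cfsg.Agent.Lib.Perm.Burnside
import Cfsg.Agent.Lib.Cores.MinNormal
import Cfsg.Agent.S0205
import Cfsg.Prelude.Def_CaseTheorems

/-!
# Simple normal subgroups of doubly transitive groups of non-prime-power degree
-/

set_option autoImplicit false
set_option linter.unusedSectionVars false

namespace Cfsg.Agent.Lib.TwoTransA4

open MulAction

variable {G Ω : Type*} [Group G] [MulAction G Ω] [Finite G] [Finite Ω] [FaithfulSMul G Ω]

/-- A minimal normal subgroup is simple, non-abelian, of even order and transitive. -/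
theorem simple_minimal (h2 : IsMultiplyPretransitive G Ω 2) {a b : Ω} (hab : a ≠ b)
    (hpp : ∀ p k : ℕ, p.Prime → Nat.card Ω ≠ p ^ k) (N : Subgroup G) [N.Normal] (hN : N ≠ ⊥)
    (hmin : ∀ M : Subgroup G, M.Normal → M ≤ N → M = ⊥ ∨ M = N) :
    IsSimpleGroup ↥N ∧ ¬ IsMulCommutative ↥N ∧ Even (Nat.card N) ∧ IsPretransitive N Ω := by
  haveI := isPreprimitive_of_is_two_pretransitive h2
  haveI htr : IsPretransitive N Ω := Perm.Basic.isPretransitive_of_normal_ne_bot N hN
  rcases Perm.Burnside.minimal_normal h2 N hN hmin with ⟨-, ⟨p, hp, hexp⟩, hreg⟩ | ⟨hs, -⟩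
  · haveI := Fact.mk hp
    have hP : IsPGroup p ↥N := fun x => ⟨1, Subtype.ext (by rw [pow_one]; exact hexp x x.2)⟩
    obtain ⟨k, hk⟩ := IsPGroup.iff_card.1 hP
    exact absurd ((Perm.Basic.card_eq_of_regular a (hreg a)).symm.trans hk) (hpp p k hp)
  have hnc : ¬ IsMulCommutative ↥N := by
    intro hc
    letI : CommGroup ↥N :=
      { (inferInstance : Group ↥N) with mul_comm := hc.is_comm.comm }
    haveI := hs
    have hreg : stabilizer (↥N) a = ⊥ := by
      refine (Subgroup.eq_bot_iff_forall _).2 fun g hg => Subtype.ext ?_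
      refine eq_of_smul_eq_smul fun q : Ω => ?_
      obtain ⟨m, hm⟩ := exists_smul_eq (↥N) a q
      show g • q = (1 : G) • q
      rw [one_smul, ← hm, ← mul_smul, hc.is_comm.comm g m, mul_smul, mem_stabilizer_iff.1 hg]
    have hprime : (Nat.card ↥N).Prime := IsSimpleGroup.prime_card
    exact hpp _ 1 hprime (by rw [pow_one, Perm.Basic.card_eq_of_regular a hreg])
  refine ⟨hs, hnc, ?_, htr⟩
  by_contra hev
  haveI := Cfsg.Agent.S0205.result (G := ↥N) (Nat.not_even_iff_odd.1 hev)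
  exact hnc (Cores.MinNormal.isMulCommutative_of_solvable hN hmin)

/-- Every nontrivial normal subgroup has even order. -/
theorem even_normal (h2 : IsMultiplyPretransitive G Ω 2) {a b : Ω} (hab : a ≠ b)
    (hpp : ∀ p k : ℕ, p.Prime → Nat.card Ω ≠ p ^ k) (R : Subgroup G) [R.Normal] (hR : R ≠ ⊥) :
    Even (Nat.card R) := by
  obtain ⟨N, hNn, hNR, hN, hmin⟩ := Cores.MinNormal.exists_minimal_le (K := R) hR
  obtain ⟨-, -, hev, -⟩ := simple_minimal h2 hab hpp N hN hmin
  exact hev.two_dvd.trans (Subgroup.card_dvd_of_le hNR) |> even_iff_two_dvd.2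

/-- A simple normal subgroup with trivial centraliser, containing every involution. -/
theorem exists_simple (h2 : IsMultiplyPretransitive G Ω 2) {a b : Ω} (hab : a ≠ b)
    (hpp : ∀ p k : ℕ, p.Prime → Nat.card Ω ≠ p ^ k)
    (hall : ∀ u v : G, orderOf u = 2 → orderOf v = 2 → IsConj u v) :
    ∃ N : Subgroup G, N.Normal ∧ IsSimpleGroup ↥N ∧ ¬ IsMulCommutative ↥N ∧
      (∀ u : G, orderOf u = 2 → u ∈ N) ∧ Subgroup.centralizer (N : Set G) = ⊥ ∧
      Cfsg.oddCore ↥N = ⊥ := by
  haveI : Fact (Nat.Prime 2) := ⟨Nat.prime_two⟩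
  haveI : Nontrivial G := by
    obtain ⟨g, hg, -⟩ := ConstFix25.two_apply h2 hab hab.symm
    exact ⟨⟨g, 1, fun e => hab (by rw [← hg, e, one_smul])⟩⟩
  obtain ⟨N, hNn, hN, hmin⟩ := Cores.MinNormal.exists_minimal (G := G)
  obtain ⟨hs, hnc, hev, htr⟩ := simple_minimal h2 hab hpp N hN hmin
  obtain ⟨z, hz⟩ := exists_prime_orderOf_dvd_card' (G := ↥N) 2 hev.two_dvd
  rw [← Subgroup.orderOf_coe] at hz
  have hmem : ∀ u : G, orderOf u = 2 → u ∈ N := fun u hu => by
    obtain ⟨g, hg⟩ := isConj_iff.1 (hall z u hz hu)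
    exact hg ▸ hNn.conj_mem _ z.2 g
  haveI := hs
  have hcen : Subgroup.center ↥N = ⊥ := by
    refine ((inferInstance : (Subgroup.center ↥N).Normal).eq_bot_or_eq_top).resolve_right fun h => ?_
    exact hnc ⟨⟨fun x y => Subgroup.mem_center_iff.1 (h ▸ Subgroup.mem_top y) x⟩⟩
  refine ⟨N, hNn, hs, hnc, hmem, ?_, ?_⟩
  · by_contra hC
    haveI : (Subgroup.centralizer (N : Set G)).Normal := Subgroup.normal_centralizer
    obtain ⟨w, hw⟩ := exists_prime_orderOf_dvd_card' (G := ↥(Subgroup.centralizer (N : Set G))) 2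
      (even_normal h2 hab hpp _ hC).two_dvd
    rw [← Subgroup.orderOf_coe] at hw
    have h1 : (⟨(w : G), hmem _ hw⟩ : ↥N) ∈ Subgroup.center ↥N :=
      Subgroup.mem_center_iff.2 fun y => Subtype.ext (w.2 y y.2)
    rw [hcen, Subgroup.mem_bot] at h1
    rw [show (w : G) = 1 from congrArg Subtype.val h1, orderOf_one] at hw
    norm_num at hw
  · refine ((inferInstance : (Cfsg.oddCore ↥N).Normal).eq_bot_or_eq_top).resolve_right fun h => ?_
    have hodd : Odd (Nat.card ↥(Cfsg.oddCore ↥N)) := Cores.oddCore_odd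
    rw [h, Subgroup.card_top] at hodd
    exact Nat.not_even_iff_odd.2 hodd hev

end Cfsg.Agent.Lib.TwoTransA4
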