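import Cfsg.Agent.Lib.TwoTransA4.SevenIndex
import Cfsg.Agent.Lib.TwoTransA4.Simple
import Cfsg.Agent.Lib.TwoTransA4.PslFour
import Cfsg.Agent.Lib.TwoTransA4.PointStab
import Cfsg.Agent.Lib.TwoGroups.Recognition
import Cfsg.Agent.Lib.Alternating.Aut
import Cfsg.Agent.S0483

/-!
# Six swapping class members in odd degree, collinear: `A₇` on fifteen points
-/

set_option autoImplicit false
set_option linter.unusedSectionVars false

namespace Cfsg.Agent.Lib.TwoTransA4

open MulAction
open scoped commutatorElement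
open Cfsg.Agent.Lib.ConstFix25 (fx mul_self_of_orderOf ne_one_of_orderOf)
open Cfsg.Agent.Lib.TwoGroups.Recognition

variable {G Ω : Type*} [Group G] [MulAction G Ω]

theorem not_prime_pow_mul {f g : ℕ} (hf : 1 < f) (hg : 1 < g) (hfg : Nat.Coprime f g) :
    ∀ p k : ℕ, p.Prime → f * g ≠ p ^ k := by
  intro p k hp h
  obtain ⟨i, -, hi⟩ := (Nat.dvd_prime_pow hp).1 (h ▸ dvd_mul_right f g)
  obtain ⟨j, -, hj⟩ := (Nat.dvd_prime_pow hp).1 (h ▸ dvd_mul_left g f)
  have h1 : p ∣ f := hi ▸ dvd_pow_self p (by rintro rfl; simp at hi; omega)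
  have h2 : p ∣ g := hj ▸ dvd_pow_self p (by rintro rfl; simp at hj; omega)
  exact hp.ne_one (Nat.dvd_one.1 (hfg ▸ Nat.dvd_gcd h1 h2))

/-- Two involutions with product of order four generate a dihedral Sylow subgroup of order eight. -/
theorem exists_sylow_dihedral {G : Type*} [Group G] [Finite G] {s t w : G} (hs : s * s = 1)
    (htt : t * t = 1) (ht1 : t ≠ 1) (hw : w * w = 1) (hws : w * s * w⁻¹ = s * t)
    (hts : Commute t s) (h16 : ¬ 16 ∣ Nat.card G) :
    ∃ S : Sylow 2 G, Nonempty ((S : Subgroup G) ≃* DihedralGroup 4) := by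
  classical
  haveI : Fact (Nat.Prime 2) := ⟨Nat.prime_two⟩
  have hwi : w⁻¹ = w := inv_eq_of_mul_eq_one_right hw
  have hsi : s⁻¹ = s := inv_eq_of_mul_eq_one_right hs
  have hsq : w * s * (w * s) = t := by
    calc w * s * (w * s) = (w * s * w) * s := by group
      _ = t * (s * s) := by
        nth_rewrite 2 [← hwi]
        rw [hws, ← hts.eq, mul_assoc]
      _ = t := by rw [hs, mul_one]
  have ha : orderOf (w * s) = 4 := by
    haveI := Fact.mk Nat.prime_two
    exact orderOf_eq_prime_pow (x := w * s) (p := 2) (n := 1)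
      (by rw [pow_one, pow_two, hsq]; exact ht1)
      (by rw [show (2 : ℕ) ^ (1 + 1) = 2 * 2 by norm_num, pow_mul, pow_two (w * s), hsq, pow_two, htt])
  have hab : w * (w * s) * w⁻¹ = (w * s)⁻¹ := by
    rw [mul_inv_rev, hsi, hwi, ← mul_assoc w w s, hw, one_mul]
  have hmem : w ∉ Subgroup.zpowers (w * s) := by
    intro h
    obtain ⟨i, hi⟩ := Subgroup.mem_zpowers_iff.1 h
    have hc : Commute w (w * s) := by
      have hc0 := (Commute.refl (w * s)).zpow_left i
      rwa [hi] at hc0
    have e : w * s = s * w := by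
      have h' := hc.eq
      rw [← mul_assoc, hw, one_mul] at h'
      calc w * s = w * (w * s * w) := by rw [← h']
        _ = (w * w) * (s * w) := by group
        _ = s * w := by rw [hw, one_mul]
    rw [e, mul_inv_cancel_right] at hws
    exact ht1 (mul_eq_left.1 hws.symm)
  set φ := dihedralHom (pow_eq_one_of_orderOf ha) hw hab
  have hφ : Function.Injective φ := dihedralHom_injective ha hw hab hmem
  have h8 : Nat.card φ.range = 8 := by
    rw [← Nat.card_congr (MonoidHom.ofInjective hφ).toEquiv, DihedralGroup.nat_card]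
  have hp : IsPGroup 2 ↥φ.range := IsPGroup.of_card (n := 3) (by rw [h8]; norm_num)
  obtain ⟨S, hS⟩ := hp.exists_le_sylow
  obtain ⟨k, hk⟩ := IsPGroup.iff_card.1 S.isPGroup'
  have hk3 : k ≤ 3 := by
    by_contra h
    exact h16 ((show 16 ∣ 2 ^ k from (by norm_num : 2 ^ 4 = 16) ▸ pow_dvd_pow 2 (by omega)).trans
      (hk ▸ Subgroup.card_subgroup_dvd_card _))
  have he : φ.range = (S : Subgroup G) := by
    refine Subgroup.eq_of_le_of_card_ge hS ?_
    rw [h8, hk]
    exact (pow_le_pow_right₀ (by norm_num) hk3).trans (by norm_num)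
  exact ⟨S, ⟨((MonoidHom.ofInjective hφ).trans (MulEquiv.subgroupCongr he)).symm⟩⟩

namespace Data

variable {a b : Ω} (D : Data G Ω a b)
include D

theorem iso_seven [Finite G] [Finite Ω] {t : G} (ht : InvH a b t) (hS : CaseS G a b)
    (hc : swapNum a b t = 6) (hall : ∀ u : G, orderOf u = 2 → IsConj t u)
    (hodd : Odd (Nat.card Ω)) (hL : Lin G a b) :
    Nat.card Ω = 15 ∧ Nonempty (G ≃* ↥(alternatingGroup (Fin 7))) := by
  classical
  haveI := D.faithful
  haveI : Nontrivial Ω := ⟨⟨a, b, D.ne⟩⟩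
  have hfo : Odd (fx Ω t) := Nat.not_even_iff_odd.1 fun h =>
    Nat.not_even_iff_odd.2 hodd ((D.base ht).even_iff.2 h)
  have hf2 := (D.base ht).two_le_fix
  obtain ⟨s, hs, hst⟩ := D.exists_invol_ne ht
  obtain ⟨w, hw, hwt, hws0⟩ := hS.exists_sw t ht
  have hws := hws0 s hs hst
  have hts : Commute t s := D.commute_invH ht hs
  obtain ⟨m, hm, hfm⟩ := D.lin_half_odd ht hs hst hL hfo hw hwt hws
  -- the degree
  obtain ⟨k, hk⟩ : ∃ k, fx Ω t = k + 1 := ⟨fx Ω t - 1, by omega⟩
  have hn : Nat.card Ω = fx Ω t * (2 * k + 1) := by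
    have h := D.fixity ht
    have hlt := (D.base ht).fix_lt
    obtain ⟨d, hd⟩ : ∃ d, Nat.card Ω = fx Ω t + d := ⟨Nat.card Ω - fx Ω t, by omega⟩
    rw [hd, Nat.add_sub_cancel_left, hc, hk, Nat.add_sub_cancel] at h
    rw [hd, hk]
    linarith [show d = 2 * ((k + 1) * k) by linarith]
  have hpp : ∀ p i : ℕ, p.Prime → Nat.card Ω ≠ p ^ i := by
    rw [hn]
    refine not_prime_pow_mul (by omega) (by omega) ?_
    rw [hk]
    refine Nat.Coprime.symm (Nat.coprime_of_dvd' fun p hp h1 h2 => ?_)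
    have h3 : p ∣ 2 * (k + 1) := h2.mul_left 2
    rw [show 2 * (k + 1) = (2 * k + 1) + 1 by ring] at h3
    exact (Nat.dvd_add_right h1).1 h3
  -- the order
  have hG12 : Nat.card G = 12 * (Nat.card Ω * (Nat.card Ω - 1)) := by
    rw [← card_stab_mul D.two a, D.card_stab]; ring
  have hn1 : Nat.card Ω - 1 = k * (2 * k + 3) := by
    rw [hn, hk, show (k + 1) * (2 * k + 1) = k * (2 * k + 3) + 1 by ring, Nat.add_sub_cancel]
  have hG8 : Nat.card G = 8 * (3 * m * (2 * k + 1) * (2 * k + 3)) := by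
    rw [hk, Nat.add_sub_cancel] at hfm
    rw [hG12, hn1, hn, hk,
      show 12 * ((k + 1) * (2 * k + 1) * (k * (2 * k + 3))) =
        12 * ((k + 1) * k) * (2 * k + 1) * (2 * k + 3) by ring, hfm]
    ring
  have h16 : ¬ 16 ∣ Nat.card G := by
    rintro ⟨c, hc16⟩
    have ho : Odd (3 * m * (2 * k + 1) * (2 * k + 3)) :=
      (((by decide : Odd 3).mul hm).mul ⟨k, rfl⟩).mul ⟨k + 1, by ring⟩
    exact Nat.not_even_iff_odd.2 ho ⟨c, by omega⟩
  -- the simple normal subgroup
  obtain ⟨N, hNn, hsimple, hnc, hmem, hcN, hcore⟩ := exists_simple D.two D.ne hpp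
    fun u v hu hv => (hall u hu).symm.trans (hall v hv)
  haveI := hNn
  have htN := hmem t ht.orderOf
  have hsN := hmem s hs.orderOf
  have hwN := hmem w (hw.orderOf D.ne)
  have h16N : ¬ 16 ∣ Nat.card N := fun h => h16 (h.trans (Subgroup.card_subgroup_dvd_card N))
  obtain ⟨S, hS8⟩ := exists_sylow_dihedral (s := (⟨s, hsN⟩ : ↥N)) (t := ⟨t, htN⟩) (w := ⟨w, hwN⟩)
    (Subtype.ext hs.1) (Subtype.ext ht.1) (fun e => ht.2.1 (congrArg Subtype.val e))
    (Subtype.ext hw.1) (Subtype.ext hws) (Subtype.ext hts.eq) h16N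
  haveI := hsimple
  haveI : Group.IsPerfect ↥N := by
    refine ⟨(inferInstance : (commutator ↥N).Normal).eq_bot_or_eq_top.resolve_left fun h => hnc ?_⟩
    refine ⟨⟨fun x y => ?_⟩⟩
    have h1 : ⁅x, y⁆ ∈ commutator ↥N :=
      Subgroup.commutator_mem_commutator (Subgroup.mem_top x) (Subgroup.mem_top y)
    rw [h, Subgroup.mem_bot] at h1
    exact commutatorElement_eq_one_iff_mul_comm.1 h1
  let e0 : ↥N ≃* ↥N ⧸ Cfsg.oddCore ↥N :=
    ((QuotientGroup.quotientMulEquivOfEq hcore).trans QuotientGroup.quotientBot).symm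
  rcases Cfsg.Agent.S0483.result S 4 (by norm_num) hS8 with ⟨F, hF, hFf, hodd', -, ⟨e⟩⟩ | he
  · exfalso
    set φ := e0.trans e
    have h2 : (2 : F) ≠ 0 :=
      Cfsg.Agent.Lib.PSLFacts.two_ne_zero_iff.2 hodd'
    have hord : ∀ x : ↥N, orderOf (φ x) = orderOf (x : G) := fun x => by
      rw [MulEquiv.orderOf_eq, Subgroup.orderOf_coe]
    have hpair : Cfsg.Agent.Lib.PSLFacts.FourCount.IsPair (φ ⟨t, htN⟩) (φ ⟨s, hsN⟩) :=
      ⟨by rw [hord]; exact ht.orderOf, by rw [hord]; exact hs.orderOf,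
        fun h => hst (congrArg Subtype.val (φ.injective h)).symm, by
          show _ * _ = _ * _
          rw [← map_mul, ← map_mul]
          exact congrArg φ (Subtype.ext hts.eq)⟩
    -- elements of `N` centralising the four group act trivially on the fixed points
    have hker : ∀ g : G, g ∈ N → ∀ hg : Commute g t, Commute g s → (bar hg : ↥(X Ω t)) = 1 := by
      intro g hgN hg hgs
      have h := psl_four_centralizer h2 hpair (k := φ ⟨g, hgN⟩)
        (by rw [← map_mul, ← map_mul]; exact congrArg φ (Subtype.ext hg.eq))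
        (by rw [← map_mul, ← map_mul]; exact congrArg φ (Subtype.ext hgs.eq))
      rw [← map_one φ, ← map_mul] at h
      simp only [φ.injective.eq_iff, Subtype.ext_iff] at h
      refine (bar_eq_one_iff hg).2 fun x hx => ?_
      have hsx := hL t s ht hs x hx
      rcases h with h | h | h | h
      · rw [show g = 1 from h, one_smul]
      · rw [show g = t from h, hx]
      · rw [show g = s from h, hsx]
      · rw [show g = t * s from h, mul_smul, hsx, hx]
    set wb : ↥(X Ω t) := bar hwt with hwb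
    have hwbo : orderOf wb = 2 := by
      refine orderOf_eq_two ?_ fun e => D.ne ?_
      · rw [hwb, ← bar_mul]; exact (bar_eq_one_iff _).2 fun y _ => by rw [hw.1, one_smul]
      · rw [← (bar_eq_one_iff hwt).1 e a ht.2.2.1, hw.2]
    have hcentral : ∀ x : ↥(X Ω t), x * wb * x⁻¹ = wb := by
      intro x
      obtain ⟨g, hg, rfl⟩ := exists_bar x
      have hgw : Commute (g * w * g⁻¹) t := (hg.mul_left hwt).mul_left hg.inv_left
      have e : (bar hgw : ↥(X Ω t)) = bar hg * wb * (bar hg)⁻¹ := by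
        rw [← bar_inv, ← bar_mul hg hwt, ← bar_mul]
      rw [← e]
      have hgwN : g * w * g⁻¹ ∈ N := hNn.conj_mem _ hwN g
      rcases D.lin_move ht hs hst hL hgw with h | h
      · exfalso
        have h1 := hker _ hgwN hgw (mul_inv_eq_iff_eq_mul.1 h)
        rw [h1, eq_comm, conj_eq_one_iff] at e
        exact ne_one_of_orderOf hwbo e
      · have hcomm : Commute (w * (g * w * g⁻¹)) s := by
          refine mul_inv_eq_iff_eq_mul.1 ?_
          calc w * (g * w * g⁻¹) * s * (w * (g * w * g⁻¹))⁻¹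
              = w * ((g * w * g⁻¹) * s * (g * w * g⁻¹)⁻¹) * w⁻¹ := by group
            _ = (w * s * w⁻¹) * (w * t * w⁻¹) := by rw [h]; group
            _ = s := by rw [hws, hwt.eq, mul_inv_cancel_right, mul_assoc, ht.1, mul_one]
        have h1 := hker _ (mul_mem hwN hgwN) (hwt.mul_left hgw) hcomm
        rw [bar_mul hwt hgw] at h1
        rw [eq_inv_of_mul_eq_one_right h1, inv_eq_self (mul_self_of_orderOf hwbo)]
    haveI : Nontrivial (W Ω t) := ⟨⟨pa ht, pb ht, D.pa_ne_pb ht⟩⟩
    haveI := pretransitive (D.two_X ht)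
    have h1 : Nat.card {q : W Ω t // wb • q = q} = 1 := D.bar_fx_lin ht hL hfo wb hwbo
    obtain ⟨⟨p, hp⟩, huniq⟩ := Nat.card_eq_one_iff_exists.1 h1
    have hall' : ∀ q : W Ω t, q = p := fun q => by
      obtain ⟨x, rfl⟩ := exists_smul_eq ↥(X Ω t) p q
      refine congrArg Subtype.val (huniq ⟨x • p, ?_⟩)
      have h := conj_smul_smul x wb p
      rwa [hp, hcentral] at h
    exact D.pa_ne_pb ht ((hall' _).trans (hall' _).symm)
  · obtain ⟨e⟩ := he
    set φ := e0.trans e
    have hcard : Nat.card (MulAut ↥N) = 5040 := by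
      rw [Nat.card_congr (MulAut.congr φ).toEquiv,
        Cfsg.Agent.Lib.Alternating.nat_card_mulAut_alt (by simp) (by simp), Fintype.card_fin]
      rfl
    have hinj : Function.Injective (MulAut.conjNormal : G →* MulAut ↥N) := by
      rw [injective_iff_map_eq_one]
      intro g hg
      refine (Subgroup.eq_bot_iff_forall _).1 hcN g fun y hy => ?_
      have h := congrArg Subtype.val (DFunLike.congr_fun hg (⟨y, hy⟩ : ↥N))
      rw [MulAut.conjNormal_apply] at h
      exact (mul_inv_eq_iff_eq_mul.1 h).symm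
    have hle : Nat.card G ≤ 5040 := hcard ▸ Nat.card_le_card_of_injective _ hinj
    have hk2 : k = 2 := by
      have hkev : Even k := by
        obtain ⟨r, hr⟩ := hfo
        exact ⟨r, by omega⟩
      by_contra hne
      have hk4 : 4 ≤ k := by obtain ⟨r, rfl⟩ := hkev; omega
      have hnk : 45 ≤ Nat.card Ω := by rw [hn, hk]; nlinarith
      rw [hG12] at hle
      have := Nat.mul_le_mul hnk (show 44 ≤ Nat.card Ω - 1 by omega)
      omega
    have hn15 : Nat.card Ω = 15 := by rw [hn, hk, hk2]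
    have hNtop : N = ⊤ := by
      refine Subgroup.eq_top_of_card_eq N ?_
      rw [Nat.card_congr φ.toEquiv, nat_card_alternatingGroup, Nat.card_fin, hG12, hn15]
      rfl
    exact ⟨hn15, ⟨(Subgroup.topEquiv.symm.trans (MulEquiv.subgroupCongr hNtop.symm)).trans φ⟩⟩

end Data

end Cfsg.Agent.Lib.TwoTransA4
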