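import Cfsg.Agent.Lib.TwoTransA4.EvenCases
import Cfsg.Agent.Lib.Alternating.Basic
import Mathlib.GroupTheory.SpecificGroups.Alternating

/-!
# Degree six
-/

set_option autoImplicit false
set_option linter.unusedSectionVars false

namespace Cfsg.Agent.Lib.TwoTransA4

open MulAction

variable {G Ω : Type*} [Group G] [MulAction G Ω]

theorem Data.iso_six [Finite G] [Finite Ω] {a b : Ω} (D : Data G Ω a b)
    (h6 : Nat.card Ω = 6) : Nonempty (G ≃* ↥(alternatingGroup (Fin 6))) := by
  classical
  have := Fintype.ofFinite Ω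
  haveI : Nontrivial Ω := ⟨⟨a, b, D.ne⟩⟩
  haveI := D.faithful
  have hG : Nat.card G = 360 := by
    rw [Cfsg.Agent.Lib.ConstFix25.card_group D.two D.ne,
      Cfsg.Agent.Lib.ConstFix25.card_offDiag, D.card_H, h6]
  have hf : Function.Injective (MulAction.toPermHom G Ω) := MulAction.toPerm_injective
  have hi : (MulAction.toPermHom G Ω).range.index = 2 := by
    have h := (MulAction.toPermHom G Ω).range.card_mul_index
    rw [← Nat.card_congr (MonoidHom.ofInjective hf).toEquiv, hG, Nat.card_perm, h6,
      show Nat.factorial 6 = 720 from rfl] at h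
    omega
  exact ⟨((MonoidHom.ofInjective hf).trans (MulEquiv.subgroupCongr
    (Equiv.Perm.eq_alternatingGroup_of_index_eq_two hi))).trans
    (Equiv.altCongrHom (Fintype.equivOfCardEq (by
      rw [Fintype.card_fin, ← Nat.card_eq_fintype_card, h6])))⟩

end Cfsg.Agent.Lib.TwoTransA4
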