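import Cfsg.Agent.Lib.TwoTransA4.SixLift
import Cfsg.Agent.Lib.TwoTransA4.PointStab
import Cfsg.Agent.Lib.Involutions.IndexTwo
import Cfsg.Agent.Lib.Goldschmidt53.RankTwoBadBW

/-!
# Six swapping class members in odd degree, twisted: impossible
-/

set_option autoImplicit false
set_option linter.unusedSectionVars false

namespace Cfsg.Agent.Lib.TwoTransA4

open MulAction
open Cfsg.Agent.Lib.ConstFix25 (fx mul_self_of_orderOf ne_one_of_orderOf)

variable {G Ω : Type*} [Group G] [MulAction G Ω]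

/-- The final congruence. -/
theorem congruence_false {p f : ℕ} (hp : p.Prime) (hodd : Odd p) (hf : p ∣ f) (hf1 : 1 ≤ f) {N Q : ℕ}
    (hN : N * f = 4 * (f * (f - 1)))
    (hQ : Q * f = 12 * ((2 * f - 1) * f * ((f - 1) * (2 * f + 1))))
    (h : N ≡ Q [MOD p]) : False := by
  haveI := Fact.mk hp
  have hN' : N = 4 * (f - 1) :=
    Nat.eq_of_mul_eq_mul_right hf1 (hN.trans (by ring))
  have hQ' : Q = 12 * ((2 * f - 1) * ((f - 1) * (2 * f + 1))) :=
    Nat.eq_of_mul_eq_mul_right hf1 (hQ.trans (by ring))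
  rw [← ZMod.natCast_eq_natCast_iff, hN', hQ'] at h
  have h0 : (f : ZMod p) = 0 := (ZMod.natCast_eq_zero_iff f p).2 hf
  push_cast [Nat.cast_sub hf1, Nat.cast_sub (show 1 ≤ 2 * f by omega)] at h
  rw [h0] at h
  have h16 : ((16 : ℕ) : ZMod p) = 0 := by push_cast; linear_combination -h
  rw [ZMod.natCast_eq_zero_iff] at h16
  have h2 : p = 2 := (Nat.prime_dvd_prime_iff_eq hp Nat.prime_two).1
    (hp.dvd_of_dvd_pow (show p ∣ 2 ^ 4 by norm_num; exact h16))
  rw [h2] at hodd
  exact absurd hodd (by decide)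

namespace Data

variable {a b : Ω} (D : Data G Ω a b)
include D

theorem six_twisted_false [Finite G] [Finite Ω] {t : G} (ht : InvH a b t) (hS : CaseS G a b)
    (hc : swapNum a b t = 6) (hodd : Odd (Nat.card Ω)) (hL : ¬ Lin G a b) : False := by
  classical
  haveI := D.faithful
  haveI : Nontrivial Ω := ⟨⟨a, b, D.ne⟩⟩
  have hfo : Odd (fx Ω t) := Nat.not_even_iff_odd.1 fun h =>
    Nat.not_even_iff_odd.2 hodd ((D.base ht).even_iff.2 h)
  obtain ⟨p, M, T⟩ := D.exists_trans ht hS hfo hL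
  obtain ⟨m, hm0, hfm⟩ := T.deg
  haveI := Fact.mk T.prime
  obtain ⟨s, hs, hst⟩ := D.exists_invol_ne ht
  have hpf : p ∣ fx Ω t := hfm ▸ dvd_pow_self p hm0.ne'
  -- the same prime at `s`
  obtain ⟨p', M', T'⟩ := D.exists_trans hs hS (by rw [D.fx_invH ht hs]; exact hfo) hL
  obtain rfl : p = p' := by
    obtain ⟨k, hk0, hk⟩ := T'.deg
    rw [D.fx_invH ht hs] at hk
    exact (Nat.prime_dvd_prime_iff_eq T.prime T'.prime).1
      (T.prime.dvd_of_dvd_pow (hk ▸ hpf))
  set e := fx (W Ω t) (bar (D.commute_invH hs ht) : ↥(X Ω t)) with he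
  have hfe : fx Ω t = e * e := by
    have h := D.fixity_X ht hL hs hst
    rw [D.swapNum_X_six ht hL hs hst hS, one_mul, ← he, Nat.mul_sub, mul_one] at h
    have : e ≤ e * e := Nat.le_mul_self e
    omega
  have he2 : 2 ≤ e := (D.baseX ht hL hs hst).two_le_fix
  set E := D.lift ht hL T with hE
  set E' := D.lift hs hL T' with hE'
  have hE2 : ∀ x ∈ E, Odd (orderOf x) := fun x hx =>
    T.odd.of_dvd_nat (orderOf_dvd_of_pow_eq_one hx.2)
  set C := Subgroup.centralizer (E : Set G) with hC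
  have htC : t ∈ C := fun x hx => hx.1.eq
  -- the elements of `C` commuting with `t`
  have hCt : ∀ g ∈ C, Commute g t → ∃ x ∈ E, g = x ∨ g = x * t := fun g hg hgt =>
    D.cent_lift ht hL T hgt fun x hx => (hg x hx).symm
  have hsq : ∀ g ∈ C, Commute g t → (∃ k : ℕ, orderOf g = 2 ^ k) → g = 1 ∨ g = t := by
    rintro g hg hgt ⟨k, hk⟩
    obtain ⟨x, hx, h⟩ := hCt g hg hgt
    rcases h with rfl | rfl
    · have h1 := hE2 _ hx
      rw [hk] at h1
      rcases Nat.eq_zero_or_pos k with rfl | h0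
      · exact Or.inl (orderOf_eq_one_iff.1 (by rw [hk, pow_zero]))
      · exact absurd ((Nat.even_pow.2 ⟨even_two, h0.ne'⟩) : Even (2 ^ k)) (Nat.not_even_iff_odd.2 h1)
    · refine Or.inr ?_
      have h1 : x ^ (2 ^ (k + 1)) = 1 := by
        have h2 : (x * t) ^ (2 ^ (k + 1)) = 1 := by
          rw [pow_succ, pow_mul, ← hk, pow_orderOf_eq_one, one_pow]
        rwa [hx.1.mul_pow, pow_succ' 2 k, pow_mul t, pow_two t, ht.1, one_pow, mul_one,
          ← pow_succ' 2 k] at h2
      have h3 : x = 1 := orderOf_eq_one_iff.1 (Nat.eq_one_of_dvd_coprimes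
        ((Nat.coprime_two_right.2 (hE2 x hx)).pow_right (k + 1)) dvd_rfl (orderOf_dvd_of_pow_eq_one h1))
      rw [h3, one_mul]
  have hC4 : Nat.card C % 4 = 2 := by
    haveI : Fact (Nat.Prime 2) := ⟨Nat.prime_two⟩
    have h2 : 2 ∣ Nat.card C := by
      have := Subgroup.card_dvd_of_le (Subgroup.zpowers_le.2 htC)
      rwa [Nat.card_zpowers, ht.orderOf] at this
    suffices h : ¬ 4 ∣ Nat.card C by omega
    intro h4
    obtain ⟨P, hP⟩ := (IsPGroup.of_card (p := 2) (G := ↥(Subgroup.zpowers (⟨t, htC⟩ : ↥C))) (n := 1)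
      (by rw [Nat.card_zpowers, Subgroup.orderOf_mk, ht.orderOf, pow_one])).exists_le_sylow
    have htP : (⟨t, htC⟩ : ↥C) ∈ (P : Subgroup ↥C) := hP (Subgroup.mem_zpowers _)
    haveI : Nontrivial ↥(P : Subgroup ↥C) :=
      ⟨⟨⟨_, htP⟩, 1, fun h =>
        ht.2.1 (congrArg (fun y : ↥(P : Subgroup ↥C) => ((y : ↥C) : G)) h)⟩⟩
    have hord : ∀ y : ↥(P : Subgroup ↥C), ∃ k : ℕ, orderOf ((y : ↥C) : G) = 2 ^ k := fun y => by
      obtain ⟨k, hk⟩ := IsPGroup.iff_orderOf.1 P.isPGroup' y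
      exact ⟨k, by rw [Subgroup.orderOf_coe, Subgroup.orderOf_coe]; exact hk⟩
    haveI := P.isPGroup'.center_nontrivial
    obtain ⟨⟨z, hz⟩, hz1⟩ := exists_ne (1 : ↥(Subgroup.center ↥(P : Subgroup ↥C)))
    have hzt : Commute ((z : ↥C) : G) t :=
      congrArg (fun y : ↥(P : Subgroup ↥C) => ((y : ↥C) : G)) (Subgroup.mem_center_iff.1 hz ⟨_, htP⟩).symm
    have hzeq : ((z : ↥C) : G) = t := by
      refine (hsq _ (z : ↥C).2 hzt (hord z)).resolve_left fun h => hz1 ?_
      exact Subtype.ext (Subtype.ext (Subtype.ext h))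
    have hall : ∀ y : ↥(P : Subgroup ↥C), y = 1 ∨ y = ⟨_, htP⟩ := by
      intro y
      have hyt : Commute ((y : ↥C) : G) t := by
        rw [← hzeq]
        exact congrArg (fun y : ↥(P : Subgroup ↥C) => ((y : ↥C) : G)) (Subgroup.mem_center_iff.1 hz y)
      rcases hsq _ (y : ↥C).2 hyt (hord y) with h | h
      · exact Or.inl (Subtype.ext (Subtype.ext h))
      · exact Or.inr (Subtype.ext (Subtype.ext h))
    have hle : Nat.card ↥(P : Subgroup ↥C) ≤ 2 :=
      le_of_le_of_eq (Nat.card_le_card_of_surjective (fun i : Bool => if i then 1 else ⟨_, htP⟩)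
        fun y => (hall y).elim (fun h => ⟨true, h.symm⟩) (fun h => ⟨false, h.symm⟩)) (by simp)
    have h4P : 4 ∣ Nat.card ↥(P : Subgroup ↥C) := by
      rw [P.card_eq_multiplicity, show (4 : ℕ) = 2 ^ 2 by norm_num]
      exact pow_dvd_pow 2 ((Nat.prime_two.pow_dvd_iff_le_factorization Nat.card_pos.ne').1 h4)
    have := Nat.le_of_dvd Nat.card_pos h4P
    omega
  -- the odd complement
  obtain ⟨H, hH⟩ := Cfsg.Agent.Lib.Involutions.IndexTwo.exists_index_two_of_mod_four hC4
  haveI := Subgroup.normal_of_index_eq_two hH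
  set R := H.map C.subtype with hR
  have hHodd : Odd (Nat.card H) := by
    have h := H.card_mul_index
    rw [hH] at h
    exact Nat.odd_iff.2 (by omega)
  have hRodd : Odd (Nat.card R) := by
    rw [hR, Subgroup.card_map_of_injective C.subtype_injective]; exact hHodd
  have hRC : R ≤ C := Subgroup.map_subtype_le H
  have hRmem : ∀ g, g ∈ C → Odd (orderOf g) → g ∈ R := by
    intro g hg ho
    refine ⟨⟨g, hg⟩, ?_, rfl⟩
    have h2 : (⟨g, hg⟩ : ↥C) ^ 2 ∈ H := by
      rw [pow_two]; exact Subgroup.mul_self_mem_of_index_two hH _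
    have ho' : Odd (orderOf (⟨g, hg⟩ : ↥C)) := by rwa [Subgroup.orderOf_mk]
    obtain ⟨k, hk⟩ := ho'
    have e : (⟨g, hg⟩ : ↥C) = ((⟨g, hg⟩ : ↥C) ^ 2) ^ (k + 1) := by
      rw [← pow_mul, show 2 * (k + 1) = 2 * k + 1 + 1 by ring, ← hk, pow_succ, pow_orderOf_eq_one,
        one_mul]
    rw [e]
    exact pow_mem h2 _
  have hER : E ≤ R := fun x hx => hRmem x
    (fun y hy => (D.lift_comm ht hL T hy.1 hy.2 hx.1 hx.2).eq) (hE2 x hx)
  -- elements of `C(t)` normalise `R`
  have hnormE : ∀ v : G, Commute v t → ∀ x ∈ E, v * x * v⁻¹ ∈ E := fun v hv x hx =>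
    ⟨(hv.mul_left hx.1).mul_left hv.inv_left, by rw [conj_pow, hx.2, mul_one, mul_inv_cancel]⟩
  have hnormC : ∀ v : G, Commute v t → ∀ g ∈ C, v * g * v⁻¹ ∈ C := by
    intro v hv g hg x hx
    have h : v⁻¹ * x * v * g = g * (v⁻¹ * x * v) := hg _ (by simpa using hnormE v⁻¹ hv.inv_left x hx)
    calc x * (v * g * v⁻¹) = v * (v⁻¹ * x * v * g) * v⁻¹ := by group
      _ = v * g * v⁻¹ * x := by rw [h]; group
  have hnormR : ∀ v : G, Commute v t → ∀ g ∈ R, v * g * v⁻¹ ∈ R := fun v hv g hg =>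
    hRmem _ (hnormC v hv g (hRC hg))
      (by rw [Cfsg.Agent.Lib.ConstFix25.orderOf_conj]
          exact hRodd.of_dvd_nat (Subgroup.orderOf_dvd_natCard R hg))
  -- fixed points on `R`
  have hRt : R ⊓ Subgroup.centralizer ({t} : Set G) = E := by
    refine le_antisymm (fun g hg => ?_) fun x hx => ⟨hER hx, Subgroup.mem_centralizer_singleton_iff.2 hx.1.eq⟩
    have hgt : Commute g t := Subgroup.mem_centralizer_singleton_iff.1 hg.2
    obtain ⟨x, hx, h⟩ := hCt g (hRC hg.1) hgt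
    rcases h with rfl | rfl
    · exact hx
    · exfalso
      have htR : t ∈ R := by
        have := mul_mem (inv_mem (hER hx)) hg.1
        rwa [inv_mul_cancel_left] at this
      have h2 := hRodd.of_dvd_nat (Subgroup.orderOf_dvd_natCard R htR)
      rw [ht.orderOf] at h2
      exact absurd h2 (by decide)
  have hEs : Nat.card ↥(E ⊓ Subgroup.centralizer ({s} : Set G)) = e := D.card_lift_inf ht hL T hs
  obtain ⟨x₀, hx₀, hx₀1⟩ : ∃ x ∈ E ⊓ Subgroup.centralizer ({s} : Set G), x ≠ 1 := by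
    by_contra! hall
    have h1 : Nat.card ↥(E ⊓ Subgroup.centralizer ({s} : Set G)) = 1 :=
      Subgroup.card_eq_one.2 ((Subgroup.eq_bot_iff_forall _).2 hall)
    omega
  set A := R ⊓ Subgroup.centralizer ({s} : Set G) with hA
  have hAle : A ≤ E' := by
    intro r hr
    exact D.odd_cent hs hL T' (Subgroup.mem_centralizer_singleton_iff.1 hr.2)
      (hRodd.of_dvd_nat (Subgroup.orderOf_dvd_natCard R hr.1))
      (x := x₀) ⟨Subgroup.mem_centralizer_singleton_iff.1 hx₀.2, hx₀.1.2⟩ hx₀1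
      ((hRC hr.1) x₀ hx₀.1).symm
  obtain ⟨i, hi⟩ : ∃ i : ℕ, Nat.card A = p ^ i := IsPGroup.iff_card.1
    (show IsPGroup p ↥A from fun r => ⟨1, Subtype.ext (by rw [pow_one]; exact (hAle r.2).2)⟩)
  obtain ⟨w, hw, hwt, hws0⟩ := hS.exists_sw t ht
  have hws := hws0 s hs hst
  have hA' : Nat.card ↥(R ⊓ Subgroup.centralizer ({s * t} : Set G)) = Nat.card A := by
    have hmap : A.map (MulAut.conj w).toMonoidHom = R ⊓ Subgroup.centralizer ({s * t} : Set G) := by
      ext g
      constructor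
      · rintro ⟨r, hr, rfl⟩
        refine ⟨hnormR w hwt r hr.1, Subgroup.mem_centralizer_singleton_iff.2 ?_⟩
        have hrs := Subgroup.mem_centralizer_singleton_iff.1 hr.2
        show w * r * w⁻¹ * (s * t) = s * t * (w * r * w⁻¹)
        rw [← hws]
        calc w * r * w⁻¹ * (w * s * w⁻¹) = w * (r * s) * w⁻¹ := by group
          _ = w * s * w⁻¹ * (w * r * w⁻¹) := by rw [hrs]; group
      · intro hg
        have hwi : w⁻¹ = w := inv_eq_self hw.1
        refine ⟨w⁻¹ * g * w, ⟨by simpa using hnormR w⁻¹ hwt.inv_left g hg.1,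
          Subgroup.mem_centralizer_singleton_iff.2 ?_⟩, by
            show w * (w⁻¹ * g * w) * w⁻¹ = g
            group⟩
        have hgs := Subgroup.mem_centralizer_singleton_iff.1 hg.2
        rw [← hws] at hgs
        calc w⁻¹ * g * w * s = w⁻¹ * (g * (w * s * w⁻¹)) * w := by group
          _ = s * (w⁻¹ * g * w) := by rw [hgs]; group
    rw [← hmap, Subgroup.card_map_of_injective (MulEquiv.injective _)]
  have hts : Commute t s := D.commute_invH ht hs
  have hBW := Cfsg.Agent.Lib.Goldschmidt53.RankTwoBad.brauer_wielandt R hRodd hs.1 ht.1 hts.eq.symm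
    (hnormR s (D.commute_invH hs ht)) (hnormR t (Commute.refl t))
  rw [hRt, hA', ← hA] at hBW
  have hAE : A ⊓ Subgroup.centralizer ({t} : Set G) = E ⊓ Subgroup.centralizer ({s} : Set G) := by
    rw [hA, inf_right_comm, hRt]
  rw [hAE, hEs, D.card_lift ht hL T, hfe] at hBW
  have hRsq : Nat.card R = Nat.card A * Nat.card A := by
    refine Nat.eq_of_mul_eq_mul_right (show 0 < e ^ 2 by positivity) ?_
    rw [hBW]; ring
  -- the order of the group
  obtain ⟨k, hk⟩ : ∃ k, fx Ω t = k + 1 := ⟨fx Ω t - 1, by have := hfo.pos; omega⟩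
  have hn : Nat.card Ω = fx Ω t * (2 * k + 1) := by
    have h := D.fixity ht
    have hlt := (D.base ht).fix_lt
    obtain ⟨d, hd⟩ : ∃ d, Nat.card Ω = fx Ω t + d := ⟨Nat.card Ω - fx Ω t, by omega⟩
    rw [hd, Nat.add_sub_cancel_left, hc, hk, Nat.add_sub_cancel] at h
    rw [hd, hk]
    linarith [show d = 2 * ((k + 1) * k) by linarith]
  have hn1 : Nat.card Ω - 1 = k * (2 * k + 3) := by
    rw [hn, hk, show (k + 1) * (2 * k + 1) = k * (2 * k + 3) + 1 by ring, Nat.add_sub_cancel]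
  have hG : Nat.card G = 12 * ((2 * k + 1) * fx Ω t * (k * (2 * k + 3))) := by
    rw [← card_stab_mul D.two a, D.card_stab, hn1, hn]; ring
  have hRE : R = E := by
    refine (Subgroup.eq_of_le_of_card_ge hER ?_).symm
    rw [D.card_lift ht hL T, hRsq, hi]
    have hd1 : p ^ i * p ^ i ∣ (3 * fx Ω t) * (4 * ((2 * k + 1) * (k * (2 * k + 3)))) := by
      rw [show (3 * fx Ω t) * (4 * ((2 * k + 1) * (k * (2 * k + 3)))) = Nat.card G by rw [hG]; ring,
        ← hi, ← hRsq]
      exact Subgroup.card_subgroup_dvd_card R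
    have hpk : p ∣ k + 1 := hk ▸ hpf
    have hnd : ∀ c : ℕ, Nat.Coprime p c → Nat.Coprime (p ^ i * p ^ i) c := fun c hc =>
      Nat.Coprime.mul_left (hc.pow_left i) (hc.pow_left i)
    have hone : ∀ c : ℕ, (∀ q : ℕ, q ∣ k + 1 → q ∣ c → q ∣ 1) → Nat.Coprime p c := fun c h =>
      (Nat.Prime.coprime_iff_not_dvd T.prime).2 fun hd =>
        T.prime.ne_one (Nat.dvd_one.1 (h p hpk hd))
    have hcop : Nat.Coprime p (4 * ((2 * k + 1) * (k * (2 * k + 3)))) := by
      refine ((Nat.coprime_two_right.2 T.odd).pow_right 2).mul_right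
        ((hone _ fun q h1 h2 => ?_).mul_right ((hone _ fun q h1 h2 => ?_).mul_right
          (hone _ fun q h1 h2 => ?_)))
      · have h3 : q ∣ (2 * k + 1) + 1 := by
          rw [show 2 * k + 1 + 1 = 2 * (k + 1) by ring]; exact h1.mul_left 2
        exact (Nat.dvd_add_right h2).1 h3
      · exact (Nat.dvd_add_right h2).1 h1
      · have h3 : q ∣ 2 * (k + 1) := h1.mul_left 2
        rw [show 2 * k + 3 = 2 * (k + 1) + 1 by ring] at h2
        exact (Nat.dvd_add_right h3).1 h2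
    have hd2 : p ^ i * p ^ i ∣ 3 * fx Ω t := (hnd _ hcop).dvd_of_dvd_mul_right hd1
    have hd3 : e * e ∣ p ^ i * p ^ i := by
      rw [← hfe, ← hi, ← hRsq, ← D.card_lift ht hL T]; exact Subgroup.card_dvd_of_le hER
    obtain ⟨q, hq⟩ : e ∣ p ^ i :=
      (Nat.pow_dvd_pow_iff two_ne_zero).1 (by rw [pow_two, pow_two]; exact hd3)
    rw [hfe, hq, show e * q * (e * q) = (e * e) * (q * q) by ring, mul_comm 3,
      Nat.mul_dvd_mul_iff_left (show 0 < e * e by positivity)] at hd2
    have hq1 : q * q ≤ 3 := Nat.le_of_dvd (by norm_num) hd2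
    have hq0 : q ≤ 1 := by nlinarith
    rw [hfe, hq]
    have h1 : e * q ≤ e := (Nat.mul_le_mul_left e hq0).trans (mul_one e).le
    exact Nat.mul_le_mul h1 h1
  -- the normaliser of `E`
  have hcen : ∀ g ∈ C, g * g = 1 → g ≠ 1 → g = t := by
    intro g hg hg2 hg1
    have hC2 : Nat.card C = 2 * Nat.card E := by
      rw [← H.card_mul_index, hH, mul_comm, ← Subgroup.card_map_of_injective C.subtype_injective,
        ← hR, hRE]
    by_cases hgt : Commute g t
    · exact (hsq g hg hgt ⟨1, by rw [pow_one]; exact orderOf_eq_two hg2 hg1⟩).resolve_left hg1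
    · exfalso
      refine hgt ?_
      have hg2' : (⟨g, hg⟩ : ↥C) ∉ H := fun h => by
        have h2 := hRodd.of_dvd_nat
          (Subgroup.orderOf_dvd_natCard R (⟨⟨g, hg⟩, h, rfl⟩ : g ∈ R))
        rw [orderOf_eq_two hg2 hg1] at h2
        exact absurd h2 (by decide)
      have ht2 : (⟨t, htC⟩ : ↥C) ∉ H := fun h => by
        have h2 := hRodd.of_dvd_nat
          (Subgroup.orderOf_dvd_natCard R (⟨⟨t, htC⟩, h, rfl⟩ : t ∈ R))
        rw [ht.orderOf] at h2
        exact absurd h2 (by decide)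
      have hmem : g * t ∈ E := hRE ▸ (⟨⟨g, hg⟩ * ⟨t, htC⟩,
        (Subgroup.mul_mem_iff_of_index_two hH).2 (iff_of_false hg2' ht2), rfl⟩ : g * t ∈ R)
      have h1 := hmem.1.mul_left (Commute.refl t)
      rwa [mul_assoc, ht.1, mul_one] at h1
  have hN : Subgroup.normalizer (E : Set G) = Subgroup.centralizer ({t} : Set G) := by
    refine le_antisymm (fun g hg => ?_) fun g hg => ?_
    · refine Subgroup.mem_centralizer_singleton_iff.2 (mul_inv_eq_iff_eq_mul.1 (hcen _ ?_ ?_ ?_))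
      · intro x hx
        have h : g⁻¹ * x * g ∈ E := by
          refine (Subgroup.mem_normalizer_iff.1 hg _).2 ?_
          rwa [show g * (g⁻¹ * x * g) * g⁻¹ = x by group]
        calc x * (g * t * g⁻¹) = g * (g⁻¹ * x * g * t) * g⁻¹ := by group
          _ = g * t * g⁻¹ * x := by rw [h.1.eq]; group
      · rw [show g * t * g⁻¹ * (g * t * g⁻¹) = g * (t * t) * g⁻¹ by group, ht.1]; group
      · exact fun h => ht.2.1 (conj_eq_one_iff.1 h)
    · have hgt : Commute g t := Subgroup.mem_centralizer_singleton_iff.1 hg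
      refine Subgroup.mem_normalizer_iff.2 fun x => ⟨hnormE g hgt x, fun h => ?_⟩
      have := hnormE g⁻¹ hgt.inv_left _ h
      rwa [show g⁻¹ * (g * x * g⁻¹) * g⁻¹⁻¹ = x by group] at this
  have hEp : Nat.card E = p ^ m := (D.card_lift ht hL T).trans hfm
  have hmod := Sylow.card_quotient_normalizer_modEq_card_quotient (p := p) hEp
  have h1 := Subgroup.card_eq_card_quotient_mul_card_subgroup
    (E.comap (Subgroup.normalizer (E : Set G)).subtype)
  have h2 := Subgroup.card_eq_card_quotient_mul_card_subgroup E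
  rw [show Nat.card ↥(E.comap (Subgroup.normalizer (E : Set G)).subtype) = Nat.card E from
    Nat.card_congr (Subgroup.subgroupOfEquivOfLe Subgroup.le_normalizer).toEquiv,
    D.card_lift ht hL T] at h1
  rw [D.card_lift ht hL T] at h2
  have hNc : Nat.card ↥(Subgroup.normalizer (E : Set G)) = 4 * (fx Ω t * (fx Ω t - 1)) := by
    rw [hN, D.card_cent ht]
  rw [hNc] at h1
  rw [hG] at h2
  refine congruence_false T.prime T.odd hpf hfo.pos h1.symm ?_ hmod
  rw [← h2, hk, show 2 * (k + 1) - 1 = 2 * k + 1 by omega, Nat.add_sub_cancel,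
    show 2 * (k + 1) + 1 = 2 * k + 3 by ring]

end Data

end Cfsg.Agent.Lib.TwoTransA4
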