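import Cfsg.Agent.Lib.TwoTransA4.Image
import Cfsg.Agent.Lib.Perm.Basic
import Mathlib.GroupTheory.Transfer
import Mathlib.GroupTheory.Subgroup.Centralizer
import Mathlib.GroupTheory.GroupAction.MultipleTransitivity

/-!
# No example of degree twenty-eight
-/

set_option autoImplicit false
set_option linter.unusedSectionVars false

namespace Cfsg.Agent.Lib.TwoTransA4

open MulAction
open Cfsg.Agent.Lib.ConstFix25 (fx two_apply card_offDiag)

variable {G Ω : Type*} [Group G] [MulAction G Ω]

/-- An element fixing a point and centralising an element `x` of prime order without fixed points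
fixes at least two points. -/
theorem two_fixed_of_commute {x g : G} (hx : ∀ p : Ω, x • p ≠ p) {p : Ω} (hg : g • p = p)
    (hc : Commute g x) : g • (x • p) = x • p ∧ p ≠ x • p :=
  ⟨by rw [← mul_smul, hc.eq, mul_smul, hg], Ne.symm (hx p)⟩

namespace Data

variable {a b : Ω} (D : Data G Ω a b)
include D

/-- The degree is not twenty-eight. -/
theorem not_twenty_eight [Finite G] [Finite Ω] {t : G} (ht : InvH a b t) (hn : Nat.card Ω = 28)
    (hf : fx Ω t = 4) (hall : ∀ u : G, orderOf u = 2 → IsConj t u) : False := by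
  classical
  haveI : Fact (Nat.Prime 7) := ⟨by norm_num⟩
  haveI : Fact (Nat.Prime 3) := ⟨Nat.prime_three⟩
  haveI : Nontrivial Ω := ⟨⟨a, b, D.ne⟩⟩
  have := Fintype.ofFinite Ω
  haveI := D.faithful
  have hG : Nat.card G = 9072 := by
    rw [Cfsg.Agent.Lib.ConstFix25.card_group D.two D.ne, card_offDiag, D.card_H, hn]
  obtain ⟨x, hx⟩ := exists_prime_orderOf_dvd_card' (G := G) 7 (by rw [hG]; norm_num)
  have hpair : ∀ p q : Ω, p ≠ q → Nat.card ↥(stabilizer G p ⊓ stabilizer G q) = 12 := fun p q h => by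
    rw [← Cfsg.Agent.Lib.ConstFix25.card_pair_eq D.two D.ne h, D.card_H]
  have hfree : ∀ p : Ω, x • p ≠ p := by
    intro p hp
    haveI := pretransitive D.two
    have h1 : orderOf x ∣ Nat.card ↥(stabilizer G p) := by
      rw [← Subgroup.orderOf_mk (H := stabilizer G p) x hp]
      exact orderOf_dvd_natCard _
    have h2 := Cfsg.Agent.Lib.Perm.Basic.card_eq_card_mul_card_stabilizer (G := G) p
    rw [hG, hn] at h2
    rw [hx, show Nat.card ↥(stabilizer G p) = 324 by omega] at h1
    norm_num at h1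
  -- `C(x)` has odd order
  have hno2 : ∀ g : G, Commute g x → orderOf g ≠ 2 := by
    intro g hgx hg
    obtain ⟨k, hk⟩ := isConj_iff.1 (hall g hg)
    have hct := D.card_cent ht
    rw [hf] at hct
    have hmem : k⁻¹ * x * k ∈ Subgroup.centralizer ({t} : Set G) := by
      refine Subgroup.mem_centralizer_singleton_iff.2 ?_
      calc k⁻¹ * x * k * t = k⁻¹ * (x * (k * t * k⁻¹)) * k := by group
        _ = t * (k⁻¹ * x * k) := by rw [hk, ← hgx.eq, ← hk]; group
    have h7 : orderOf x ∣ Nat.card ↥(Subgroup.centralizer ({t} : Set G)) := by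
      have e : orderOf (k⁻¹ * x * k) = orderOf x := by
        rw [show k⁻¹ * x * k = k⁻¹ * x * k⁻¹⁻¹ by group]
        exact Cfsg.Agent.Lib.ConstFix25.orderOf_conj _ _
      rw [← e, ← Subgroup.orderOf_mk (H := Subgroup.centralizer ({t} : Set G)) _ hmem]
      exact orderOf_dvd_natCard _
    rw [hx, hct] at h7
    norm_num at h7
  set Z := Subgroup.zpowers x with hZ
  have hZcard : Nat.card Z = 7 := by rw [hZ, Nat.card_zpowers, hx]
  set C := Subgroup.centralizer (Z : Set G) with hC
  have hcomm : ∀ g ∈ C, Commute g x := fun g hg => (hg x (Subgroup.mem_zpowers x)).symm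
  have hC2 : ¬ 2 ∣ Nat.card C := by
    intro h
    obtain ⟨g, hg⟩ := exists_prime_orderOf_dvd_card' (G := C) 2 h
    rw [← Subgroup.orderOf_coe] at hg
    exact hno2 g (hcomm g g.2) hg
  -- no subgroup of order nine centralises `x`
  have hC9 : ¬ 9 ∣ Nat.card C := by
    intro h
    obtain ⟨R, hR⟩ := Sylow.exists_subgroup_card_pow_prime (G := C) 3 (n := 2) (by simpa using h)
    set R' := R.map C.subtype
    have hR' : Nat.card R' = 9 := by
      rw [← Nat.card_congr (R.equivMapOfInjective C.subtype C.subtype_injective).toEquiv, hR]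
      norm_num
    have hp : IsPGroup 3 R' := IsPGroup.of_card (n := 2) (by rw [hR']; norm_num)
    obtain ⟨p, hp'⟩ := hp.nonempty_fixed_point_of_prime_not_dvd_card Ω
      (by rw [hn]; norm_num)
    have hle : R' ≤ stabilizer G p ⊓ stabilizer G (x • p) := by
      intro g hg
      have hgp : g • p = p := hp' ⟨g, hg⟩
      obtain ⟨g', -, rfl⟩ := hg
      exact ⟨hgp, (two_fixed_of_commute hfree hgp (hcomm _ g'.2)).1⟩
    have := Subgroup.card_dvd_of_le hle
    rw [hR', hpair p (x • p) (Ne.symm (hfree p))] at this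
    norm_num at this
  set N := Subgroup.normalizer (Z : Set G) with hN
  have hCdvd : Nat.card C ∣ 21 := by
    have h := Subgroup.card_subgroup_dvd_card C
    rw [hG, show (9072 : ℕ) = 2 ^ 4 * 3 ^ 4 * 7 by norm_num] at h
    have hc2 : Nat.Coprime (Nat.card C) (2 ^ 4) :=
      ((Nat.prime_two.coprime_iff_not_dvd.2 hC2).symm).pow_right 4
    have h81 : Nat.card C ∣ 3 ^ 4 * 7 := by
      rw [show 2 ^ 4 * 3 ^ 4 * 7 = 2 ^ 4 * (3 ^ 4 * 7) by ring] at h
      exact hc2.dvd_of_dvd_mul_left h
    obtain ⟨k, hk⟩ := h81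
    have hk3 : 3 ^ 3 ∣ k := by
      have h3 : ∀ i, 3 ^ i ∣ Nat.card C → i ≤ 1 := fun i hi => by
        by_contra h'
        exact hC9 ((pow_dvd_pow 3 (show 2 ≤ i by omega)).trans hi)
      obtain ⟨i, j, hij, hC'⟩ : ∃ i j, i ≤ 4 ∧ j ≤ 1 ∧ Nat.card C = 3 ^ i * 7 ^ j := by
        obtain ⟨u, v, hu, hv, e⟩ := (Nat.dvd_mul).1 (Dvd.intro k hk.symm)
        obtain ⟨i, hi, rfl⟩ := (Nat.dvd_prime_pow Nat.prime_three).1 hu
        rcases (Nat.dvd_prime (by norm_num)).1 hv with rfl | rfl
        · exact ⟨i, 0, hi, by norm_num, by rw [← e]; norm_num⟩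
        · exact ⟨i, 1, hi, le_rfl, by rw [← e]; norm_num⟩
      have hi1 := h3 i (hC'.2 ▸ dvd_mul_right _ _)
      have hj := hC'.1
      rw [hC'.2] at hk
      interval_cases i <;> interval_cases j <;> norm_num at hk ⊢ <;> omega
    obtain ⟨m, rfl⟩ := hk3
    refine ⟨m, ?_⟩
    rw [show (3 : ℕ) ^ 4 * 7 = 3 ^ 3 * 21 by norm_num, mul_left_comm] at hk
    exact Nat.eq_of_mul_eq_mul_left (by norm_num) hk
  have hNC : Nat.card N ∣ Nat.card C * 6 := by
    rw [← Subgroup.card_mul_index (Z.normalizerMonoidHom).ker, Subgroup.index_ker,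
      Subgroup.normalizerMonoidHom_ker]
    refine mul_dvd_mul ?_ ?_
    · rw [Nat.card_congr (Subgroup.subgroupOfEquivOfLe
        (show Subgroup.centralizer (Z : Set G) ≤ N from Subgroup.centralizer_le_normalizer _)).toEquiv]
    · refine (Subgroup.card_subgroup_dvd_card _).trans ?_
      haveI : IsCyclic Z := by rw [hZ]; infer_instance
      rw [IsCyclic.card_mulAut, hZcard, Nat.totient_prime (by norm_num)]
  have hN126 : Nat.card N ∣ 126 := hNC.trans (by
    rw [show (126 : ℕ) = 21 * 6 by norm_num]; exact mul_dvd_mul_right hCdvd 6)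
  let P : Sylow 7 G := Sylow.ofCard Z (by
    rw [hZcard, hG, show (9072 : ℕ) = 7 ^ 1 * 1296 by norm_num,
      Nat.factorization_mul (by norm_num) (by norm_num), Finsupp.add_apply,
      Nat.factorization_eq_zero_of_not_dvd (n := 1296) (by norm_num), add_zero,
      (show Nat.Prime 7 by norm_num).factorization_pow, Finsupp.single_eq_same, pow_one])
  have hPZ : (P : Subgroup G) = Z := Sylow.coe_ofCard _ _
  have hmod := card_sylow_modEq_one 7 G
  have hidx := Sylow.card_eq_index_normalizer P
  have hmul := Subgroup.card_mul_index N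
  rw [hG] at hmul
  change Nat.card (Sylow 7 G) = (Subgroup.normalizer ((P : Subgroup G) : Set G)).index at hidx
  rw [hPZ, ← hN] at hidx
  rw [hidx] at hmod
  have hN7 : 7 ∣ Nat.card N := hZcard ▸ Subgroup.card_dvd_of_le Subgroup.le_normalizer
  have hle : Nat.card N ≤ 126 := Nat.le_of_dvd (by norm_num) hN126
  have hN7eq : Nat.card N = 7 := by
    generalize Nat.card N = c at hmul hN7 hN126 hle
    obtain ⟨d, rfl⟩ := hN7
    have hd : d ≤ 18 := by omega
    unfold Nat.ModEq at hmod
    interval_cases d <;> omega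
  -- Burnside
  have hcent : Subgroup.normalizer ((P : Subgroup G) : Set G) ≤
      Subgroup.centralizer ((P : Subgroup G) : Set G) := by
    rw [hPZ, ← hN, ← Subgroup.eq_of_le_of_card_ge (H := Z) (K := N) Subgroup.le_normalizer
      (by rw [hN7eq, hZcard])]
    haveI : IsMulCommutative Z := by rw [hZ]; infer_instance
    exact Subgroup.le_centralizer Z
  have hcompl := MonoidHom.ker_transferSylow_isComplement' P hcent
  set K := (MonoidHom.transferSylow P hcent).ker
  have hKcard : Nat.card K = 1296 := by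
    have := hcompl.card_mul
    rw [hPZ, hZcard, hG] at this
    omega
  haveI : IsPreprimitive G Ω := isPreprimitive_of_is_two_pretransitive D.two
  haveI : IsPretransitive K Ω := Cfsg.Agent.Lib.Perm.Basic.isPretransitive_of_normal_ne_bot K (by
    intro e; rw [e, Subgroup.card_bot] at hKcard; omega)
  have h := Cfsg.Agent.Lib.Perm.Basic.card_eq_card_mul_card_stabilizer (G := K) a
  rw [hKcard, hn] at h
  omega

end Data

end Cfsg.Agent.Lib.TwoTransA4
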