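import Cfsg.Agent.Lib.TwoTransA4.AffineIso
import Cfsg.Agent.Lib.TwoTransA4.Six
import Cfsg.Agent.Lib.TwoTransA4.Seven
import Cfsg.Agent.Lib.TwoTransA4.TwentyEight
import Cfsg.Agent.Lib.TwoTransA4.OddTwisted
import Cfsg.Agent.Lib.TwoTransA4.SixTwisted

/-!
# Doubly transitive groups with pair stabiliser `A₄`
-/

set_option autoImplicit false
set_option linter.unusedSectionVars false

namespace Cfsg.Agent.Lib.TwoTransA4

open MulAction
open Cfsg.Agent.Lib.ConstFix25 (fx)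

variable {G Ω : Type*} [Group G] [MulAction G Ω]

theorem Data.classify [Finite G] [Finite Ω] {a b : Ω} (D : Data G Ω a b) :
    (Nat.card Ω = 6 ∧ Nonempty (G ≃* ↥(alternatingGroup (Fin 6)))) ∨
      (Nat.card Ω = 15 ∧ Nonempty (G ≃* ↥(alternatingGroup (Fin 7)))) ∨
      (Nat.card Ω = 16 ∧ ∃ (F : Type) (_ : Field F) (_ : Fintype F), Fintype.card F = 4 ∧
        Nonempty (G ≃* ((Fin 2 → F) ≃ᵃ[F] (Fin 2 → F)))) ∨
      (∃ J : G, orderOf J = 2 ∧ Subgroup.centralizer ({J} : Set G) ⊔ Cfsg.oddCore G = ⊤) := by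
  obtain ⟨t, ht⟩ := D.exists_invol
  rcases Nat.even_or_odd (Nat.card Ω) with hev | hodd
  · rcases D.even_cases ht hev with ⟨j, hj, hjt, hc, hL, hf, h16⟩ | h6 | ⟨hc, hf, h28⟩
    · exact Or.inr (Or.inr (Or.inl ⟨h16, (⟨D, ht, hj, hc, hjt, hL, hf, h16⟩ : Plane a b t j).exists_iso⟩))
    · exact Or.inl ⟨h6, D.iso_six h6⟩
    · rcases D.swap_cases ht with ⟨j, -, hc', -⟩ | ⟨j, -, hc', -⟩ | ⟨-, -, hall⟩
      · omega
      · omega
      · exact (D.not_twenty_eight ht h28 hf hall).elim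
  · rcases D.swap_cases ht with ⟨j, hj, hc, hjt⟩ | ⟨j, hj, -, hall⟩ | ⟨hS, hc, hall⟩
    · exact Or.inr (Or.inr (Or.inr (D.exists_J_of_three ht hj hc hjt hodd)))
    · exact (D.four_odd_false ht hj hall hodd).elim
    · by_cases hL : Lin G a b
      · exact Or.inr (Or.inl (D.iso_seven ht hS hc hall hodd hL))
      · exact (D.six_twisted_false ht hS hc hodd hL).elim

end Cfsg.Agent.Lib.TwoTransA4
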