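import Cfsg.Agent.Lib.TwoTransA4.InvImage
import Cfsg.Agent.Lib.TwoTransA4.PointStab
import Mathlib.GroupTheory.Perm.Cycle.Type

/-!
# Odd degree, four class members swap a pair: only the case `c' = 2` remains

In an elementary abelian group of order eight the lines of the linear space give seven points with
one or two lines each, which is impossible.
-/

set_option autoImplicit false
set_option linter.unusedSectionVars false

namespace Cfsg.Agent.Lib.TwoTransA4

open MulAction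
open Cfsg.Agent.Lib.ConstFix25 (fx two_apply mul_self_of_orderOf ne_one_of_orderOf orderOf_conj)

variable {G Ω : Type*} [Group G] [MulAction G Ω]

/-- Two common fixed points. -/
def Share (Ω : Type*) {G : Type*} [Group G] [MulAction G Ω] (u v : G) : Prop :=
  ∃ x y : Ω, x ≠ y ∧ u • x = x ∧ u • y = y ∧ v • x = x ∧ v • y = y

/-- A centralising swapper without two fixed points among the fixed points of `t`. -/
def Mixed (a b : Ω) (t : G) : Prop :=
  ∃ g : G, Commute g t ∧ g • a = b ∧ g • b = a ∧ ¬ Share Ω t g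

/-- A subgroup of exponent two and order eight. -/
structure Eight (A : Subgroup G) : Prop where
  comm : ∀ x ∈ A, ∀ y ∈ A, Commute x y
  sq : ∀ x ∈ A, x * x = 1
  card : Nat.card A = 8

theorem share_iff [Finite Ω] {t g : G} (h : Commute g t) :
    Share Ω t g ↔ 2 ≤ fx (W Ω t) (bar h : ↥(X Ω t)) := by
  constructor
  · rintro ⟨x, y, hxy, htx, hty, hgx, hgy⟩
    exact two_le_fx_of_fix (x := ⟨x, htx⟩) (y := ⟨y, hty⟩) (fun e => hxy (congrArg Subtype.val e))
      (Subtype.ext hgx) (Subtype.ext hgy)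
  · intro h2
    obtain ⟨x, y, hxy, hx, hy⟩ := exists_two_fixed h2
    exact ⟨x.1, y.1, fun e => hxy (Subtype.ext e), x.2, y.2, congrArg Subtype.val hx,
      congrArg Subtype.val hy⟩

/-- Related pairs have a number divisible by three. -/
theorem three_dvd_pairs [Finite G] {A : Subgroup G} (hA : Eight A) :
    3 ∣ Set.ncard {p : G × G | p.1 ∈ A ∧ p.2 ∈ A ∧ p.1 ≠ 1 ∧ p.2 ≠ 1 ∧ p.1 ≠ p.2 ∧
      Share Ω p.1 p.2} := by
  classical
  haveI : Fact (Nat.Prime 3) := ⟨Nat.prime_three⟩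
  set P := {p : G × G | p.1 ∈ A ∧ p.2 ∈ A ∧ p.1 ≠ 1 ∧ p.2 ≠ 1 ∧ p.1 ≠ p.2 ∧ Share Ω p.1 p.2}
  have := Fintype.ofFinite P
  have key : ∀ u v : G, u ∈ A → v ∈ A → v * (u * v) = u := fun u v hu hv => by
    rw [(hA.comm u hu v hv).eq, ← mul_assoc, hA.sq v hv, one_mul]
  have hmem : ∀ p : P, ((p.1.2, p.1.1 * p.1.2) : G × G) ∈ P := by
    rintro ⟨⟨u, v⟩, hu, hv, hu1, hv1, huv, x, y, hxy, hux, huy, hvx, hvy⟩
    refine ⟨hv, mul_mem hu hv, hv1, fun e => huv ?_, fun e => hu1 (mul_eq_right.1 e.symm), x, y,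
      hxy, hvx, hvy, ?_, ?_⟩
    · have e' : u * v = 1 := e
      rw [eq_inv_of_mul_eq_one_left e', inv_eq_self (hA.sq v hv)]
    · show (u * v) • x = x
      rw [mul_smul, hvx, hux]
    · show (u * v) • y = y
      rw [mul_smul, hvy, huy]
  let F : P → P := fun p => ⟨_, hmem p⟩
  have h3 : ∀ p : P, F (F (F p)) = p := by
    rintro ⟨⟨u, v⟩, hu, hv, hrest⟩
    apply Subtype.ext
    show ((v * (u * v)), (u * v) * (v * (u * v))) = ((u, v) : G × G)
    rw [key u v hu hv, show u * v * u = v by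
      rw [(hA.comm u hu v hv).eq, mul_assoc, hA.sq u hu, mul_one]]
  let σ : Equiv.Perm P := ⟨F, fun p => F (F p), h3, h3⟩
  have hσ : σ ^ 3 ^ 1 = 1 := Equiv.ext fun p => h3 p
  have h := Equiv.Perm.card_compl_support_modEq (p := 3) (n := 1) hσ
  have hempty : (σ.support)ᶜ = ∅ := by
    rw [Finset.eq_empty_iff_forall_notMem]
    intro p hp
    rw [Finset.mem_compl, Equiv.Perm.notMem_support] at hp
    have e := congrArg (fun q : P => q.1.1) hp
    exact p.2.2.2.2.2.1 e.symm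
  rw [hempty, Finset.card_empty] at h
  rw [← Nat.card_coe_set_eq, Nat.card_eq_fintype_card]
  exact (Nat.modEq_zero_iff_dvd).1 h.symm

/-- Every point on the same number of lines. -/
theorem false_of_count [Finite G] {A : Subgroup G} (hA : Eight A) {k : ℕ} (hk : k = 2 ∨ k = 4)
    (hcount : ∀ u ∈ A, u ≠ 1 →
      Set.ncard {v : G | v ∈ A ∧ v ≠ 1 ∧ u ≠ v ∧ Share Ω u v} = k) : False := by
  classical
  have := Fintype.ofFinite G
  have h := three_dvd_pairs (Ω := Ω) hA
  set U := {u : G | u ∈ A ∧ u ≠ 1}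
  have hU : Set.ncard U = 7 := by
    rw [show U = (A : Set G) \ {1} from Set.ext fun u => Iff.rfl,
      Set.ncard_diff (by simp [A.one_mem]) (Set.toFinite _), ← Nat.card_coe_set_eq,
      Set.ncard_singleton]
    show Nat.card A - 1 = 7
    rw [hA.card]
  set P := {p : G × G | p.1 ∈ A ∧ p.2 ∈ A ∧ p.1 ≠ 1 ∧ p.2 ≠ 1 ∧ p.1 ≠ p.2 ∧ Share Ω p.1 p.2}
  have hP : Set.ncard P = 7 * k := by
    rw [← Nat.card_coe_set_eq, Nat.card_congr (β := Σ u : U,
      {v : G // v ∈ A ∧ v ≠ 1 ∧ (u : G) ≠ v ∧ Share Ω (u : G) v})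
      { toFun := fun p => ⟨⟨p.1.1, p.2.1, p.2.2.2.1⟩, p.1.2, p.2.2.1, p.2.2.2.2.1, p.2.2.2.2.2⟩
        invFun := fun s => ⟨(s.1.1, s.2.1), s.1.2.1, s.2.2.1, s.1.2.2, s.2.2.2⟩
        left_inv := fun p => rfl
        right_inv := fun s => rfl }, Nat.card_sigma,
      Finset.sum_congr rfl (g := fun _ => k) fun (u : U) _ =>
        (show Nat.card {v : G // v ∈ A ∧ v ≠ 1 ∧ (u : G) ≠ v ∧ Share Ω (u : G) v} = k from
          (Nat.card_coe_set_eq _).trans (hcount u u.2.1 u.2.2)),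
      Finset.sum_const, Finset.card_univ, smul_eq_mul, ← Nat.card_eq_fintype_card,
      Nat.card_coe_set_eq, hU]
  rw [hP] at h
  rcases hk with rfl | rfl <;> norm_num at h

namespace Data

variable {a b : Ω} (D : Data G Ω a b)
include D

theorem count_lin [Finite G] [Finite Ω] {A : Subgroup G} (hA : Eight A) {t : G} (ht : InvH a b t)
    (hL : Lin G a b) (hodd : Odd (fx Ω t)) (htA : t ∈ A) :
    Set.ncard {v : G | v ∈ A ∧ v ≠ 1 ∧ t ≠ v ∧ Share Ω t v} = 2 := by
  classical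
  set K := {v : G | v ∈ A ∧ ∀ x : Ω, t • x = x → v • x = x}
  set N := (A : Set G) \ K
  have hKV : K ⊆ (D.fourSub : Set G) := fun v hv =>
    ⟨hv.2 a ht.2.2.1, hv.2 b ht.2.2.2, hA.sq v hv.1⟩
  have hK4 : Set.ncard K ≤ 4 := by
    refine (Set.ncard_le_ncard hKV (Set.toFinite _)).trans ?_
    rw [← Nat.card_coe_set_eq]
    exact D.card_fourSub.le
  have hA8 : Set.ncard (A : Set G) = 8 := by
    rw [← Nat.card_coe_set_eq]; exact hA.card
  have hKA : K ⊆ (A : Set G) := fun v hv => hv.1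
  -- the elements outside `K` form one coset
  have hN : Set.ncard N ≤ Set.ncard K := by
    rcases N.eq_empty_or_nonempty with h | ⟨w, hwA, hwK⟩
    · simp [h]
    refine Set.ncard_le_ncard_of_injOn (w * ·) ?_ ((mul_right_injective w).injOn) (Set.toFinite _)
    rintro v ⟨hvA, hvK⟩
    refine ⟨mul_mem hwA hvA, fun x hx => ?_⟩
    have hinv : ∀ z : G, ∀ hz : z ∈ A, z ∉ K → orderOf (bar (hA.comm z hz t htA) : ↥(X Ω t)) = 2 :=
      fun z hz hzK => orderOf_eq_two
        (by rw [← bar_mul]; exact (bar_eq_one_iff _).2 fun y _ => by rw [hA.sq z hz, one_smul])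
        fun e => hzK ⟨hz, (bar_eq_one_iff _).1 e⟩
    have hc : Commute (bar (hA.comm w hwA t htA) : ↥(X Ω t)) (bar (hA.comm v hvA t htA)) := by
      show _ * _ = _ * _
      rw [← bar_mul, ← bar_mul]
      exact bar_congr _ _ (hA.comm w hwA v hvA).eq
    have heq := D.bar_eq_lin ht hL hodd (hinv w hwA hwK) (hinv v hvA hvK) hc
    rw [bar_eq_iff] at heq
    rw [mul_smul, ← heq x hx, ← mul_smul, hA.sq w hwA, one_smul]
  have hsum : Set.ncard N + Set.ncard K = 8 := by
    rw [← hA8]; exact Set.ncard_diff_add_ncard_of_subset hKA (Set.toFinite _)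
  have hset : {v : G | v ∈ A ∧ v ≠ 1 ∧ t ≠ v ∧ Share Ω t v} = K \ {1, t} := by
    ext v
    constructor
    · rintro ⟨hv, hv1, hvt, x, y, hxy, htx, hty, hvx, hvy⟩
      refine ⟨⟨hv, fun z hz => ?_⟩, by simp [hv1, Ne.symm hvt]⟩
      exact D.lin_at hxy hL t v ⟨ht.1, ht.2.1, htx, hty⟩ ⟨hA.sq v hv, hv1, hvx, hvy⟩ z hz
    · rintro ⟨⟨hv, hvK⟩, hv'⟩
      simp only [Set.mem_insert_iff, Set.mem_singleton_iff, not_or] at hv'
      exact ⟨hv, hv'.1, Ne.symm hv'.2, a, b, D.ne, ht.2.2.1, ht.2.2.2, hvK a ht.2.2.1,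
        hvK b ht.2.2.2⟩
  have hsub : ({1, t} : Set G) ⊆ K := by
    rintro v (rfl | rfl)
    · exact ⟨A.one_mem, fun x _ => one_smul G x⟩
    · exact ⟨htA, fun x hx => hx⟩
  rw [hset, Set.ncard_diff hsub (Set.toFinite _), Set.ncard_pair (Ne.symm ht.2.1)]
  omega

theorem count_mixed [Finite G] [Finite Ω] {A : Subgroup G} (hA : Eight A) {t : G}
    (ht : InvH a b t) (hL : ¬ Lin G a b) (hodd : Odd (fx Ω t)) (htA : t ∈ A) (hM : Mixed a b t) :
    Set.ncard {v : G | v ∈ A ∧ v ≠ 1 ∧ t ≠ v ∧ Share Ω t v} = 4 := by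
  classical
  obtain ⟨s, hs, hst⟩ := D.exists_invol_ne ht
  have BX := D.baseX ht hL hs hst
  set sb : ↥(X Ω t) := bar (D.commute_invH hs ht) with hsb
  have hp1 := D.pairNum_X ht hL hs hst
  have hc1 : swapNum (pa ht) (pb ht) sb = 1 := by
    obtain ⟨g, hg, hga, hgb, hns⟩ := hM
    refine (D.swapNum_X_cases ht hL hs hst).resolve_right fun h2 => hns ?_
    rw [share_iff hg]
    let ι : {u : ↥(X Ω t) // IsConj sb u ∧ u • pa ht = pb ht} →
        {u : ↥(X Ω t) // u • pa ht = pb ht ∧ u • pb ht = pa ht} :=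
      fun u => ⟨u.1, u.2.2, by
        obtain ⟨u, hu1, hu2⟩ := u
        show u • pb ht = pa ht
        rw [← hu2, ← mul_smul, mul_self_of_orderOf (BX.orderOf_class hu1), one_smul]⟩
    obtain ⟨u, hu⟩ := ((Nat.bijective_iff_injective_and_card ι).2
      ⟨fun u v h => Subtype.ext (congrArg Subtype.val h :), by
        rw [D.card_swappers ht, D.card_stab_X ht hL hs hst]; exact h2⟩).2
      ⟨bar hg, Subtype.ext hga, Subtype.ext hgb⟩
    have e : u.1 = bar hg := congrArg Subtype.val hu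
    exact ((BX.mem_class_iff).1 (e ▸ u.2.1)).2
  set O := (A : Set G) \ {1, t} with hO
  have hOinv : ∀ v ∈ O, ∀ hc : Commute v t, orderOf (bar hc : ↥(X Ω t)) = 2 := by
    rintro v ⟨hvA, hv⟩ hc
    simp only [Set.mem_insert_iff, Set.mem_singleton_iff, not_or] at hv
    refine orderOf_eq_two
      (by rw [← bar_mul]; exact (bar_eq_one_iff _).2 fun y _ => by rw [hA.sq v hvA, one_smul])
      fun e => ?_
    have hfix := (bar_eq_one_iff hc).1 e
    rcases D.fix_cases ht hs hst hc (hfix a ht.2.2.1) (hfix b ht.2.2.2) with h | h | h | h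
    · exact hv.1 h
    · exact hv.2 h
    · exact hL (D.lin_of_subset ht hs hst fun x hx => h ▸ hfix x hx)
    · refine hL (D.lin_of_subset ht hs hst fun x hx => ?_)
      have h' := hfix x hx
      rwa [h, mul_smul, hx] at h'
  have hbc : ∀ v w : G, v ∈ A → w ∈ A → ∀ (hv : Commute v t) (hw : Commute w t),
      Commute (bar hv : ↥(X Ω t)) (bar hw) := fun v w hvA hwA hv hw => by
    show _ * _ = _ * _
    rw [← bar_mul, ← bar_mul]
    exact bar_congr _ _ (hA.comm v hvA w hwA).eq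
  have hO6 : Set.ncard O = 6 := by
    have hsub : ({1, t} : Set G) ⊆ (A : Set G) := by
      rintro v (rfl | rfl)
      exacts [A.one_mem, htA]
    rw [hO, Set.ncard_diff hsub (Set.toFinite _), Set.ncard_pair (Ne.symm ht.2.1),
      ← Nat.card_coe_set_eq]
    show Nat.card A - 2 = 6
    rw [hA.card]
  -- some element of `O` is outside the class
  have hex : ∃ x ∈ O, ¬ Share Ω t x := by
    by_contra! hall
    obtain ⟨v, hv⟩ : O.Nonempty := Set.nonempty_of_ncard_ne_zero (by omega)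
    obtain ⟨w, hw, hw'⟩ : ∃ w ∈ O, w ∉ ({v, v * t} : Set G) := by
      by_contra! h
      have := (Set.ncard_le_ncard (s := O) (t := {v, v * t}) h (Set.toFinite _)).trans
        (Set.ncard_insert_le _ _)
      rw [Set.ncard_singleton, hO6] at this
      omega
    simp only [Set.mem_insert_iff, Set.mem_singleton_iff, not_or] at hw'
    have hcv := hA.comm v hv.1 t htA
    have hcw := hA.comm w hw.1 t htA
    have hcl : ∀ z ∈ O, ∀ hc : Commute z t, IsConj sb (bar hc) := fun z hz hc =>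
      BX.mem_class_iff.2 ⟨hOinv z hz hc, (share_iff hc).1 (hall z hz)⟩
    have hvw : v * w ∈ O := by
      refine ⟨mul_mem hv.1 hw.1, ?_⟩
      simp only [Set.mem_insert_iff, Set.mem_singleton_iff, not_or]
      exact ⟨fun e => hw'.1 (by rw [← inv_eq_self (hA.sq v hv.1), eq_inv_of_mul_eq_one_right e]),
        fun e => hw'.2 (by rw [← e, ← mul_assoc, hA.sq v hv.1, one_mul])⟩
    have hne : (bar hcv : ↥(X Ω t)) ≠ bar hcw := fun e => by
      have h1 : (bar (hcv.mul_left hcw) : ↥(X Ω t)) = 1 := by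
        rw [bar_mul hcv hcw, ← e, ← bar_mul]
        exact (bar_eq_one_iff _).2 fun y _ => by rw [hA.sq v hv.1, one_smul]
      exact ne_one_of_orderOf (hOinv _ hvw _) h1
    have h := BX.mul_outside hp1 hc1 (hcl v hv hcv) (hcl w hw hcw) hne (hbc v w hv.1 hw.1 hcv hcw)
    rw [← bar_mul] at h
    exact h (hcl _ hvw _)
  obtain ⟨x0, hx0, hx0n⟩ := hex
  have hcx := hA.comm x0 hx0.1 t htA
  have hout : ∀ v ∈ O, ¬ Share Ω t v → v = x0 ∨ v = x0 * t := by
    intro v hv hvn
    have hcv := hA.comm v hv.1 t htA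
    have heq := BX.outside_eq hodd hc1 (fun u hua hub => D.swapX_sq ht hua hub)
      (by rw [D.card_swappers ht, D.card_stab_X ht hL hs hst]) (hOinv v hv hcv)
      (fun h => hvn ((share_iff hcv).2 (BX.mem_class_iff.1 h).2)) (hOinv x0 hx0 hcx)
      (fun h => hx0n ((share_iff hcx).2 (BX.mem_class_iff.1 h).2))
      (hbc v x0 hv.1 hx0.1 hcv hcx)
    by_contra hne
    push_neg at hne
    have hm : x0 * v ∈ O := by
      refine ⟨mul_mem hx0.1 hv.1, ?_⟩
      simp only [Set.mem_insert_iff, Set.mem_singleton_iff, not_or]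
      exact ⟨fun e => hne.1 (by rw [eq_inv_of_mul_eq_one_right e, inv_eq_self (hA.sq x0 hx0.1)]),
        fun e => hne.2 (by rw [← e, ← mul_assoc, hA.sq x0 hx0.1, one_mul])⟩
    refine ne_one_of_orderOf (hOinv _ hm (hcx.mul_left hcv)) ?_
    rw [bar_mul hcx hcv, heq, ← bar_mul]
    exact (bar_eq_one_iff _).2 fun y _ => by rw [hA.sq x0 hx0.1, one_smul]
  have hx0t : ¬ Share Ω t (x0 * t) := by
    rintro ⟨x, y, hxy, htx, hty, hx, hy⟩
    rw [mul_smul, htx] at hx
    rw [mul_smul, hty] at hy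
    exact hx0n ⟨x, y, hxy, htx, hty, hx, hy⟩
  have hset : {v : G | v ∈ A ∧ v ≠ 1 ∧ t ≠ v ∧ Share Ω t v} = O \ {x0, x0 * t} := by
    ext v
    constructor
    · rintro ⟨hv, hv1, hvt, hsh⟩
      refine ⟨⟨hv, by simp [hv1, Ne.symm hvt]⟩, ?_⟩
      rintro (rfl | rfl)
      exacts [hx0n hsh, hx0t hsh]
    · rintro ⟨hv, hv'⟩
      have h2 := hv.2
      simp only [Set.mem_insert_iff, Set.mem_singleton_iff, not_or] at h2 hv'
      refine ⟨hv.1, h2.1, Ne.symm h2.2, by_contra fun hns => ?_⟩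
      rcases hout v hv hns with h | h
      exacts [hv'.1 h, hv'.2 h]
  have hsub : ({x0, x0 * t} : Set G) ⊆ O := by
    have h := hx0.2
    simp only [Set.mem_insert_iff, Set.mem_singleton_iff, not_or] at h
    rintro v (rfl | rfl)
    · exact hx0
    · refine ⟨mul_mem hx0.1 htA, ?_⟩
      simp only [Set.mem_insert_iff, Set.mem_singleton_iff, not_or]
      exact ⟨fun e => h.2 (by rw [eq_inv_of_mul_eq_one_left e, inv_eq_self ht.1]),
        fun e => h.1 (mul_eq_right.1 e)⟩
  rw [hset, Set.ncard_diff hsub (Set.toFinite _),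
    Set.ncard_pair (fun e => ht.2.1 (mul_eq_left.1 e.symm)), hO6]

/-- Transport of `Mixed`. -/
theorem mixed_at {c d : Ω} (hcd : c ≠ d) {t u : G} (ht : InvH a b t) (hu : InvH c d u)
    (hM : Mixed a b t) : Mixed c d u := by
  obtain ⟨g0, hga, hgb⟩ := two_apply D.two D.ne hcd
  have ht' : InvH c d (g0 * t * g0⁻¹) := by
    refine ⟨?_, fun e => ht.2.1 (conj_eq_one_iff.1 e), ?_, ?_⟩
    · rw [show g0 * t * g0⁻¹ * (g0 * t * g0⁻¹) = g0 * (t * t) * g0⁻¹ by group, ht.1]; group
    · rw [← hga, conj_smul_smul, ht.2.2.1]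
    · rw [← hgb, conj_smul_smul, ht.2.2.2]
  obtain ⟨h, hhc, hhd, hh⟩ := (D.of_pair hcd).conj ht' hu
  obtain ⟨g, hgt, hg1, hg2, hns⟩ := hM
  set k := h * g0 with hk
  have hka : k • a = c := by rw [hk, mul_smul, hga, hhc]
  have hkb : k • b = d := by rw [hk, mul_smul, hgb, hhd]
  have hku : k * t * k⁻¹ = u := by rw [← hh, hk]; group
  refine ⟨k * g * k⁻¹, ?_, ?_, ?_, ?_⟩
  · rw [← hku]
    show k * g * k⁻¹ * (k * t * k⁻¹) = k * t * k⁻¹ * (k * g * k⁻¹)
    calc k * g * k⁻¹ * (k * t * k⁻¹) = k * (g * t) * k⁻¹ := by group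
      _ = _ := by rw [hgt.eq]; group
  · rw [← hka, conj_smul_smul, hg1, hkb]
  · rw [← hkb, conj_smul_smul, hg2, hka]
  · rintro ⟨x, y, hxy, hux, huy, hgx, hgy⟩
    refine hns ⟨k⁻¹ • x, k⁻¹ • y, fun e => hxy (smul_left_cancel _ e), ?_, ?_, ?_, ?_⟩
    all_goals first
      | (rw [← hku, mul_smul, mul_smul, ← eq_inv_smul_iff] at hux; exact hux)
      | (rw [← hku, mul_smul, mul_smul, ← eq_inv_smul_iff] at huy; exact huy)
      | (rw [mul_smul, mul_smul, ← eq_inv_smul_iff] at hgx; exact hgx)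
      | (rw [mul_smul, mul_smul, ← eq_inv_smul_iff] at hgy; exact hgy)

/-- `V × ⟨j⟩`. -/
def eightSub {j : G} (hj : CaseA a b j) : Subgroup G where
  carrier := {g | g ∈ D.fourSub ∨ j * g ∈ D.fourSub}
  one_mem' := Or.inl D.fourSub.one_mem
  mul_mem' := by
    rintro x y (hx | hx) (hy | hy)
    · exact Or.inl (mul_mem hx hy)
    · refine Or.inr ?_
      rw [← mul_assoc, (hj.2 x hx.1 hx.2.1).eq, mul_assoc]
      exact mul_mem hx hy
    · exact Or.inr (by rw [← mul_assoc]; exact mul_mem hx hy)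
    · refine Or.inl ?_
      have h := mul_mem hx hy
      have hc : Commute j (j * x) := hj.2 _ hx.1 hx.2.1
      have e : j * x * (j * y) = x * y := by
        rw [show j * x * (j * y) = (j * x * j) * y by group, ← hc.eq, ← mul_assoc j j x, hj.1.1,
          one_mul]
      rwa [e] at h
  inv_mem' := by
    rintro x (hx | hx)
    · exact Or.inl (inv_mem hx)
    · refine Or.inr ?_
      have hc : Commute j (j * x) := hj.2 _ hx.1 hx.2.1
      have e : x = j * (j * x) := by rw [← mul_assoc, hj.1.1, one_mul]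
      rw [e, mul_inv_rev, ← hc.inv_right.inv_left.eq, ← mul_assoc, mul_inv_cancel, one_mul]
      exact inv_mem hx

theorem eight_eightSub [Finite G] {j : G} (hj : CaseA a b j) : Eight (D.eightSub hj) := by
  have hV : ∀ x ∈ D.fourSub, Commute j x := fun x hx => hj.2 x hx.1 hx.2.1
  have hsplit : ∀ g ∈ D.eightSub hj, ∃ x ∈ D.fourSub, g = x ∨ g = j * x := by
    rintro g (hg | hg)
    · exact ⟨g, hg, Or.inl rfl⟩
    · exact ⟨j * g, hg, Or.inr (by rw [← mul_assoc, hj.1.1, one_mul])⟩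
  have hVc : ∀ x ∈ D.fourSub, ∀ y ∈ D.fourSub, Commute x y := fun x hx y hy =>
    D.comm hx.1 hx.2.1 hy.1 hy.2.1 hx.2.2 hy.2.2
  refine ⟨?_, ?_, ?_⟩
  · intro g hg h hh
    obtain ⟨x, hx, hgx⟩ := hsplit g hg
    obtain ⟨y, hy, hhy⟩ := hsplit h hh
    rcases hgx with hgx | hgx <;> rcases hhy with hhy | hhy <;> rw [hgx, hhy]
    · exact hVc x hx y hy
    · exact (hV x hx).symm.mul_right (hVc x hx y hy)
    · exact (hV y hy).mul_left (hVc x hx y hy)
    · exact ((Commute.refl j).mul_right (hV y hy)).mul_left ((hV x hx).symm.mul_right (hVc x hx y hy))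
  · intro g hg
    obtain ⟨x, hx, rfl | rfl⟩ := hsplit g hg
    · exact hx.2.2
    · rw [show j * x * (j * x) = j * (x * j) * x by group, ← (hV x hx).eq,
        ← mul_assoc j j x, hj.1.1, one_mul, hx.2.2]
  · have hset : ((D.eightSub hj : Subgroup G) : Set G) =
        (D.fourSub : Set G) ∪ (j * ·) '' (D.fourSub : Set G) := by
      ext g
      constructor
      · intro hg
        obtain ⟨x, hx, rfl | rfl⟩ := hsplit g hg
        · exact Or.inl hx
        · exact Or.inr ⟨x, hx, rfl⟩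
      · rintro (hg | ⟨x, hx, rfl⟩)
        · exact Or.inl hg
        · refine Or.inr ?_
          show j * (j * x) ∈ D.fourSub
          rw [← mul_assoc, hj.1.1, one_mul]
          exact hx
    have hdisj : Disjoint (D.fourSub : Set G) ((j * ·) '' (D.fourSub : Set G)) := by
      rw [Set.disjoint_left]
      rintro g hg ⟨x, hx, rfl⟩
      have h : (j * x) • a = a := hg.1
      rw [mul_smul, hx.1, hj.1.2] at h
      exact D.ne h.symm
    rw [show Nat.card ↥(D.eightSub hj) = Set.ncard ((D.eightSub hj : Subgroup G) : Set G) from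
      Nat.card_coe_set_eq _, hset, Set.ncard_union_eq hdisj (Set.toFinite _) (Set.toFinite _),
      Set.ncard_image_of_injective _ (mul_right_injective j), ← Nat.card_coe_set_eq]
    show Nat.card D.fourSub + Nat.card D.fourSub = 8
    rw [D.card_fourSub]

theorem not_lin_four [Finite G] [Finite Ω] {t j : G} (ht : InvH a b t) (hj : CaseA a b j)
    (hall : ∀ u : G, orderOf u = 2 → IsConj t u) (hodd : Odd (fx Ω t)) : ¬ Lin G a b := by
  intro hL
  have hA := D.eight_eightSub hj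
  refine false_of_count (Ω := Ω) hA (Or.inl rfl) fun u hu hu1 => ?_
  have hut := hall u (orderOf_eq_two (hA.sq u hu) hu1)
  obtain ⟨c, d, D', hu'⟩ := D.exists_data_of_class ht hut
  exact D'.count_lin hA hu' (D.lin_at D'.ne hL)
    (by rw [(D.base ht).fx_class hut]; exact hodd) hu

theorem not_mixed_four [Finite G] [Finite Ω] {t j : G} (ht : InvH a b t) (hj : CaseA a b j)
    (hall : ∀ u : G, orderOf u = 2 → IsConj t u) (hodd : Odd (fx Ω t)) : ¬ Mixed a b t := by
  intro hM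
  have hA := D.eight_eightSub hj
  have hL := D.not_lin_four ht hj hall hodd
  refine false_of_count (Ω := Ω) hA (Or.inr rfl) fun u hu hu1 => ?_
  have hut := hall u (orderOf_eq_two (hA.sq u hu) hu1)
  obtain ⟨c, d, D', hu'⟩ := D.exists_data_of_class ht hut
  exact D'.count_mixed hA hu' (fun h => hL (D'.lin_at D.ne h))
    (by rw [(D.base ht).fx_class hut]; exact hodd) hu (D.mixed_at D'.ne ht hu' hM)

end Data

end Cfsg.Agent.Lib.TwoTransA4
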