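import Cfsg.Agent.Lib.ConstFix25.Basic

/-!
# Double counts for conjugation closed sets in a doubly transitive group

A conjugation closed set of permutations is counted against the ordered pairs of points, once by the
points it moves and once by the points it fixes.
-/

set_option autoImplicit false
set_option linter.unusedSectionVars false

namespace Cfsg.Agent.Lib.TwoTransA4

open MulAction
open Cfsg.Agent.Lib.ConstFix25 (fx two_apply card_offDiag card_moved)

variable {G Ω : Type*} [Group G] [MulAction G Ω]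

/-- Closed under conjugation. -/
def ConjClosed (P : G → Prop) : Prop := ∀ g u : G, P u → P (g * u * g⁻¹)

theorem conjClosed_isConj (t : G) : ConjClosed fun u : G => IsConj t u :=
  fun g _ h => h.trans (isConj_iff.2 ⟨g, rfl⟩)

theorem conj_smul_smul (g u : G) (x : Ω) : (g * u * g⁻¹) • g • x = g • u • x := by
  rw [← mul_smul, inv_mul_cancel_right, mul_smul]

theorem ConjClosed.conj_iff {P : G → Prop} (hP : ConjClosed P) (g u : G) :
    P u ↔ P (g * u * g⁻¹) :=
  ⟨hP g u, fun h => by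
    have e : u = g⁻¹ * (g * u * g⁻¹) * g⁻¹⁻¹ := by group
    rw [e]
    exact hP _ _ h⟩

theorem card_swap_eq {P : G → Prop} (hP : ConjClosed P) (h2 : IsMultiplyPretransitive G Ω 2)
    {a b c e : Ω} (hab : a ≠ b) (hce : c ≠ e) :
    Nat.card {u : G // P u ∧ u • c = e} = Nat.card {u : G // P u ∧ u • a = b} := by
  obtain ⟨g, hga, hgb⟩ := two_apply h2 hab hce
  refine (Nat.card_congr ((MulAut.conj g).toEquiv.subtypeEquiv fun u => ?_)).symm
  show P u ∧ u • a = b ↔ P (g * u * g⁻¹) ∧ (g * u * g⁻¹) • c = e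
  rw [← hga, ← hgb, conj_smul_smul, ← hP.conj_iff g u, smul_left_cancel_iff]

theorem card_both_eq {P : G → Prop} (hP : ConjClosed P) (h2 : IsMultiplyPretransitive G Ω 2)
    {a b c e : Ω} (hab : a ≠ b) (hce : c ≠ e) :
    Nat.card {u : G // P u ∧ u • c = c ∧ u • e = e} =
      Nat.card {u : G // P u ∧ u • a = a ∧ u • b = b} := by
  obtain ⟨g, hga, hgb⟩ := two_apply h2 hab hce
  refine (Nat.card_congr ((MulAut.conj g).toEquiv.subtypeEquiv fun u => ?_)).symm
  show P u ∧ u • a = a ∧ u • b = b ↔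
    P (g * u * g⁻¹) ∧ (g * u * g⁻¹) • c = c ∧ (g * u * g⁻¹) • e = e
  rw [← hga, ← hgb, conj_smul_smul, conj_smul_smul, ← hP.conj_iff g u, smul_left_cancel_iff,
    smul_left_cancel_iff]

/-- The moved points, counted against the pairs. -/
theorem count_moved [Finite G] [Finite Ω] {P : G → Prop} (hP : ConjClosed P)
    (h2 : IsMultiplyPretransitive G Ω 2) {a b : Ω} (hab : a ≠ b) {k : ℕ}
    (hk : ∀ u, P u → fx Ω u = k) :
    Nat.card {u : G // P u} * (Nat.card Ω - k) =
      Nat.card Ω * (Nat.card Ω - 1) * Nat.card {u : G // P u ∧ u • a = b} := by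
  classical
  have := Fintype.ofFinite G
  have := Fintype.ofFinite Ω
  let e : (Σ u : {u : G // P u}, {x : Ω // (u : G) • x ≠ x}) ≃
      (Σ y : {p : Ω × Ω // p.1 ≠ p.2}, {u : G // P u ∧ u • y.1.1 = y.1.2}) :=
    { toFun := fun s => ⟨⟨(s.2.1, (s.1 : G) • s.2.1), fun h => s.2.2 h.symm⟩, s.1.1, s.1.2, rfl⟩
      invFun := fun s => ⟨⟨s.2.1, s.2.2.1⟩, s.1.1.1, fun h => s.1.2 (h.symm.trans s.2.2.2)⟩
      left_inv := fun s => rfl
      right_inv := by
        rintro ⟨⟨⟨p, q⟩, hpq⟩, ⟨x, hx1, hx⟩⟩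
        change x • p = q at hx
        subst hx
        rfl }
  have h := Nat.card_congr e
  rw [Nat.card_sigma, Nat.card_sigma,
    Finset.sum_congr rfl (g := fun _ => Nat.card Ω - k) fun u _ => ?_,
    Finset.sum_congr rfl fun y _ => card_swap_eq hP h2 hab y.2] at h
  · simpa [← Nat.card_eq_fintype_card, card_offDiag] using h
  · have := card_moved (Ω := Ω) (u : G)
    rw [hk u u.2] at this
    omega

/-- The fixed points, counted against the pairs. -/
theorem count_fixed [Finite G] [Finite Ω] {P : G → Prop} (hP : ConjClosed P)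
    (h2 : IsMultiplyPretransitive G Ω 2) {a b : Ω} (hab : a ≠ b) {k : ℕ}
    (hk : ∀ u, P u → fx Ω u = k) :
    Nat.card {u : G // P u} * (k * (k - 1)) =
      Nat.card Ω * (Nat.card Ω - 1) * Nat.card {u : G // P u ∧ u • a = a ∧ u • b = b} := by
  classical
  have := Fintype.ofFinite G
  have := Fintype.ofFinite Ω
  let e : (Σ u : {u : G // P u},
        {p : {x : Ω // (u : G) • x = x} × {x : Ω // (u : G) • x = x} // p.1 ≠ p.2}) ≃
      (Σ y : {p : Ω × Ω // p.1 ≠ p.2}, {u : G // P u ∧ u • y.1.1 = y.1.1 ∧ u • y.1.2 = y.1.2}) :=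
    { toFun := fun s => ⟨⟨(s.2.1.1.1, s.2.1.2.1), fun h => s.2.2 (Subtype.ext h)⟩, s.1.1, s.1.2,
        s.2.1.1.2, s.2.1.2.2⟩
      invFun := fun s => ⟨⟨s.2.1, s.2.2.1⟩, (⟨s.1.1.1, s.2.2.2.1⟩, ⟨s.1.1.2, s.2.2.2.2⟩),
        fun h => s.1.2 (congrArg Subtype.val h)⟩
      left_inv := fun s => rfl
      right_inv := fun s => rfl }
  have h := Nat.card_congr e
  rw [Nat.card_sigma, Nat.card_sigma,
    Finset.sum_congr rfl (g := fun _ => k * (k - 1)) fun u _ => ?_,
    Finset.sum_congr rfl fun y _ => card_both_eq hP h2 hab y.2] at h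
  · simpa [← Nat.card_eq_fintype_card, card_offDiag] using h
  · rw [card_offDiag]
    exact congrArg (fun j => j * (j - 1)) (hk u u.2)

theorem pretransitive [Nontrivial Ω] (h2 : IsMultiplyPretransitive G Ω 2) : IsPretransitive G Ω :=
  ⟨fun x y => by
    obtain ⟨x', hx⟩ := exists_ne x
    obtain ⟨y', hy⟩ := exists_ne y
    obtain ⟨g, hg, -⟩ := two_apply h2 hx.symm hy.symm
    exact ⟨g, hg⟩⟩

/-- A class with one fixed point each and one member swapping a pair: one member for each point. -/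
theorem unique_point [Finite G] [Finite Ω] {P : G → Prop} (hP : ConjClosed P)
    (h2 : IsMultiplyPretransitive G Ω 2) {a b : Ω} (hab : a ≠ b)
    (hk : ∀ u, P u → fx Ω u = 1) (h1 : Nat.card {u : G // P u ∧ u • a = b} = 1) (p : Ω) :
    ∃! u : G, P u ∧ u • p = p := by
  classical
  haveI : Nontrivial Ω := ⟨⟨a, b, hab⟩⟩
  haveI := pretransitive h2
  have hn : 1 < Nat.card Ω := Finite.one_lt_card
  have hc := count_moved hP h2 hab hk
  rw [h1, mul_one] at hc
  have hcard : Nat.card {u : G // P u} = Nat.card Ω :=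
    Nat.eq_of_mul_eq_mul_right (by omega) hc
  have hfix : ∀ u : {u : G // P u}, ∃ q : Ω, (u : G) • q = q := fun u => by
    have h := hk u u.2
    obtain ⟨⟨q, hq⟩⟩ := (Nat.card_pos_iff.1 (by rw [fx] at h; omega :
      0 < Nat.card {x : Ω // (u : G) • x = x})).1
    exact ⟨q, hq⟩
  have huniq : ∀ u : G, P u → ∀ q r : Ω, u • q = q → u • r = r → q = r := fun u hu q r hq hr => by
    have h := hk u hu
    rw [fx] at h
    haveI := (Nat.card_eq_one_iff_unique.1 h).1
    exact congrArg Subtype.val (Subsingleton.elim (⟨q, hq⟩ : {x : Ω // u • x = x}) ⟨r, hr⟩)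
  choose φ hφ using hfix
  have hex : ∀ q : Ω, ∃ u : G, P u ∧ u • q = q := by
    intro q
    obtain ⟨⟨u, hu, -⟩⟩ := (Nat.card_pos_iff.1 (by omega :
      0 < Nat.card {u : G // P u ∧ u • a = b})).1
    obtain ⟨g, hg⟩ := exists_smul_eq G (φ ⟨u, hu⟩) q
    refine ⟨g * u * g⁻¹, hP g u hu, ?_⟩
    rw [← hg, conj_smul_smul, hφ ⟨u, hu⟩]
  have hsurj : Function.Surjective φ := fun q => by
    obtain ⟨u, hu, huq⟩ := hex q
    exact ⟨⟨u, hu⟩, huniq u hu _ _ (hφ ⟨u, hu⟩) huq⟩
  have hinj := ((Nat.bijective_iff_surjective_and_card φ).2 ⟨hsurj, hcard⟩).1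
  obtain ⟨u, hu, hup⟩ := hex p
  refine ⟨u, ⟨hu, hup⟩, fun v hv => ?_⟩
  have := hinj (a₁ := ⟨v, hv.1⟩) (a₂ := ⟨u, hu⟩)
    ((huniq v hv.1 _ p (hφ ⟨v, hv.1⟩) hv.2).trans (huniq u hu p _ hup (hφ ⟨u, hu⟩)))
  exact congrArg Subtype.val this

/-- Commuting members of such a class are equal. -/
theorem eq_of_commute [Finite G] [Finite Ω] {P : G → Prop} (hP : ConjClosed P)
    (h2 : IsMultiplyPretransitive G Ω 2) {a b : Ω} (hab : a ≠ b)
    (hk : ∀ u, P u → fx Ω u = 1) (h1 : Nat.card {u : G // P u ∧ u • a = b} = 1)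
    {u v : G} (hu : P u) (hv : P v) (hc : Commute u v) : u = v := by
  have h := hk v hv
  rw [fx] at h
  haveI := (Nat.card_eq_one_iff_unique.1 h).1
  obtain ⟨⟨q, hq⟩⟩ := (Nat.card_pos_iff.1 (by omega :
      0 < Nat.card {x : Ω // v • x = x})).1
  have huq : v • (u • q) = u • q := by rw [← mul_smul, ← hc.eq, mul_smul, hq]
  have he : u • q = q :=
    congrArg Subtype.val (Subsingleton.elim (⟨u • q, huq⟩ : {x : Ω // v • x = x}) ⟨q, hq⟩)
  exact (unique_point hP h2 hab hk h1 q).unique ⟨hu, he⟩ ⟨hv, hq⟩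

end Cfsg.Agent.Lib.TwoTransA4
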