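import Cfsg.Agent.Lib.TwoTransA4.OddThree

/-!
# The collinear case with `f = 4`, `n = 16`: the regular normal subgroup

The fixed point free involutions outside the class are translations of an affine plane of order four.
-/

set_option autoImplicit false
set_option linter.unusedSectionVars false

namespace Cfsg.Agent.Lib.TwoTransA4

open MulAction
open Cfsg.Agent.Lib.ConstFix25 (fx two_apply mul_self_of_orderOf ne_one_of_orderOf orderOf_conj
  orderOf_of_isConj fx_conj exists_moved)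

variable {G Ω : Type*} [Group G] [MulAction G Ω]

/-- A line: the fixed points of a class member. -/
def IsLine (t : G) (L : Set Ω) : Prop := ∃ v : G, IsConj t v ∧ L = {x : Ω | v • x = x}

/-- The hypotheses of the plane. -/
structure Plane (a b : Ω) (t j : G) : Prop where
  data : Data G Ω a b
  tH : InvH a b t
  caseA : CaseA a b j
  three : swapNum a b t = 3
  jt : ¬ IsConj t j
  lin : Lin G a b
  four : fx Ω t = 4
  deg : Nat.card Ω = 16

namespace Plane

variable [Finite G] [Finite Ω] {a b : Ω} {t j : G} (P : Plane a b t j)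
include P

theorem line_card {L : Set Ω} (hL : IsLine t L) : L.ncard = 4 := by
  obtain ⟨v, hv, rfl⟩ := hL
  rw [← Nat.card_coe_set_eq]
  exact ((P.data.base P.tH).fx_class hv).trans P.four

theorem line_eq {L M : Set Ω} (hL : IsLine t L) (hM : IsLine t M) {x y : Ω} (hxy : x ≠ y)
    (hxL : x ∈ L) (hyL : y ∈ L) (hxM : x ∈ M) (hyM : y ∈ M) : L = M := by
  obtain ⟨u, hu, rfl⟩ := hL
  obtain ⟨v, hv, rfl⟩ := hM
  ext z
  exact ⟨fun hz => P.data.lin_class P.lin P.tH hu hv hxy hxL hyL hxM hyM hz,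
    fun hz => P.data.lin_class P.lin P.tH hv hu hxy hxM hyM hxL hyL hz⟩

theorem exists_line {x y : Ω} (hxy : x ≠ y) : ∃ L : Set Ω, IsLine t L ∧ x ∈ L ∧ y ∈ L := by
  obtain ⟨g, hga, hgb⟩ := two_apply P.data.two P.data.ne hxy
  refine ⟨_, ⟨g * t * g⁻¹, isConj_iff.2 ⟨g, rfl⟩, rfl⟩, ?_, ?_⟩
  · show (g * t * g⁻¹) • x = x
    rw [← hga, conj_smul_smul, P.tH.2.2.1]
  · show (g * t * g⁻¹) • y = y
    rw [← hgb, conj_smul_smul, P.tH.2.2.2]

theorem line_image {L : Set Ω} (hL : IsLine t L) (g : G) : IsLine t ((g • ·) '' L) := by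
  obtain ⟨v, hv, rfl⟩ := hL
  refine ⟨g * v * g⁻¹, hv.trans (isConj_iff.2 ⟨g, rfl⟩), ?_⟩
  ext x
  constructor
  · rintro ⟨z, hz, rfl⟩
    show (g * v * g⁻¹) • g • z = g • z
    rw [conj_smul_smul, show v • z = z from hz]
  · intro hx
    refine ⟨g⁻¹ • x, ?_, smul_inv_smul g x⟩
    show v • g⁻¹ • x = g⁻¹ • x
    have hx' : (g * v * g⁻¹) • x = x := hx
    rw [mul_smul, mul_smul, ← eq_inv_smul_iff] at hx'
    exact hx'

/-- At most one line through a point misses a given line. -/
theorem parallel_unique {L M M' : Set Ω} (hL : IsLine t L) (hM : IsLine t M) (hM' : IsLine t M')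
    {q : Ω} (hq : q ∈ M) (hq' : q ∈ M') (hd : Disjoint L M) (hd' : Disjoint L M') : M = M' := by
  classical
  by_contra hne
  have := Fintype.ofFinite Ω
  have hqL : q ∉ L := fun h => Set.disjoint_left.1 hd h hq
  have hlines : ∀ x : L, ∃ N : Set Ω, IsLine t N ∧ q ∈ N ∧ x.1 ∈ N := fun x =>
    P.exists_line fun e => hqL (e ▸ x.2)
  choose N hN hqN hxN using hlines
  have := Fintype.ofFinite L
  let fam : L ⊕ Bool → Set Ω :=
    Sum.elim (fun x => N x) (fun i => if i then M else M')
  have hfam : ∀ i, IsLine t (fam i) ∧ q ∈ fam i := by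
    rintro (x | i)
    · exact ⟨hN x, hqN x⟩
    · cases i <;> simp [fam, hM, hM', hq, hq']
  have hNL : ∀ x y : L, y.1 ∈ N x → y = x := by
    intro x y hy
    by_contra hxy
    have e := P.line_eq (hN x) hL (fun e => hxy (Subtype.ext e.symm)) (hxN x) hy x.2 y.2
    exact hqL (e ▸ hqN x)
  have hinj : ∀ i k, fam i = fam k → i = k := by
    rintro (x | i) (y | k) h
    · exact congrArg Sum.inl (hNL x y (by show y.1 ∈ fam (Sum.inl x); rw [h]; exact hxN y)).symm
    · have hx : x.1 ∈ fam (Sum.inr k) := h ▸ hxN x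
      cases k <;> simp [fam] at hx
      · exact absurd hx (Set.disjoint_left.1 hd' x.2)
      · exact absurd hx (Set.disjoint_left.1 hd x.2)
    · have hx : y.1 ∈ fam (Sum.inr i) := h ▸ hxN y
      cases i <;> simp [fam] at hx
      · exact absurd hx (Set.disjoint_left.1 hd' y.2)
      · exact absurd hx (Set.disjoint_left.1 hd y.2)
    · cases i <;> cases k <;> simp [fam] at h <;> first | rfl | exact absurd h hne |
        exact absurd h.symm hne
  let F : (Σ i : L ⊕ Bool, ↥(fam i \ {q})) → {z : Ω // z ≠ q} := fun s => ⟨s.2.1, s.2.2.2⟩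
  have hF : Function.Injective F := by
    rintro ⟨i, z, hz, hzq⟩ ⟨k, z', hz', hz'q⟩ h
    obtain rfl : z = z' := congrArg (fun w : {z : Ω // z ≠ q} => w.1) h
    obtain rfl := hinj i k (P.line_eq (hfam i).1 (hfam k).1 hzq hz (hfam i).2 hz' (hfam k).2)
    rfl
  have h := Nat.card_le_card_of_injective F hF
  rw [Nat.card_sigma, Finset.sum_congr rfl (g := fun _ => 3) fun i _ => ?_, Finset.sum_const,
    smul_eq_mul, Finset.card_univ, ← Nat.card_eq_fintype_card, Nat.card_sum,
    Nat.card_coe_set_eq, P.line_card hL, Nat.card_eq_fintype_card, Fintype.card_bool,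
    Nat.card_eq_fintype_card, Fintype.card_subtype_compl, Fintype.card_subtype_eq,
    ← Nat.card_eq_fintype_card, P.deg] at h
  · omega
  · rw [Nat.card_coe_set_eq, Set.ncard_diff_singleton_of_mem (hfam i).2, P.line_card (hfam i).1]

/-- Every involution outside the class is a translation. -/
theorem outside_conj {u : G} (hu : orderOf u = 2) (hun : ¬ IsConj t u) : IsConj j u := by
  classical
  obtain ⟨w, huw, hwa, -⟩ := (P.data.base P.tH).exists_swap_conj hu
  have hw2 : orderOf w = 2 := (orderOf_of_isConj huw).trans hu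
  obtain ⟨k, hka, hkb, hk, hwk⟩ := P.data.caseA_swap P.caseA ⟨mul_self_of_orderOf hw2, hwa⟩
  by_cases h1 : k = 1
  · rw [hwk, h1, mul_one] at huw
    exact huw.symm
  exfalso
  refine hun (IsConj.trans ?_ huw.symm)
  obtain ⟨⟨v, hv, hva⟩⟩ := (Nat.card_pos_iff.1 (P.data.base P.tH).swap_pos).1
  obtain ⟨k', hk'a, hk'b, hk', hvk'⟩ := P.data.caseA_swap P.caseA (P.data.swap_sub P.tH ⟨hv, hva⟩)
  have hk'1 : k' ≠ 1 := fun e => P.jt (by rw [hvk', e, mul_one] at hv; exact hv)
  obtain ⟨g, hga, hgb, hg⟩ := P.data.conj ⟨hk', hk'1, hk'a, hk'b⟩ ⟨hk, h1, hka, hkb⟩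
  refine hv.trans (isConj_iff.2 ⟨g, ?_⟩)
  rw [hvk', hwk, ← hg]
  calc g * (j * k') * g⁻¹ = (g * j) * (k' * g⁻¹) := by group
    _ = j * (g * k' * g⁻¹) := by rw [← (P.caseA.2 g hga hgb).eq]; group

theorem trans_free {u : G} (hu : IsConj j u) (x : Ω) : u • x ≠ x := by
  intro hx
  have h2 : orderOf u = 2 := (orderOf_of_isConj hu).trans (P.caseA.1.orderOf P.data.ne)
  have h := (P.data.fx_outside P.tH h2 fun h => P.jt (h.trans hu.symm)).2.2
    (by rw [P.deg]; exact ⟨8, rfl⟩)
  haveI : Nonempty {z : Ω // u • z = z} := ⟨⟨x, hx⟩⟩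
  have : 0 < fx Ω u := Nat.card_pos
  omega

theorem trans_sq {u : G} (hu : IsConj j u) : u * u = 1 :=
  mul_self_of_orderOf ((orderOf_of_isConj hu).trans (P.caseA.1.orderOf P.data.ne))

theorem trans_pair {x y : Ω} (hxy : x ≠ y) : ∃! u : G, IsConj j u ∧ u • x = y := by
  have h := card_swap_eq (conjClosed_isConj j) P.data.two P.data.ne hxy
  rw [P.data.card_swap_outside P.tH P.caseA P.three P.jt] at h
  obtain ⟨⟨u, hu⟩, huniq⟩ := Nat.card_eq_one_iff_exists.1 h
  exact ⟨u, hu, fun v hv => congrArg Subtype.val (huniq ⟨v, hv⟩)⟩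

/-- A translation fixes the line joining a point to its image. -/
theorem trans_fix {u : G} (hu : IsConj j u) {L : Set Ω} (hL : IsLine t L) {x : Ω} (hx : x ∈ L)
    (hux : u • x ∈ L) : ∀ z ∈ L, u • z ∈ L := by
  intro z hz
  have e := P.line_eq (P.line_image hL u) hL (P.trans_free hu x)
    ⟨x, hx, rfl⟩ ⟨u • x, hux, by show u • u • x = x; rw [← mul_smul, P.trans_sq hu, one_smul]⟩ hux hx
  rw [← e]
  exact ⟨z, hz, rfl⟩

/-- Two lines fixed by a translation are equal or disjoint. -/
theorem trans_lines {u : G} (hu : IsConj j u) {L M : Set Ω} (hL : IsLine t L) (hM : IsLine t M)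
    (huL : ∀ z ∈ L, u • z ∈ L) (huM : ∀ z ∈ M, u • z ∈ M) : L = M ∨ Disjoint L M := by
  refine (em (Disjoint L M)).symm.imp_left fun h => ?_
  obtain ⟨z, hzL, hzM⟩ := Set.not_disjoint_iff.1 h
  exact P.line_eq hL hM (P.trans_free hu z) (huL z hzL) hzL (huM z hzM) hzM

/-- Translations in different directions at a point commute there. -/
theorem comm_at {u w : G} (hu : IsConj j u) (hw : IsConj j w) {p : Ω} {L L' : Set Ω}
    (hL : IsLine t L) (hL' : IsLine t L') (hpL : p ∈ L) (hupL : u • p ∈ L) (hpL' : p ∈ L')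
    (hwpL : w • p ∈ L') (hne : L ≠ L') : u • w • p = w • u • p := by
  have huL := P.trans_fix hu hL hpL hupL
  have hwL' := P.trans_fix hw hL' hpL' hwpL
  have hinv : ∀ {v : G}, IsConj j v → ∀ x : Ω, v • v • x = x := fun hv x => by
    rw [← mul_smul, P.trans_sq hv, one_smul]
  -- `w L` misses `L`
  have hd : Disjoint L ((w • ·) '' L) := by
    rw [Set.disjoint_left]
    rintro z hz ⟨z', hz', rfl⟩
    refine hne ?_
    rcases P.trans_lines hw hL hL' (P.trans_fix hw hL hz' hz) hwL' with h | h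
    · exact h
    · exact absurd hpL' (Set.disjoint_left.1 h hpL)
  have hd' : Disjoint L' ((u • ·) '' L') := by
    rw [Set.disjoint_left]
    rintro z hz ⟨z', hz', rfl⟩
    refine hne ?_
    rcases P.trans_lines hu hL hL' huL (P.trans_fix hu hL' hz' hz) with h | h
    · exact h
    · exact absurd hpL' (Set.disjoint_left.1 h hpL)
  -- the line of `u` through `w p` is `w L`
  obtain ⟨M, hM, hM1, hM2⟩ := P.exists_line (P.trans_free hu (w • p)).symm
  have hMd : Disjoint L M := by
    rcases P.trans_lines hu hL hM huL (P.trans_fix hu hM hM1 hM2) with h | h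
    · exact absurd (h ▸ hM1) (Set.disjoint_left.1 hd.symm ⟨p, hpL, rfl⟩)
    · exact h
  have eM : M = (w • ·) '' L := P.parallel_unique hL hM (P.line_image hL w) hM1 ⟨p, hpL, rfl⟩ hMd hd
  obtain ⟨M', hM', hM'1, hM'2⟩ := P.exists_line (P.trans_free hw (u • p)).symm
  have hMd' : Disjoint L' M' := by
    rcases P.trans_lines hw hL' hM' hwL' (P.trans_fix hw hM' hM'1 hM'2) with h | h
    · exact absurd (h ▸ hM'1) (Set.disjoint_left.1 hd'.symm ⟨p, hpL', rfl⟩)
    · exact h
  have eM' : M' = (u • ·) '' L' :=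
    P.parallel_unique hL' hM' (P.line_image hL' u) hM'1 ⟨p, hpL', rfl⟩ hMd' hd'
  by_contra hne'
  refine Set.disjoint_left.1 hMd (show u • p ∈ L from hupL) ?_
  have e : M = M' := P.line_eq hM hM' hne' hM2 (eM ▸ ⟨u • p, hupL, rfl⟩)
    (eM' ▸ ⟨w • p, hwpL, rfl⟩) hM'2
  rw [e]
  exact hM'1

/-- Different directions at one point commute everywhere. -/
theorem comm_of_diff {u w : G} (hu : IsConj j u) (hw : IsConj j w) {p : Ω} {L L' : Set Ω}
    (hL : IsLine t L) (hL' : IsLine t L') (hpL : p ∈ L) (hupL : u • p ∈ L) (hpL' : p ∈ L')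
    (hwpL : w • p ∈ L') (hne : L ≠ L') : u * w = w * u := by
  haveI := P.data.faithful
  refine eq_of_smul_eq_smul fun q : Ω => ?_
  rw [mul_smul, mul_smul]
  obtain ⟨M, hM, hqM, huqM⟩ := P.exists_line (P.trans_free hu q).symm
  obtain ⟨M', hM', hqM', hwqM'⟩ := P.exists_line (P.trans_free hw q).symm
  refine P.comm_at hu hw hM hM' hqM huqM hqM' hwqM' fun e => hne ?_
  subst e
  have huM := P.trans_fix hu hM hqM huqM
  have hwM := P.trans_fix hw hM hqM hwqM'
  have huL := P.trans_fix hu hL hpL hupL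
  have hwL' := P.trans_fix hw hL' hpL' hwpL
  rcases P.trans_lines hu hL hM huL huM with h | h <;>
    rcases P.trans_lines hw hL' hM hwL' hwM with h' | h'
  · exact h.trans h'.symm
  · subst h; exact absurd hpL (Set.disjoint_left.1 h' hpL')
  · subst h'; exact absurd hpL' (Set.disjoint_left.1 h hpL)
  · exact P.parallel_unique hM hL hL' hpL hpL' h.symm h'.symm

theorem mul_trans {u v : G} (hu : IsConj j u) (hv : IsConj j v) (hne : u ≠ v) (hc : u * v = v * u) :
    IsConj j (u * v) := by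
  have h2 : orderOf (u * v) = 2 := by
    refine orderOf_eq_two ?_ fun e => hne ?_
    · rw [show u * v * (u * v) = u * (v * u) * v by group, ← hc, ← mul_assoc u u v, P.trans_sq hu,
        one_mul, P.trans_sq hv]
    · rw [eq_inv_of_mul_eq_one_left e, inv_eq_self (P.trans_sq hv)]
  refine P.outside_conj h2 fun h => ?_
  obtain ⟨z, hz⟩ := exists_two_fixed ((P.data.base P.tH).mem_class_iff.1 h).2
  obtain ⟨z', -, hz1, -⟩ := hz
  have e : u • z = v • z := by
    conv_rhs => rw [← one_smul G (v • z), ← P.trans_sq hu, mul_smul, ← mul_smul u v z, hz1]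
  exact hne ((P.trans_pair (P.trans_free hu z).symm).unique ⟨hu, rfl⟩ ⟨hv, e.symm⟩)

/-- All translations commute. -/
theorem trans_comm {u w : G} (hu : IsConj j u) (hw : IsConj j w) : u * w = w * u := by
  classical
  have := Fintype.ofFinite Ω
  obtain ⟨L, hL, hpL, hupL⟩ := P.exists_line (P.trans_free hu a).symm
  obtain ⟨L', hL', hpL', hwpL⟩ := P.exists_line (P.trans_free hw a).symm
  by_cases hne : L = L'
  swap
  · exact P.comm_of_diff hu hw hL hL' hpL hupL hpL' hwpL hne
  subst hne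
  obtain ⟨q, hq⟩ : ∃ q : Ω, q ∉ L := by
    by_contra! h
    have : L = Set.univ := Set.eq_univ_of_forall h
    have h4 := P.line_card hL
    rw [this, Set.ncard_univ, P.deg] at h4
    norm_num at h4
  have haq : a ≠ q := fun e => hq (e ▸ hpL)
  obtain ⟨v, ⟨hv, hva⟩, -⟩ := P.trans_pair haq
  obtain ⟨M, hM, haM, hqM⟩ := P.exists_line haq
  have hLM : L ≠ M := fun e => hq (e ▸ hqM)
  have huv := P.comm_of_diff hu hv hL hM hpL hupL haM (hva.symm ▸ hqM) hLM
  have hwv := P.comm_of_diff hw hv hL hM hpL hwpL haM (hva.symm ▸ hqM) hLM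
  have hne : u ≠ v := fun e => hq (by rw [← hva, ← e]; exact hupL)
  have huvc := P.mul_trans hu hv hne huv
  obtain ⟨K, hK, haK, hK'⟩ := P.exists_line (P.trans_free huvc a).symm
  have hLK : L ≠ K := by
    intro e
    apply hq
    have h1 := P.trans_fix hu hL hpL hupL _ (show (u * v) • a ∈ L from e ▸ hK')
    rwa [← mul_smul, ← mul_assoc, P.trans_sq hu, one_mul, hva] at h1
  have hw_uv := P.comm_of_diff hw huvc hL hK hpL hwpL haK hK' hLK
  calc u * w = (u * v) * (v * w) := by rw [mul_assoc u v, ← mul_assoc v v w, P.trans_sq hv, one_mul]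
    _ = (u * v) * w * v := by rw [← hwv, ← mul_assoc]
    _ = w * (u * v) * v := by rw [hw_uv]
    _ = w * u := by rw [mul_assoc, mul_assoc, P.trans_sq hv, mul_one]

/-- The translation group. -/
def translations : Subgroup G where
  carrier := {g | g = 1 ∨ IsConj j g}
  one_mem' := Or.inl rfl
  mul_mem' := by
    rintro x y (rfl | hx) (rfl | hy)
    · exact Or.inl (one_mul 1)
    · exact Or.inr (by rwa [one_mul])
    · exact Or.inr (by rwa [mul_one])
    · by_cases h : x = y
      · subst h; exact Or.inl (P.trans_sq hx)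
      · exact Or.inr (P.mul_trans hx hy h (P.trans_comm hx hy))
  inv_mem' := by
    rintro x (rfl | hx)
    · exact Or.inl inv_one
    · exact Or.inr (by rwa [inv_eq_self (P.trans_sq hx)])

theorem exists_regular : ∃ N : Subgroup G, N.Normal ∧ (∀ x ∈ N, x * x = 1) ∧
    (∀ x ∈ N, ∀ y ∈ N, x * y = y * x) ∧ (∀ x ∈ N, ∀ p : Ω, x • p = p → x = 1) ∧
    (∀ p q : Ω, ∃ x ∈ N, x • p = q) := by
  refine ⟨P.translations, ⟨?_⟩, ?_, ?_, ?_, ?_⟩
  · rintro n (rfl | hn) g
    · exact Or.inl (by group)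
    · exact Or.inr (hn.trans (isConj_iff.2 ⟨g, rfl⟩))
  · rintro x (rfl | hx)
    · exact one_mul 1
    · exact P.trans_sq hx
  · rintro x (rfl | hx) y (rfl | hy)
    · rfl
    · rw [one_mul, mul_one]
    · rw [one_mul, mul_one]
    · exact P.trans_comm hx hy
  · rintro x (rfl | hx) p hp
    · rfl
    · exact absurd hp (P.trans_free hx p)
  · intro p q
    by_cases h : p = q
    · exact ⟨1, Or.inl rfl, h ▸ one_smul G p⟩
    · obtain ⟨u, ⟨hu, hup⟩, -⟩ := P.trans_pair h
      exact ⟨u, Or.inr hu, hup⟩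

end Plane

end Cfsg.Agent.Lib.TwoTransA4
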