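import Cfsg.Agent.Lib.TwoTransA4.EvenRatio
import Cfsg.Agent.Lib.TwoTransA4.Plane
import Cfsg.Agent.Lib.JankoThompson.CentralizerFive

/-!
# The collinear case with `f = 4`, `n = 16`: a central element of order three in the point stabiliser
-/

set_option autoImplicit false
set_option linter.unusedSectionVars false

namespace Cfsg.Agent.Lib.TwoTransA4

open MulAction
open Cfsg.Agent.Lib.ConstFix25 (fx two_apply mul_self_of_orderOf ne_one_of_orderOf)
open Cfsg.Agent.Lib.JankoThompson.Centralizer (FusedCore Fused)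

variable {G Ω : Type*} [Group G] [MulAction G Ω]

namespace Plane

variable [Finite G] [Finite Ω] {a b : Ω} {t j : G} (P : Plane a b t j)
include P

theorem cent_eq {v : G} (hv : InvH a b v) :
    P.data.centFour = Subgroup.centralizer ({v} : Set G) ⊓ stabilizer G a :=
  P.data.centFour_lin hv P.lin (by rw [P.data.fx_invH P.tH hv, P.four]; exact ⟨2, rfl⟩)

/-- A fixed point free central element of order three of the point stabiliser. -/
theorem exists_scalar : ∃ d : G, d • a = a ∧ d ≠ 1 ∧ d * d * d = 1 ∧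
    (∀ k : G, k • a = a → k * d = d * k) ∧ ∀ x : Ω, d • x = x → x = a := by
  classical
  haveI : Fact (Nat.Prime 2) := ⟨Nat.prime_two⟩
  haveI : Fact (Nat.Prime 3) := ⟨Nat.prime_three⟩
  have D := P.data
  set Cv := D.centFour with hCv
  have hC12 : Nat.card Cv = 12 := by
    rw [hCv, P.cent_eq P.tH, D.card_cent_stab P.tH, P.four]
  obtain ⟨d', hd'⟩ := exists_prime_orderOf_dvd_card' (G := Cv) 3 (by rw [hC12]; norm_num)
  rw [← Subgroup.orderOf_coe] at hd'
  set d := (d' : G)
  have hdC : d ∈ Cv := d'.2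
  let K := stabilizer G a
  have hle : D.fourSub ≤ K := fun g hg => hg.1
  set V := D.fourSub.subgroupOf K with hV
  have hV4 : Nat.card V = 4 := by
    rw [Nat.card_congr (Subgroup.subgroupOfEquivOfLe hle).toEquiv, D.card_fourSub]
  have hK : Nat.card K = 180 := by rw [D.card_stab, P.deg]
  let S : Sylow 2 K := Sylow.ofCard V (by
    rw [hV4, hK, show (180 : ℕ) = 2 ^ 2 * 45 by norm_num,
      Nat.factorization_mul (by norm_num) (by norm_num), Finsupp.add_apply,
      Nat.factorization_eq_zero_of_not_dvd (n := 45) (by norm_num), add_zero,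
      Nat.prime_two.factorization_pow, Finsupp.single_eq_same]; norm_num)
  have hS : (S : Subgroup K) = V := Sylow.coe_ofCard _ _
  set dK : K := ⟨d, hdC.2⟩ with hdK
  set Y := Subgroup.zpowers dK with hY
  have hdK3 : orderOf dK = 3 := by rw [← Subgroup.orderOf_coe]; exact hd'
  have hY3 : Nat.card Y = 3 := by rw [hY, Nat.card_zpowers, hdK3]
  have hVy : ∀ v ∈ D.fourSub, Commute v d := fun v hv => hdC.1 v hv
  obtain ⟨r, hra, hrb, hr⟩ := D.exists_three
  have hr3 : r * r * r = 1 := by
    obtain ⟨e⟩ := D.alt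
    have h : ∀ y : AFour.A4, y * y ≠ 1 → y * y * y = 1 := by decide +kernel
    have h1 := h (e ⟨r, D.mem hra hrb⟩) (fun he => hr (congrArg Subtype.val
      (e.injective ((map_mul e _ _).trans (he.trans (map_one e).symm)))))
    rw [← map_mul, ← map_mul, ← map_one e] at h1
    exact congrArg Subtype.val (e.injective h1)
  have hrV : ∀ v ∈ D.fourSub, r * v * r⁻¹ ∈ D.fourSub := by
    intro v hv
    have hia : r⁻¹ • a = a := by rw [inv_smul_eq_iff, hra]
    have hib : r⁻¹ • b = b := by rw [inv_smul_eq_iff, hrb]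
    refine ⟨by rw [mul_smul, mul_smul, hia, hv.1, hra], by rw [mul_smul, mul_smul, hib, hv.2.1, hrb],
      ?_⟩
    rw [show r * v * r⁻¹ * (r * v * r⁻¹) = r * (v * v) * r⁻¹ by group, hv.2.2]
    group
  have h2 : ∀ v : K, v ∈ (S : Subgroup K) → (v : G) ∈ D.fourSub := fun v hv => by
    rw [hS] at hv; exact hv
  have hklein : IsKleinFour (S : Subgroup K) :=
    isKleinFour_of (by rw [hS, hV4]) fun v => Subtype.ext (Subtype.ext (h2 v v.2).2.2)
  have hodd : Odd (Nat.card Y) := by rw [hY3]; exact ⟨1, rfl⟩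
  have hcomm : ∀ v ∈ (S : Subgroup K), ∀ z ∈ Y, Commute v z := by
    intro v hv z hz
    obtain ⟨i, rfl⟩ := Subgroup.mem_zpowers_iff.1 hz
    exact (show Commute v dK from Subtype.ext (hVy v (h2 v hv)).eq).zpow_right i
  have hdisj : Nat.card ↥((S : Subgroup K) ⊓ Y) = 1 := by
    refine Nat.dvd_one.1 ?_
    have h4 := Subgroup.card_dvd_of_le (inf_le_left : (S : Subgroup K) ⊓ Y ≤ S)
    have h3 := Subgroup.card_dvd_of_le (inf_le_right : (S : Subgroup K) ⊓ Y ≤ Y)
    rw [hS, hV4] at h4
    rw [hY3] at h3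
    rw [hS] at h3 ⊢
    simpa using Nat.dvd_gcd h4 h3
  have hcen : ∀ v ∈ (S : Subgroup K), v ≠ 1 →
      Subgroup.centralizer ({v} : Set K) = (S : Subgroup K) ⊔ Y := by
    intro v hv hv1
    have hvI : InvH a b (v : G) := ⟨(h2 v hv).2.2, fun e => hv1 (Subtype.ext e), (h2 v hv).1,
      (h2 v hv).2.1⟩
    have hcard : Nat.card ↥(Subgroup.centralizer ({v} : Set K)) = 12 := by
      rw [card_centralizer_subgroup, Set.image_singleton, ← P.cent_eq hvI, ← hCv, hC12]
    have hsub : (S : Subgroup K) ⊔ Y ≤ Subgroup.centralizer ({v} : Set K) := by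
      refine sup_le (fun w hw => Subgroup.mem_centralizer_singleton_iff.2 (Subtype.ext ?_))
        (Subgroup.zpowers_le.2 (Subgroup.mem_centralizer_singleton_iff.2 (Subtype.ext ?_)))
      · exact (D.comm (h2 v hv).1 (h2 v hv).2.1 (h2 w hw).1 (h2 w hw).2.1 (h2 v hv).2.2
          (h2 w hw).2.2).symm
      · exact (hVy v (h2 v hv)).eq.symm
    refine (Subgroup.eq_of_le_of_card_ge hsub ?_).symm
    rw [hcard]
    refine Nat.le_of_dvd Nat.card_pos ?_
    rw [show 12 = 4 * 3 by norm_num]
    exact Nat.Coprime.mul_dvd_of_dvd_of_dvd (by norm_num)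
      (hV4 ▸ hS ▸ Subgroup.card_dvd_of_le le_sup_left) (hY3 ▸ Subgroup.card_dvd_of_le le_sup_right)
  set rK : K := ⟨r, hra⟩
  have hrK : orderOf rK = 3 := by
    refine orderOf_eq_prime (Subtype.ext ?_) fun e => hr ?_
    · show r ^ 3 = 1
      rw [pow_succ, pow_two, hr3]
    · rw [show r = 1 from congrArg Subtype.val e, one_mul]
  have hfused : Fused S Y rK :=
    { four := hklein
      cen := hcen
      comm := hcomm
      odd := hodd
      r3 := hrK
      rP := fun v hv => by rw [hS]; exact hrV v (h2 v hv)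
      rfix := fun v hv e => by
        by_contra hv1
        refine hr (D.sq_one_of_commute ⟨(h2 v hv).2.2, fun e => hv1 (Subtype.ext e), (h2 v hv).1,
          (h2 v hv).2.1⟩ hra hrb ?_)
        exact mul_inv_eq_iff_eq_mul.1 (congrArg Subtype.val e)
      ab := fun z hz z' hz' => by
        obtain ⟨i, rfl⟩ := Subgroup.mem_zpowers_iff.1 hz
        obtain ⟨k, rfl⟩ := Subgroup.mem_zpowers_iff.1 hz'
        exact Commute.zpow_zpow (Commute.refl dK) i k }
  obtain ⟨hcentral, -⟩ := hfused.five (by rw [hK, hY3])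
  have hdne : d ≠ 1 := fun e => by rw [e, orderOf_one] at hd'; norm_num at hd'
  have hd3 : d * d * d = 1 := by
    rw [← pow_two, ← pow_succ, show (2 + 1 : ℕ) = orderOf d from hd'.symm, pow_orderOf_eq_one]
  have hcd : ∀ k : G, k • a = a → k * d = d * k := fun k hk =>
    congrArg Subtype.val (hcentral ⟨k, hk⟩ dK (Subgroup.mem_zpowers dK)).eq
  refine ⟨d, hdC.2, hdne, hd3, hcd, fun x hx => by_contra fun hxa => ?_⟩
  obtain ⟨g, hga, hgb⟩ := two_apply D.two (Ne.symm hxa) D.ne
  have hdb : d • b = b := by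
    rw [← hgb, ← mul_smul, ← hcd g hga, mul_smul, hx]
  have hdd := D.sq_one_of_commute P.tH hdC.2 hdb (hVy t ⟨P.tH.2.2.1, P.tH.2.2.2, P.tH.1⟩).symm
  rw [hdd, one_mul] at hd3
  exact hdne hd3

end Plane

end Cfsg.Agent.Lib.TwoTransA4
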