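import Cfsg.Agent.Lib.TwoTransA4.InvImage

/-!
# Six swapping class members, collinear: the centraliser of the four group has index two
-/

set_option autoImplicit false
set_option linter.unusedSectionVars false

namespace Cfsg.Agent.Lib.TwoTransA4

open MulAction
open Cfsg.Agent.Lib.ConstFix25 (fx mul_self_of_orderOf ne_one_of_orderOf)

variable {G Ω : Type*} [Group G] [MulAction G Ω]

namespace Data

variable {a b : Ω} (D : Data G Ω a b)
include D

/-- The centraliser of `t` moves `s` within the four group. -/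
theorem lin_move {t s g : G} (ht : InvH a b t) (hs : InvH a b s) (hst : s ≠ t) (hL : Lin G a b)
    (hg : Commute g t) : g * s * g⁻¹ = s ∨ g * s * g⁻¹ = s * t := by
  have hfix : ∀ x : Ω, t • x = x → (g * s * g⁻¹) • x = x := fun x hx => by
    have hy : t • g⁻¹ • x = g⁻¹ • x := by rw [← mul_smul, ← hg.inv_left.eq, mul_smul, hx]
    rw [mul_smul, mul_smul, hL t s ht hs _ hy, smul_inv_smul]
  have hsq : g * s * g⁻¹ * (g * s * g⁻¹) = 1 := by
    rw [show g * s * g⁻¹ * (g * s * g⁻¹) = g * (s * s) * g⁻¹ by group, hs.1]; group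
  rcases D.four hs ht hst (hfix a ht.2.2.1) (hfix b ht.2.2.2) hsq with h | h | h | h
  · exact absurd (conj_eq_one_iff.1 h) hs.2.1
  · exact Or.inl h
  · refine absurd ?_ hst
    calc s = g⁻¹ * (g * s * g⁻¹) * g := by group
      _ = t := by rw [h, mul_assoc, ← hg.eq, inv_mul_cancel_left]
  · exact Or.inr h

/-- All involutions of the induced group are conjugate. -/
theorem bar_conj_lin [Finite G] [Finite Ω] {t : G} (ht : InvH a b t) (hL : Lin G a b)
    (hodd : Odd (fx Ω t)) {x y : ↥(X Ω t)} (hx : orderOf x = 2) (hy : orderOf y = 2) :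
    IsConj x y := by
  haveI : Nontrivial (W Ω t) := ⟨⟨pa ht, pb ht, D.pa_ne_pb ht⟩⟩
  haveI := pretransitive (D.two_X ht)
  have h1 : ∀ u : ↥(X Ω t), orderOf u = 2 → ∃ p : W Ω t, u • p = p := fun u hu => by
    have h : Nat.card {q : W Ω t // u • q = q} = 1 := D.bar_fx_lin ht hL hodd u hu
    obtain ⟨⟨p, hp⟩, -⟩ := Nat.card_eq_one_iff_exists.1 h
    exact ⟨p, hp⟩
  obtain ⟨p, hp⟩ := h1 x hx
  obtain ⟨q, hq⟩ := h1 y hy
  obtain ⟨c, hc⟩ := exists_smul_eq ↥(X Ω t) p q
  refine isConj_iff.2 ⟨c, D.bar_unique_lin ht hL hodd ?_ hy (p := q) ?_ hq⟩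
  · rw [Cfsg.Agent.Lib.ConstFix25.orderOf_conj, hx]
  · rw [← hc, conj_smul_smul, hp]

/-- The pointwise stabiliser of the fixed points is the four group. -/
theorem bar_eq_comm {t s g h : G} (ht : InvH a b t) (hs : InvH a b s) (hst : s ≠ t)
    (hg : Commute g t) (hh : Commute h t) (e : (bar hg : ↥(X Ω t)) = bar hh) (hhs : Commute h s) :
    Commute g s := by
  rw [bar_eq_iff] at e
  have hfix : ∀ x : Ω, t • x = x → (h⁻¹ * g) • x = x := fun x hx => by
    rw [mul_smul, e x hx, inv_smul_smul]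
  have hts : Commute t s := D.commute_invH ht hs
  have h1 : Commute (h⁻¹ * g) s := by
    rcases D.fix_cases ht hs hst (hh.inv_left.mul_left hg) (hfix a ht.2.2.1) (hfix b ht.2.2.2) with
      e | e | e | e <;> rw [e]
    · exact Commute.one_left s
    · exact hts
    · exact (Commute.refl s).mul_left hts
  have h2 := hhs.mul_left h1
  rwa [mul_inv_cancel_left] at h2

/-- Half the order of the induced group is odd. -/
theorem lin_half_odd [Finite G] [Finite Ω] {t s w : G} (ht : InvH a b t) (hs : InvH a b s)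
    (hst : s ≠ t) (hL : Lin G a b) (hodd : Odd (fx Ω t)) (hw : Sw a b w) (hwt : Commute w t)
    (hws : w * s * w⁻¹ = s * t) :
    ∃ m : ℕ, Odd m ∧ fx Ω t * (fx Ω t - 1) = 2 * m := by
  classical
  haveI : Fact (Nat.Prime 2) := ⟨Nat.prime_two⟩
  have hts : Commute t s := D.commute_invH ht hs
  have hwns : ¬ Commute w s := fun h => ht.2.1 (by
    rw [h.eq, mul_inv_cancel_right] at hws
    exact mul_eq_left.1 hws.symm)
  let K : Subgroup ↥(X Ω t) :=
    { carrier := {x | ∃ (g : G) (hg : Commute g t), Commute g s ∧ bar hg = x}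
      one_mem' := ⟨1, Commute.one_left t, Commute.one_left s, bar_one⟩
      mul_mem' := by
        rintro _ _ ⟨g, hg, hgs, rfl⟩ ⟨h, hh, hhs, rfl⟩
        exact ⟨g * h, hg.mul_left hh, hgs.mul_left hhs, bar_mul hg hh⟩
      inv_mem' := by
        rintro _ ⟨g, hg, hgs, rfl⟩
        exact ⟨g⁻¹, hg.inv_left, hgs.inv_left, bar_inv hg⟩ }
  have hmem : ∀ (g : G) (hg : Commute g t), (bar hg : ↥(X Ω t)) ∈ K ↔ Commute g s := by
    intro g hg
    refine ⟨?_, fun h => ⟨g, hg, h, rfl⟩⟩
    rintro ⟨h, hh, hhs, e⟩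
    exact D.bar_eq_comm ht hs hst hg hh e.symm hhs
  have hidx : K.index = 2 := by
    refine Subgroup.index_eq_two_iff.2 ⟨bar hwt, fun x => ?_⟩
    obtain ⟨g, hg, rfl⟩ := exists_bar x
    rw [← bar_mul hg hwt, hmem, hmem]
    by_cases hgs : Commute g s
    · refine Or.inr ⟨hgs, fun h => hwns ?_⟩
      have h2 := hgs.inv_left.mul_left h
      rwa [inv_mul_cancel_left] at h2
    · refine Or.inl ⟨?_, hgs⟩
      rcases D.lin_move ht hs hst hL hg with h | h
      · exact absurd (mul_inv_eq_iff_eq_mul.1 h) hgs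
      · refine mul_inv_eq_iff_eq_mul.1 ?_
        calc g * w * s * (g * w)⁻¹ = g * (w * s * w⁻¹) * g⁻¹ := by group
          _ = (g * s * g⁻¹) * (g * t * g⁻¹) := by rw [hws]; group
          _ = s := by rw [h, hg.eq, mul_inv_cancel_right, mul_assoc, ht.1, mul_one]
  have hKn : K.Normal := Subgroup.normal_of_index_eq_two hidx
  have hwo : orderOf (bar hwt : ↥(X Ω t)) = 2 := by
    refine orderOf_eq_two ?_ fun e => D.ne ?_
    · rw [← bar_mul]; exact (bar_eq_one_iff _).2 fun y _ => by rw [hw.1, one_smul]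
    · rw [← (bar_eq_one_iff hwt).1 e a ht.2.2.1, hw.2]
  refine ⟨Nat.card K, Nat.not_even_iff_odd.1 fun hev => hwns ?_, ?_⟩
  · obtain ⟨z, hz⟩ := exists_prime_orderOf_dvd_card' (G := ↥K) 2 hev.two_dvd
    rw [← Subgroup.orderOf_coe] at hz
    obtain ⟨c, hc⟩ := isConj_iff.1 (D.bar_conj_lin ht hL hodd hz hwo)
    exact (hmem w hwt).1 (hc ▸ hKn.conj_mem _ z.2 c)
  · rw [← D.card_X_lin ht hL, ← K.card_mul_index, hidx, mul_comm]

end Data

end Cfsg.Agent.Lib.TwoTransA4
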