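import Cfsg.Agent.Lib.TwoTransA4.SixTranslations

/-!
# Six swapping class members, twisted: the lift of the translations
-/

set_option autoImplicit false
set_option linter.unusedSectionVars false

namespace Cfsg.Agent.Lib.TwoTransA4

open MulAction
open Cfsg.Agent.Lib.ConstFix25 (fx mul_self_of_orderOf ne_one_of_orderOf)

variable {G Ω : Type*} [Group G] [MulAction G Ω]

theorem bar_pow {t g : G} (hg : Commute g t) :
    ∀ k : ℕ, (bar (hg.pow_left k) : ↥(X Ω t)) = (bar hg) ^ k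
  | 0 => by
    rw [bar_congr _ (Commute.one_left t) (pow_zero g), bar_one, pow_zero]
  | k + 1 => by
    rw [pow_succ (bar hg : ↥(X Ω t)), ← bar_pow hg k, ← bar_mul]
    exact bar_congr _ _ (pow_succ g k)

namespace Data

variable {a b : Ω} (D : Data G Ω a b) {t : G} {p : ℕ} {M : Subgroup ↥(X Ω t)}
include D

theorem bar_kernel [Finite Ω] (ht : InvH a b t) (hL : ¬ Lin G a b) {g : G} (hg : Commute g t)
    (e : (bar hg : ↥(X Ω t)) = 1) : g = 1 ∨ g = t := by
  obtain ⟨s, hs, hst⟩ := D.exists_invol_ne ht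
  rw [bar_eq_one_iff] at e
  rcases D.fix_cases ht hs hst hg (e a ht.2.2.1) (e b ht.2.2.2) with h | h | h | h
  · exact Or.inl h
  · exact Or.inr h
  · exact absurd (D.lin_of_subset ht hs hst fun x hx => by rw [← h]; exact e x hx) hL
  · refine absurd (D.lin_of_subset ht hs hst fun x hx => ?_) hL
    have h1 := e x hx
    rw [h, mul_smul, hx] at h1
    exact h1

theorem pow_eq_one_of_bar_mem [Finite Ω] (ht : InvH a b t) (hL : ¬ Lin G a b) (T : Trans Ω t p M)
    {g : G} (hg : Commute g t) (hm : (bar hg : ↥(X Ω t)) ∈ M) (ho : Odd (orderOf g)) :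
    g ^ p = 1 := by
  rcases D.bar_kernel ht hL (hg.pow_left p) (by rw [bar_pow hg]; exact T.exp _ hm) with h | h
  · exact h
  · exfalso
    have h2 : Odd (orderOf (g ^ p)) := ho.of_dvd_nat (orderOf_pow_dvd p)
    rw [h, ht.orderOf] at h2
    exact absurd h2 (by decide)

theorem mul_p_ne_one (ht : InvH a b t) (T : Trans Ω t p M) {g : G} (hg : Commute g t)
    (hgp : g ^ p = 1) : (g * t) ^ p ≠ 1 := by
  intro h
  obtain ⟨k, hk⟩ := T.odd
  rw [hg.mul_pow, hgp, one_mul, hk, pow_succ, pow_mul, pow_two, ht.1, one_pow, one_mul] at h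
  exact ht.2.1 h

theorem card_M [Finite G] [Finite Ω] (ht : InvH a b t) (T : Trans Ω t p M) : Nat.card M = fx Ω t := by
  refine Nat.card_eq_of_bijective (fun x : ↥M => x.1 • pa ht) ⟨fun x y h => ?_, fun q => ?_⟩
  · exact Subtype.ext ((T.regular (pa ht) (x.1 • pa ht)).unique ⟨x.2, rfl⟩ ⟨y.2, h.symm⟩)
  · obtain ⟨x, ⟨hx, hxq⟩, -⟩ := T.regular (pa ht) q
    exact ⟨⟨x, hx⟩, hxq⟩

/-- Elements of order dividing `p` induce translations. -/
theorem bar_mem [Finite G] [Finite Ω] (ht : InvH a b t) (hL : ¬ Lin G a b) (T : Trans Ω t p M)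
    {g : G} (hg : Commute g t) (hgp : g ^ p = 1) : (bar hg : ↥(X Ω t)) ∈ M := by
  haveI := T.normal
  set q : ↥(X Ω t) ⧸ M := QuotientGroup.mk (bar hg)
  have h1 : q ^ p = 1 := by
    rw [← QuotientGroup.mk_pow, ← bar_pow hg p, bar_congr _ (Commute.one_left t) hgp, bar_one]
    rfl
  have h2 : q ^ Nat.card (↥(X Ω t) ⧸ M) = 1 := pow_card_eq_one'
  have hpos : 0 < fx Ω t := by have := (D.base ht).two_le_fix; omega
  have hc : Nat.card (↥(X Ω t) ⧸ M) = 2 * (fx Ω t - 1) := by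
    have h := Subgroup.card_eq_card_quotient_mul_card_subgroup M
    rw [D.card_X ht hL, D.card_M ht T] at h
    refine Nat.eq_of_mul_eq_mul_right hpos ?_
    rw [← h]; ring
  have hcop : Nat.Coprime p (2 * (fx Ω t - 1)) := by
    obtain ⟨m, hm, hfm⟩ := T.deg
    refine Nat.Coprime.mul_right (Nat.coprime_two_right.2 T.odd) ?_
    refine (Nat.Prime.coprime_iff_not_dvd T.prime).2 fun hd => ?_
    have hd' : p ∣ fx Ω t := hfm ▸ dvd_pow_self p hm.ne'
    have := Nat.dvd_sub hd' hd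
    rw [show fx Ω t - (fx Ω t - 1) = 1 by omega] at this
    exact T.prime.ne_one (Nat.dvd_one.1 this)
  have h3 := pow_gcd_eq_one.2 ⟨h1, h2⟩
  rw [hc, hcop, pow_one] at h3
  exact (QuotientGroup.eq_one_iff _).1 h3

theorem lift_comm [Finite G] [Finite Ω] (ht : InvH a b t) (hL : ¬ Lin G a b) (T : Trans Ω t p M)
    {g h : G} (hg : Commute g t) (hgp : g ^ p = 1) (hh : Commute h t) (hhp : h ^ p = 1) :
    Commute g h := by
  have hgm := D.bar_mem ht hL T hg hgp
  have hhm := D.bar_mem ht hL T hh hhp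
  have hc : Commute (g * h * g⁻¹ * h⁻¹) t :=
    ((hg.mul_left hh).mul_left hg.inv_left).mul_left hh.inv_left
  have e : (bar hc : ↥(X Ω t)) = 1 := by
    rw [bar_mul ((hg.mul_left hh).mul_left hg.inv_left) hh.inv_left,
      bar_mul (hg.mul_left hh) hg.inv_left, bar_mul hg hh, bar_inv hg, bar_inv hh,
      (T.comm _ hgm _ hhm).eq, mul_inv_cancel_right, mul_inv_cancel]
  rcases D.bar_kernel ht hL hc e with h1 | h1
  · exact commutatorElement_eq_one_iff_mul_comm.1 h1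
  · exfalso
    refine D.mul_p_ne_one ht T hh hhp ?_
    have e2 : h * t = g * h * g⁻¹ := by
      rw [hh.eq, ← h1]; group
    rw [e2, conj_pow, hhp, mul_one, mul_inv_cancel]

/-- The lift of the translations. -/
def lift [Finite G] [Finite Ω] (ht : InvH a b t) (hL : ¬ Lin G a b) (T : Trans Ω t p M) :
    Subgroup G where
  carrier := {g | Commute g t ∧ g ^ p = 1}
  one_mem' := ⟨Commute.one_left t, one_pow p⟩
  mul_mem' := fun {g h} hg hh => ⟨hg.1.mul_left hh.1, by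
    rw [(D.lift_comm ht hL T hg.1 hg.2 hh.1 hh.2).mul_pow, hg.2, hh.2, mul_one]⟩
  inv_mem' := fun {g} hg => ⟨hg.1.inv_left, by rw [inv_pow, hg.2, inv_one]⟩

theorem mem_lift [Finite G] [Finite Ω] (ht : InvH a b t) (hL : ¬ Lin G a b) (T : Trans Ω t p M)
    {g : G} : g ∈ D.lift ht hL T ↔ Commute g t ∧ g ^ p = 1 := Iff.rfl

theorem exists_lift [Finite G] [Finite Ω] (ht : InvH a b t) (hL : ¬ Lin G a b) (T : Trans Ω t p M)
    {x : ↥(X Ω t)} (hx : x ∈ M) :
    ∃ (g : G) (hg : Commute g t), g ^ p = 1 ∧ bar hg = x := by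
  obtain ⟨g, hg, rfl⟩ := exists_bar x
  rcases D.bar_kernel ht hL (hg.pow_left p) (by rw [bar_pow hg]; exact T.exp _ hx) with h | h
  · exact ⟨g, hg, h, rfl⟩
  · refine ⟨g * t, hg.mul_left (Commute.refl t), ?_, ?_⟩
    · obtain ⟨k, hk⟩ := T.odd
      rw [hg.mul_pow, h, hk, pow_succ, pow_mul, pow_two, ht.1, one_pow, one_mul, ht.1]
    · rw [bar_eq_iff]
      intro y hy
      rw [mul_smul, hy]

theorem lift_inj [Finite G] [Finite Ω] (ht : InvH a b t) (hL : ¬ Lin G a b) (T : Trans Ω t p M)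
    {g h : G} (hg : Commute g t) (hgp : g ^ p = 1) (hh : Commute h t) (hhp : h ^ p = 1)
    (e : (bar hg : ↥(X Ω t)) = bar hh) : g = h := by
  rcases D.bar_kernel ht hL (hg.inv_left.mul_left hh)
    (by rw [bar_mul hg.inv_left hh, bar_inv hg, e, inv_mul_cancel]) with h1 | h1
  · exact inv_mul_eq_one.1 h1
  · refine absurd ?_ (D.mul_p_ne_one ht T hg hgp)
    rw [show g * t = h by rw [← h1, mul_inv_cancel_left], hhp]

theorem card_lift [Finite G] [Finite Ω] (ht : InvH a b t) (hL : ¬ Lin G a b) (T : Trans Ω t p M) :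
    Nat.card (D.lift ht hL T) = fx Ω t := by
  rw [← D.card_M ht T]
  refine Nat.card_eq_of_bijective
    (fun g : ↥(D.lift ht hL T) => (⟨bar g.2.1, D.bar_mem ht hL T g.2.1 g.2.2⟩ : ↥M))
    ⟨fun g h e => Subtype.ext (D.lift_inj ht hL T g.2.1 g.2.2 h.2.1 h.2.2 (congrArg Subtype.val e)),
      fun x => ?_⟩
  obtain ⟨g, hg, hgp, hgx⟩ := D.exists_lift ht hL T x.2
  exact ⟨⟨g, hg, hgp⟩, Subtype.ext hgx⟩

/-- Odd order elements centralising a nontrivial translation are translations. -/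
theorem odd_cent [Finite G] [Finite Ω] (ht : InvH a b t) (hL : ¬ Lin G a b) (T : Trans Ω t p M)
    {r x : G} (hr : Commute r t) (ho : Odd (orderOf r)) (hx : x ∈ D.lift ht hL T) (hx1 : x ≠ 1)
    (hrx : Commute r x) : r ∈ D.lift ht hL T := by
  refine ⟨hr, D.pow_eq_one_of_bar_mem ht hL T hr ?_ ho⟩
  haveI := T.normal
  set rb : ↥(X Ω t) := bar hr
  set xb : ↥(X Ω t) := bar hx.1
  have hxm : xb ∈ M := D.bar_mem ht hL T hx.1 hx.2
  have hc : Commute rb xb := by
    show rb * xb = xb * rb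
    rw [← bar_mul hr hx.1, ← bar_mul hx.1 hr]
    exact bar_congr _ _ hrx.eq
  obtain ⟨m, ⟨hm, hmq⟩, -⟩ := T.regular (pa ht) (rb • pa ht)
  set k := m⁻¹ * rb with hk
  have hka : k • pa ht = pa ht := by rw [hk, mul_smul, inv_smul_eq_iff, hmq]
  have hkc : Commute k xb := (T.comm _ (inv_mem hm) _ hxm).mul_left hc
  have hkb : k • xb • pa ht = xb • pa ht := by rw [← mul_smul, hkc.eq, mul_smul, hka]
  have hne : pa ht ≠ xb • pa ht := by
    intro e
    have h1 : xb = 1 :=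
      (T.regular (pa ht) (pa ht)).unique ⟨hxm, e.symm⟩ ⟨one_mem _, one_smul _ _⟩
    exact hx1 (D.lift_inj ht hL T hx.1 hx.2 (Commute.one_left t) (one_pow p)
      (h1.trans bar_one.symm))
  obtain ⟨c, hca, hcb⟩ := Cfsg.Agent.Lib.ConstFix25.two_apply (D.two_X ht) (D.pa_ne_pb ht) hne
  obtain ⟨s, hs, hst⟩ := D.exists_invol_ne ht
  have hk2 : k * k = 1 := by
    have h1 : ∀ z : W Ω t, ∀ y : W Ω t, c • z = y → k • y = y → (c⁻¹ * k * c) • z = z := by
      intro z y hz hy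
      rw [mul_smul, mul_smul, hz, hy, ← hz, inv_smul_smul]
    have e : c⁻¹ * k * c * (c⁻¹ * k * c) = 1 := by
      rcases D.fix_X_cases ht hs hst (h1 _ _ hca hka) (h1 _ _ hcb hkb) with h | h <;> rw [h]
      · exact one_mul 1
      · rw [← bar_mul]; exact (bar_eq_one_iff _).2 fun y _ => by rw [hs.1, one_smul]
    calc k * k = c * (c⁻¹ * k * c * (c⁻¹ * k * c)) * c⁻¹ := by group
      _ = 1 := by rw [e]; group
  set q : ↥(X Ω t) ⧸ M := QuotientGroup.mk rb
  have hq : q = QuotientGroup.mk k := by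
    refine (QuotientGroup.eq).2 ?_
    rw [hk, show rb⁻¹ * (m⁻¹ * rb) = rb⁻¹ * m⁻¹ * rb⁻¹⁻¹ by group]
    exact T.normal.conj_mem _ (inv_mem hm) _
  have hq2 : q ^ 2 = 1 := by
    rw [hq, ← QuotientGroup.mk_pow, pow_two, hk2]; rfl
  have hq1 : q ^ orderOf r = 1 := by
    rw [← QuotientGroup.mk_pow, ← bar_pow hr, bar_congr _ (Commute.one_left t) (pow_orderOf_eq_one r),
      bar_one]
    rfl
  have h3 := pow_gcd_eq_one.2 ⟨hq2, hq1⟩
  rw [(Nat.coprime_two_left.2 ho : Nat.gcd 2 (orderOf r) = 1), pow_one] at h3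
  exact (QuotientGroup.eq_one_iff _).1 h3

/-- The lift is self centralising modulo `t`. -/
theorem cent_lift [Finite G] [Finite Ω] (ht : InvH a b t) (hL : ¬ Lin G a b) (T : Trans Ω t p M)
    {g : G} (hg : Commute g t) (hc : ∀ x ∈ D.lift ht hL T, Commute g x) :
    ∃ x ∈ D.lift ht hL T, g = x ∨ g = x * t := by
  obtain ⟨m, ⟨hm, hmq⟩, -⟩ := T.regular (pa ht) ((bar hg : ↥(X Ω t)) • pa ht)
  have e : (bar hg : ↥(X Ω t)) = m := by
    refine eq_of_smul_eq_smul fun q : W Ω t => ?_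
    obtain ⟨x, ⟨hx, hxq⟩, -⟩ := T.regular (pa ht) q
    obtain ⟨y, hy, hyp, hyx⟩ := D.exists_lift ht hL T hx
    have h1 : (bar hg : ↥(X Ω t)) * x = x * bar hg := by
      rw [← hyx, ← bar_mul hg hy, ← bar_mul hy hg]
      exact bar_congr _ _ (hc y ⟨hy, hyp⟩).eq
    rw [← hxq, ← mul_smul, h1, mul_smul, ← hmq, ← mul_smul, (T.comm _ hx _ hm).eq, mul_smul]
  obtain ⟨x, hx, hxp, hxm⟩ := D.exists_lift ht hL T hm
  refine ⟨x, ⟨hx, hxp⟩, ?_⟩
  rcases D.bar_kernel ht hL (hx.inv_left.mul_left hg)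
    (by rw [bar_mul hx.inv_left hg, bar_inv hx, hxm, e, inv_mul_cancel]) with h | h
  · exact Or.inl (inv_mul_eq_one.1 h).symm
  · exact Or.inr (by rw [← h, mul_inv_cancel_left])

/-- The translations centralised by `s` correspond to its fixed points. -/
theorem card_lift_inf [Finite G] [Finite Ω] (ht : InvH a b t) (hL : ¬ Lin G a b)
    (T : Trans Ω t p M) {s : G} (hs : InvH a b s) :
    Nat.card ↥(D.lift ht hL T ⊓ Subgroup.centralizer ({s} : Set G)) =
      fx (W Ω t) (bar (D.commute_invH hs ht) : ↥(X Ω t)) := by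
  set sb : ↥(X Ω t) := bar (D.commute_invH hs ht)
  have hsa : sb • pa ht = pa ht := Subtype.ext hs.2.2.1
  let F : ↥(D.lift ht hL T ⊓ Subgroup.centralizer ({s} : Set G)) → {q : W Ω t // sb • q = q} :=
    fun g => ⟨(bar g.2.1.1 : ↥(X Ω t)) • pa ht, by
      have h1 : Commute (g : G) s := Subgroup.mem_centralizer_singleton_iff.1 g.2.2
      refine Subtype.ext ?_
      show s • (g : G) • a = (g : G) • a
      rw [← mul_smul, ← h1.eq, mul_smul, hs.2.2.1]⟩
  refine Nat.card_eq_of_bijective F ⟨fun g h e => ?_, fun q => ?_⟩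
  · refine Subtype.ext (D.lift_inj ht hL T g.2.1.1 g.2.1.2 h.2.1.1 h.2.1.2 ?_)
    exact (T.regular (pa ht) _).unique ⟨D.bar_mem ht hL T g.2.1.1 g.2.1.2, rfl⟩
      ⟨D.bar_mem ht hL T h.2.1.1 h.2.1.2, (congrArg Subtype.val e).symm⟩
  · obtain ⟨m, ⟨hm, hmq⟩, -⟩ := T.regular (pa ht) q.1
    obtain ⟨g, hg, hgp, hgm⟩ := D.exists_lift ht hL T hm
    have hst := D.commute_invH hs ht
    have hc : Commute (s * g * s⁻¹) t := (hst.mul_left hg).mul_left hst.inv_left
    have hcp : (s * g * s⁻¹) ^ p = 1 := by rw [conj_pow, hgp, mul_one, mul_inv_cancel]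
    have e : s * g * s⁻¹ = g := by
      refine D.lift_inj ht hL T hc hcp hg hgp ?_
      refine (T.regular (pa ht) q.1).unique ⟨D.bar_mem ht hL T hc hcp, ?_⟩
        ⟨D.bar_mem ht hL T hg hgp, hgm ▸ hmq⟩
      rw [bar_mul (hst.mul_left hg) hst.inv_left, bar_mul hst hg, bar_inv hst, mul_smul, mul_smul,
        inv_smul_eq_iff.2 hsa.symm, hgm, hmq, q.2]
    exact ⟨⟨g, ⟨hg, hgp⟩, Subgroup.mem_centralizer_singleton_iff.2 (mul_inv_eq_iff_eq_mul.1 e).symm⟩,
      Subtype.ext ((congrArg (fun x : ↥(X Ω t) => x • pa ht) hgm).trans hmq)⟩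

end Data

end Cfsg.Agent.Lib.TwoTransA4
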