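import Cfsg.Agent.Lib.TwoTransA4.InvImage
import Cfsg.Agent.Lib.TwoTransA4.OddThree
import Cfsg.Agent.Lib.Cores.MinNormal
import Cfsg.Agent.Lib.Perm.Burnside
import Cfsg.Agent.S0205

/-!
# Six swapping class members, twisted: the induced group has a regular normal subgroup
-/

set_option autoImplicit false
set_option linter.unusedSectionVars false

namespace Cfsg.Agent.Lib.TwoTransA4

open MulAction
open Cfsg.Agent.Lib.ConstFix25 (fx mul_self_of_orderOf ne_one_of_orderOf orderOf_conj)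

variable {G Ω : Type*} [Group G] [MulAction G Ω]

/-- The translations among the permutations induced by the centraliser of `t`. -/
structure Trans (Ω : Type*) {G : Type*} [Group G] [MulAction G Ω] (t : G) (p : ℕ)
    (M : Subgroup ↥(X Ω t)) : Prop where
  prime : p.Prime
  odd : Odd p
  deg : ∃ m : ℕ, 0 < m ∧ fx Ω t = p ^ m
  normal : M.Normal
  exp : ∀ x ∈ M, x ^ p = 1
  comm : ∀ x ∈ M, ∀ y ∈ M, Commute x y
  regular : ∀ q r : W Ω t, ∃! x : ↥(X Ω t), x ∈ M ∧ x • q = r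

namespace Data

variable {a b : Ω} (D : Data G Ω a b)
include D

theorem exists_trans [Finite G] [Finite Ω] {t : G} (ht : InvH a b t) (hS : CaseS G a b)
    (hodd : Odd (fx Ω t)) (hL : ¬ Lin G a b) :
    ∃ (p : ℕ) (M : Subgroup ↥(X Ω t)), Trans Ω t p M := by
  classical
  haveI : Fact (Nat.Prime 2) := ⟨Nat.prime_two⟩
  obtain ⟨s, hs, hst⟩ := D.exists_invol_ne ht
  have BX := D.baseX ht hL hs hst
  set sb : ↥(X Ω t) := bar (D.commute_invH hs ht)
  have hc1 := D.swapNum_X_six ht hL hs hst hS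
  have h2 : Nat.card {u : ↥(X Ω t) // u • pa ht = pb ht ∧ u • pb ht = pa ht} = 2 := by
    rw [D.card_swappers ht, D.card_stab_X ht hL hs hst]
  obtain ⟨⟨x, hxa, hxb⟩, hxn⟩ : ∃ u : {u : ↥(X Ω t) // u • pa ht = pb ht ∧ u • pb ht = pa ht},
      ¬ IsConj sb u.1 := by
    by_contra! h
    have hle := Nat.card_le_card_of_injective
      (fun u : {u : ↥(X Ω t) // u • pa ht = pb ht ∧ u • pb ht = pa ht} =>
        (⟨u.1, h u, u.2.1⟩ : {u : ↥(X Ω t) // IsConj sb u ∧ u • pa ht = pb ht}))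
      (fun u v e => Subtype.ext (congrArg
        (fun w : {u : ↥(X Ω t) // IsConj sb u ∧ u • pa ht = pb ht} => w.1) e))
    rw [h2, show Nat.card {u : ↥(X Ω t) // IsConj sb u ∧ u • pa ht = pb ht} = 1 from hc1] at hle
    omega
  replace hxn : ¬ IsConj sb x := hxn
  have hxo : orderOf x = 2 := orderOf_eq_two (D.swapX_sq ht hxa hxb) fun e =>
    D.pa_ne_pb ht (by rw [← hxa, e, one_smul])
  have hiso : Cfsg.IsIsolatedInvolution x := by
    refine ⟨hxo, fun g hg => (BX.outside_eq hodd hc1 (fun u hua hub => D.swapX_sq ht hua hub) h2 hxo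
      hxn ((orderOf_conj g x).trans hxo) (fun h => hxn ?_) hg).symm⟩
    exact h.trans (isConj_iff.2 ⟨g, rfl⟩).symm
  have htop := sup_eq_top_of_isolated hiso
  haveI hnt : Nontrivial (W Ω t) := ⟨⟨pa ht, pb ht, D.pa_ne_pb ht⟩⟩
  haveI := pretransitive (D.two_X ht)
  have hO : Cfsg.oddCore ↥(X Ω t) ≠ ⊥ := by
    intro hbot
    rw [hbot, sup_bot_eq] at htop
    have hfx : fx (W Ω t) x = 1 := by
      have hle : fx (W Ω t) x ≤ 1 := by
        by_contra h
        exact hxn (BX.mem_class_iff.2 ⟨hxo, by omega⟩)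
      by_contra h1
      have hev := even_moved (Ω := W Ω t) hxo
      rw [show fx (W Ω t) x = 0 by omega, Nat.sub_zero] at hev
      exact Nat.not_even_iff_odd.2 hodd hev
    obtain ⟨⟨q, hq⟩, huniq⟩ := Nat.card_eq_one_iff_exists.1 hfx
    have hall' : ∀ r : W Ω t, r = q := fun r => by
      obtain ⟨g, rfl⟩ := exists_smul_eq ↥(X Ω t) q r
      refine congrArg Subtype.val (huniq ⟨g • q, ?_⟩)
      have hg : g * x = x * g :=
        Subgroup.mem_centralizer_singleton_iff.1 (htop ▸ Subgroup.mem_top g)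
      rw [← mul_smul, ← hg, mul_smul, hq]
    exact D.pa_ne_pb ht ((hall' _).trans (hall' _).symm)
  obtain ⟨M, hMn, hMO, hM, hmin⟩ := Cores.MinNormal.exists_minimal_le (K := Cfsg.oddCore ↥(X Ω t)) hO
  haveI := hMn
  have hModd : Odd (Nat.card M) := Cores.oddCore_odd.of_dvd_nat (Subgroup.card_dvd_of_le hMO)
  haveI := Cfsg.Agent.S0205.result (G := ↥M) hModd
  haveI hMc := Cores.MinNormal.isMulCommutative_of_solvable hM hmin
  obtain ⟨p, hp, hexp⟩ := Cores.MinNormal.exists_prime_pow_eq_one hM hmin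
  haveI := isPreprimitive_of_is_two_pretransitive (D.two_X ht)
  haveI : IsPretransitive ↥M (W Ω t) := Perm.Basic.isPretransitive_of_normal_ne_bot M hM
  have hcomm : ∀ y ∈ M, ∀ z ∈ M, Commute y z := fun y hy z hz =>
    congrArg Subtype.val (mul_comm' (⟨y, hy⟩ : ↥M) ⟨z, hz⟩)
  have hfree : ∀ y ∈ M, ∀ q : W Ω t, y • q = q → y = 1 := by
    intro y hy q hq
    refine eq_of_smul_eq_smul fun r : W Ω t => ?_
    obtain ⟨⟨z, hz⟩, hzr⟩ := exists_smul_eq ↥M q r
    rw [one_smul, ← hzr]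
    show y • z • q = z • q
    rw [← mul_smul, (hcomm y hy z hz).eq, mul_smul, hq]
  have hreg : stabilizer ↥M (pa ht) = ⊥ := by
    refine (Subgroup.eq_bot_iff_forall _).2 fun y hy => Subtype.ext ?_
    exact hfree _ y.2 _ hy
  have hcardM : Nat.card M = fx Ω t := Perm.Basic.card_eq_of_regular (pa ht) hreg
  haveI := Fact.mk hp
  obtain ⟨m, hm⟩ := IsPGroup.iff_card.1 (show IsPGroup p ↥M from fun y =>
    ⟨1, Subtype.ext (by rw [pow_one]; exact hexp y y.2)⟩)
  have hf2 := (D.base ht).two_le_fix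
  have hm0 : 0 < m := by
    rcases Nat.eq_zero_or_pos m with rfl | h
    · rw [pow_zero, hcardM] at hm; omega
    · exact h
  refine ⟨p, M, hp, (hm ▸ hModd).of_dvd_nat (dvd_pow_self p hm0.ne'), ⟨m, hm0, hcardM ▸ hm⟩, hMn,
    hexp, hcomm, fun q r => ?_⟩
  obtain ⟨⟨z, hz⟩, hzr⟩ := exists_smul_eq ↥M q r
  refine ⟨z, ⟨hz, hzr⟩, ?_⟩
  rintro y ⟨hy, hyr⟩
  have h1 := hfree (z⁻¹ * y) (mul_mem (inv_mem hz) hy) q (by
    rw [mul_smul, hyr, inv_smul_eq_iff]; exact hzr.symm)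
  exact (inv_mul_eq_one.1 h1).symm

end Data

end Cfsg.Agent.Lib.TwoTransA4
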