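import Cfsg.Agent.Lib.TwoTransA4.Alt4

/-!
# The stabiliser of a pair as a set: `A₄ × 2` or `S₄`
-/

set_option autoImplicit false
set_option linter.unusedSectionVars false

namespace Cfsg.Agent.Lib.TwoTransA4

open MulAction
open Cfsg.Agent.Lib.ConstFix25 (fx two_apply orderOf_conj mul_self_of_orderOf ne_one_of_orderOf)

variable {G Ω : Type*} [Group G] [MulAction G Ω]

/-- An involution swapping the pair. -/
def Sw (a b : Ω) (g : G) : Prop := g * g = 1 ∧ g • a = b

/-- `A₄ × 2`: a swapping involution centralising the pair stabiliser. -/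
def CaseA (a b : Ω) (j : G) : Prop :=
  Sw a b j ∧ ∀ h : G, h • a = a → h • b = b → Commute j h

/-- `S₄`: no swapping element centralises the four group, six swapping involutions, one class. -/
structure CaseS (G : Type*) [Group G] [MulAction G Ω] (a b : Ω) : Prop where
  exists_sw : ∀ t : G, InvH a b t → ∃ w : G, Sw a b w ∧ Commute w t ∧
    ∀ s : G, InvH a b s → s ≠ t → w * s * w⁻¹ = s * t
  conj : ∀ u v : G, Sw a b u → Sw a b v → IsConj u v
  card : Nat.card {u : G // Sw a b u} = 6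

theorem Sw.swap {a b : Ω} {g : G} (h : Sw a b g) : g • b = a := by
  rw [← h.2, ← mul_smul, h.1, one_smul]

theorem Sw.ne_one {a b : Ω} {g : G} (h : Sw a b g) (hab : a ≠ b) : g ≠ 1 := fun e => hab (by
  rw [← h.2, e, one_smul])

theorem Sw.orderOf {a b : Ω} {g : G} (h : Sw a b g) (hab : a ≠ b) : orderOf g = 2 :=
  orderOf_eq_two h.1 (h.ne_one hab)

theorem conj_fix {a b : Ω} {w h : G} (hwa : w • a = b) (hwb : w • b = a) (hha : h • a = a)
    (hhb : h • b = b) : (w * h * w⁻¹) • a = a ∧ (w * h * w⁻¹) • b = b :=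
  ⟨by rw [← hwb, conj_smul_smul, hhb], by rw [← hwa, conj_smul_smul, hha]⟩

theorem InvH.conj_swap {a b : Ω} {w t : G} (ht : InvH a b t) (hwa : w • a = b) (hwb : w • b = a) :
    InvH a b (w * t * w⁻¹) :=
  ⟨by rw [show w * t * w⁻¹ * (w * t * w⁻¹) = w * (t * t) * w⁻¹ by group, ht.1]; group,
    fun h => ht.2.1 (conj_eq_one_iff.1 h), (conj_fix hwa hwb ht.2.2.1 ht.2.2.2).1,
    (conj_fix hwa hwb ht.2.2.1 ht.2.2.2).2⟩

namespace Data

variable {a b : Ω} (D : Data G Ω a b)
include D

theorem exists_swapper {t : G} (ht : InvH a b t) :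
    ∃ w : G, w • a = b ∧ w • b = a ∧ Commute w t := by
  obtain ⟨g, hga, hgb⟩ := two_apply D.two D.ne D.ne.symm
  obtain ⟨k, hka, hkb, hk⟩ := D.conj ht (ht.conj_swap hga hgb)
  have hia : k⁻¹ • a = a := by rw [inv_smul_eq_iff, hka]
  have hib : k⁻¹ • b = b := by rw [inv_smul_eq_iff, hkb]
  refine ⟨k⁻¹ * g, by rw [mul_smul, hga, hib], by rw [mul_smul, hgb, hia], ?_⟩
  show k⁻¹ * g * t = t * (k⁻¹ * g)
  calc k⁻¹ * g * t = k⁻¹ * (g * t * g⁻¹) * g := by group
    _ = t * (k⁻¹ * g) := by rw [← hk]; group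

/-- A swapper centralising the four group gives `A₄ × 2`. -/
theorem caseA_of_centralises [Finite G] {w : G} (hwa : w • a = b) (hwb : w • b = a)
    (hw : ∀ v : G, InvH a b v → Commute w v) : ∃ j : G, CaseA a b j := by
  classical
  obtain ⟨y, hya, hyb, hy⟩ := D.exists_three
  obtain ⟨t, ht⟩ := D.exists_invol
  have hwV : ∀ v : G, v • a = a → v • b = b → v * v = 1 → Commute w v := fun v hva hvb hv => by
    rcases eq_or_ne v 1 with rfl | h1
    · exact Commute.one_right w
    · exact hw v ⟨hv, h1, hva, hvb⟩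
  have hyi : y⁻¹ • a = a ∧ y⁻¹ • b = b :=
    ⟨by rw [inv_smul_eq_iff, hya], by rw [inv_smul_eq_iff, hyb]⟩
  set k := w⁻¹ * (y * w * y⁻¹) with hk
  have hka : k • a = a := by
    rw [hk, mul_smul, mul_smul, hyi.1, mul_smul, hwa, hyb, ← hwa, inv_smul_smul]
  have hkb : k • b = b := by
    rw [hk, mul_smul, mul_smul, hyi.2, mul_smul, hwb, hya, ← hwb, inv_smul_smul]
  have hkV : ∀ v : G, InvH a b v → Commute k v := by
    intro v hv
    have hv' : InvH a b (y⁻¹ * v * y⁻¹⁻¹) := by
      refine ⟨?_, fun h => hv.2.1 (conj_eq_one_iff.1 h), ?_, ?_⟩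
      · rw [show y⁻¹ * v * y⁻¹⁻¹ * (y⁻¹ * v * y⁻¹⁻¹) = y⁻¹ * (v * v) * y by group, hv.1]
        group
      · rw [inv_inv, mul_smul, mul_smul, hya, hv.2.2.1, hyi.1]
      · rw [inv_inv, mul_smul, mul_smul, hyb, hv.2.2.2, hyi.2]
    have h1 : Commute (y * w * y⁻¹) v := by
      have h := (hw _ hv').eq
      show y * w * y⁻¹ * v = v * (y * w * y⁻¹)
      calc y * w * y⁻¹ * v = y * (w * (y⁻¹ * v * y⁻¹⁻¹)) * y⁻¹ := by group
        _ = v * (y * w * y⁻¹) := by rw [h]; group
    exact (hw v hv).inv_left.mul_left h1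
  have hk2 : k * k = 1 := D.sq_one_of_commute ht hka hkb (hkV t ht)
  -- solve `v (y v y⁻¹) = k` in the four group
  let V := {v : G // v • a = a ∧ v • b = b ∧ v * v = 1}
  have hconjV : ∀ v : V, (y * v.1 * y⁻¹) • a = a ∧ (y * v.1 * y⁻¹) • b = b ∧
      y * v.1 * y⁻¹ * (y * v.1 * y⁻¹) = 1 := fun v =>
    ⟨by rw [mul_smul, mul_smul, hyi.1, v.2.1, hya], by rw [mul_smul, mul_smul, hyi.2, v.2.2.1, hyb],
      by rw [show y * v.1 * y⁻¹ * (y * v.1 * y⁻¹) = y * (v.1 * v.1) * y⁻¹ by group, v.2.2.2]; group⟩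
  have hmulV : ∀ v v' : V, (v.1 * v'.1) • a = a ∧ (v.1 * v'.1) • b = b ∧
      v.1 * v'.1 * (v.1 * v'.1) = 1 := fun v v' =>
    ⟨by rw [mul_smul, v'.2.1, v.2.1], by rw [mul_smul, v'.2.2.1, v.2.2.1], by
      calc v.1 * v'.1 * (v.1 * v'.1) = v.1 * (v'.1 * v.1) * v'.1 := by group
        _ = 1 := by
          rw [← D.comm v.2.1 v.2.2.1 v'.2.1 v'.2.2.1 v.2.2.2 v'.2.2.2, ← mul_assoc, v.2.2.2,
            one_mul, v'.2.2.2]⟩
  let ψ : V → V := fun v => ⟨_, hmulV v ⟨_, hconjV v⟩⟩
  have hψ : Function.Injective ψ := by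
    intro v v' h
    have he : v.1 * (y * v.1 * y⁻¹) = v'.1 * (y * v'.1 * y⁻¹) := congrArg Subtype.val h
    -- `d = v v'` is fixed by `y`
    set d : V := ⟨_, hmulV v' v⟩
    have hd : d.1 = y * d.1 * y⁻¹ := by
      show v'.1 * v.1 = y * (v'.1 * v.1) * y⁻¹
      have hvi := inv_eq_self v.2.2.2
      have hv'i := inv_eq_self v'.2.2.2
      have hc := D.comm v.2.1 v.2.2.1 v'.2.1 v'.2.2.1 v.2.2.2 v'.2.2.2
      have hA := D.comm (hconjV v).1 (hconjV v).2.1 (hconjV v').1 (hconjV v').2.1 (hconjV v).2.2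
        (hconjV v').2.2
      calc v'.1 * v.1 = v'.1⁻¹ * v.1 := by rw [hv'i]
        _ = y * v'.1 * y⁻¹ * (y * v.1 * y⁻¹)⁻¹ := by
          rw [eq_mul_inv_iff_mul_eq, mul_assoc, inv_mul_eq_iff_eq_mul, he]
        _ = y * v'.1 * y⁻¹ * (y * v.1 * y⁻¹) := by rw [inv_eq_self (hconjV v).2.2]
        _ = y * (v'.1 * v.1) * y⁻¹ := by group
    have hd1 : d.1 = 1 := by
      by_contra h1
      refine hy (D.sq_one_of_commute ⟨d.2.2.2, h1, d.2.1, d.2.2.1⟩ hya hyb ?_)
      exact (eq_mul_inv_iff_mul_eq.1 hd).symm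
    exact Subtype.ext (by
      rw [eq_inv_of_mul_eq_one_right (show v'.1 * v.1 = 1 from hd1), inv_eq_self v'.2.2.2])
  obtain ⟨v, hv⟩ := (Finite.injective_iff_surjective.1 hψ) ⟨k, hka, hkb, hk2⟩
  have hv' : v.1 * (y * v.1 * y⁻¹) = k := congrArg Subtype.val hv
  set j := w * v.1 with hj
  have hjy : Commute j y := by
    show j * y = y * j
    have hkj : y * j * y⁻¹ = j := by
      calc y * j * y⁻¹ = (y * w * y⁻¹) * (y * v.1 * y⁻¹) := by rw [hj]; group
        _ = w * (k * (y * v.1 * y⁻¹)) := by rw [hk]; group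
        _ = j := by rw [← hv', mul_assoc v.1, (hconjV v).2.2, mul_one]
    calc j * y = (y * j * y⁻¹) * y := by rw [hkj]
      _ = y * j := by group
  have hjV : ∀ u : G, u • a = a → u • b = b → u * u = 1 → Commute j u := fun u hua hub hu =>
    (hwV u hua hub hu).mul_left (D.comm v.2.1 v.2.2.1 hua hub v.2.2.2 hu)
  have hjH : ∀ h : G, h • a = a → h • b = b → Commute j h := by
    intro h hha hhb
    obtain ⟨u, hua, hub, hu, rfl | rfl | rfl⟩ := D.coset hya hyb hy hha hhb
    · exact hjV _ hua hub hu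
    · exact (hjV _ hua hub hu).mul_right hjy
    · exact (hjV _ hua hub hu).mul_right (hjy.mul_right hjy)
  have hja : j • a = b := by rw [hj, mul_smul, v.2.1, hwa]
  have hjb : j • b = a := by rw [hj, mul_smul, v.2.2.1, hwb]
  refine ⟨j, ⟨?_, hja⟩, hjH⟩
  have hja2 : (j * j) • a = a := by rw [mul_smul, hja, hjb]
  have hjb2 : (j * j) • b = b := by rw [mul_smul, hjb, hja]
  have hjj : (j * j) * (j * j) = 1 := D.sq_one_of_commute ht hja2 hjb2
    ((hjV t ht.2.2.1 ht.2.2.2 ht.1).mul_left (hjV t ht.2.2.1 ht.2.2.2 ht.1))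
  by_contra h1
  exact hy (D.sq_one_of_commute ⟨hjj, h1, hja2, hjb2⟩ hya hyb (hjy.mul_left hjy).symm)

theorem dichotomy [Finite G] : (∃ j : G, CaseA a b j) ∨ CaseS G a b := by
  classical
  by_cases hA : ∃ j : G, CaseA a b j
  · exact Or.inl hA
  refine Or.inr ?_
  have hswap : ∀ t : G, InvH a b t → ∃ w : G, Sw a b w ∧ Commute w t ∧
      ∀ s : G, InvH a b s → s ≠ t → w * s * w⁻¹ = s * t := by
    intro t ht
    obtain ⟨w, hwa, hwb, hwt⟩ := D.exists_swapper ht
    have hact : ∀ s : G, InvH a b s → s ≠ t → w * s * w⁻¹ = s ∨ w * s * w⁻¹ = s * t := by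
      intro s hs hne
      have hs' := hs.conj_swap hwa hwb
      rcases D.four hs ht hne hs'.2.2.1 hs'.2.2.2 hs'.1 with h | h | h | h
      · exact absurd h hs'.2.1
      · exact Or.inl h
      · refine absurd ?_ hne
        calc s = w⁻¹ * (w * s * w⁻¹) * w := by group
          _ = t := by rw [h, mul_assoc, ← hwt.eq]; group
      · exact Or.inr h
    have hall : ∀ s : G, InvH a b s → s ≠ t → w * s * w⁻¹ = s * t := by
      intro s hs hne
      rcases hact s hs hne with h | h
      · refine absurd (D.caseA_of_centralises hwa hwb fun v hv => ?_) hA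
        have hws : Commute w s := mul_inv_eq_iff_eq_mul.1 h
        rcases D.four hs ht hne hv.2.2.1 hv.2.2.2 hv.1 with rfl | rfl | rfl | rfl
        · exact Commute.one_right w
        · exact hws
        · exact hwt
        · exact hws.mul_right hwt
      · exact h
    have hwwa : (w * w) • a = a := by rw [mul_smul, hwa, hwb]
    have hwwb : (w * w) • b = b := by rw [mul_smul, hwb, hwa]
    have hww2 := D.sq_one_of_commute ht hwwa hwwb (hwt.mul_left hwt)
    by_cases hww : w * w = 1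
    · exact ⟨w, ⟨hww, hwa⟩, hwt, hall⟩
    have hwwt : w * w = t := by
      by_contra hne
      have h := hall (w * w) ⟨hww2, hww, hwwa, hwwb⟩ hne
      rw [show w * (w * w) * w⁻¹ = w * w by group] at h
      exact ht.2.1 (mul_left_cancel (h.symm.trans (mul_one _).symm))
    obtain ⟨s, hs, hst⟩ := D.exists_invol_ne ht
    have hst' := D.commute_invH hs ht
    have h3 : w⁻¹ * s * w = s * t := by
      calc w⁻¹ * s * w = w⁻¹ * ((s * t) * t) * w := by rw [mul_assoc s, ht.1, mul_one]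
        _ = w⁻¹ * (w * s * w⁻¹ * t) * w := by rw [hall s hs hst]
        _ = s * (w⁻¹ * (t * w)) := by group
        _ = s * t := by rw [← hwt.eq]; group
    refine ⟨w * s, ⟨?_, by rw [mul_smul, hs.2.2.1, hwa]⟩, hwt.mul_left hst', ?_⟩
    · calc w * s * (w * s) = w * w * (w⁻¹ * s * w) * s := by group
        _ = t * (s * t) * s := by rw [h3, hwwt]
        _ = t * t * (s * s) := by rw [hst'.eq]; group
        _ = 1 := by rw [ht.1, hs.1, one_mul]
    · intro s' hs' hne
      calc w * s * s' * (w * s)⁻¹ = w * (s * s') * s⁻¹ * w⁻¹ := by group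
        _ = w * s' * w⁻¹ := by rw [(D.commute_invH hs hs').eq]; group
        _ = s' * t := hall s' hs' hne
  obtain ⟨t, ht⟩ := D.exists_invol
  obtain ⟨w, hw, hwt, hws⟩ := hswap t ht
  obtain ⟨s, hs, hst⟩ := D.exists_invol_ne ht
  have hwi : w⁻¹ = w := inv_eq_self hw.1
  -- every swapping involution is a conjugate of `w` under the pair stabiliser
  have hconj : ∀ u : G, Sw a b u →
      ∃ h : G, h • a = a ∧ h • b = b ∧ h * w * h⁻¹ = u := by
    intro u hu
    have hui : u⁻¹ = u := inv_eq_self hu.1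
    obtain ⟨v, hv, hvu⟩ : ∃ v : G, InvH a b v ∧ Commute u v := by
      have ht' := ht.conj_swap hu.2 hu.swap
      by_cases he : u * t * u⁻¹ = t
      · exact ⟨t, ht, mul_inv_eq_iff_eq_mul.1 he⟩
      refine ⟨t * (u * t * u⁻¹), D.mul_invH ht ht' (Ne.symm he), ?_⟩
      have hc := (D.commute_invH ht ht').eq
      rw [hui] at hc ⊢
      show u * (t * (u * t * u)) = t * (u * t * u) * u
      calc u * (t * (u * t * u)) = u * ((u * t * u) * t) := by rw [hc]
        _ = (u * u) * t * u * t := by group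
        _ = t * u * t := by rw [hu.1, one_mul]
        _ = t * (u * t) * (u * u) := by rw [hu.1, mul_one, mul_assoc]
        _ = _ := by group
    obtain ⟨h, hha, hhb, hh⟩ := D.conj ht hv
    have hia : h⁻¹ • a = a := by rw [inv_smul_eq_iff, hha]
    have hib : h⁻¹ • b = b := by rw [inv_smul_eq_iff, hhb]
    set u' := h⁻¹ * u * h with hu'
    have hu'a : u' • a = b := by rw [hu', mul_smul, mul_smul, hha, hu.2, hib]
    have hu'2 : u' * u' = 1 := by
      rw [hu', show h⁻¹ * u * h * (h⁻¹ * u * h) = h⁻¹ * (u * u) * h by group, hu.1]; group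
    have hu't : Commute u' t := by
      have e := hvu.eq
      rw [← hh] at e
      show h⁻¹ * u * h * t = t * (h⁻¹ * u * h)
      calc h⁻¹ * u * h * t = h⁻¹ * (u * (h * t * h⁻¹)) * h := by group
        _ = t * (h⁻¹ * u * h) := by rw [e]; group
    set k := w * u' with hk
    have hka : k • a = a := by rw [hk, mul_smul, hu'a, hw.swap]
    have hkb : k • b = b := by
      rw [hk, mul_smul, ← hu'a, ← mul_smul u', hu'2, one_smul, hw.2, hu'a]
    have hk2 : k * k = 1 := D.sq_one_of_commute ht hka hkb (hwt.mul_left hu't)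
    have hu'k : u' = w * k := by rw [hk, ← mul_assoc, hw.1, one_mul]
    have hkw : w * k * w⁻¹ = k := by
      have e : w * k * (w * k) = 1 := by rw [← hu'k]; exact hu'2
      calc w * k * w⁻¹ = w * k * w := by rw [hwi]
        _ = w * k * (w * k) * k⁻¹ := by group
        _ = k := by rw [e, one_mul, inv_eq_self hk2]
    have hkt : k = 1 ∨ k = t := by
      by_contra hne
      push_neg at hne
      have h' := hws k ⟨hk2, hne.1, hka, hkb⟩ hne.2
      rw [hkw] at h'
      exact ht.2.1 (mul_left_cancel (h'.symm.trans (mul_one k).symm))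
    rcases hkt with h1 | h1
    · refine ⟨h, hha, hhb, ?_⟩
      rw [show w = u' by rw [hu'k, h1, mul_one], hu']; group
    · refine ⟨h * s, by rw [mul_smul, hs.2.2.1, hha], by rw [mul_smul, hs.2.2.2, hhb], ?_⟩
      have hsw : s * w * s⁻¹ = w * t := by
        calc s * w * s⁻¹ = w * (w⁻¹ * s * w) * s⁻¹ := by group
          _ = w * (w * s * w⁻¹) * s⁻¹ := by rw [hwi]
          _ = w * (t * s) * s⁻¹ := by rw [hws s hs hst, (D.commute_invH hs ht).eq]
          _ = w * t := by group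
      calc h * s * w * (h * s)⁻¹ = h * (s * w * s⁻¹) * h⁻¹ := by group
        _ = h * u' * h⁻¹ := by rw [hsw, hu'k, h1]
        _ = u := by rw [hu']; group
  refine ⟨hswap, fun u v hu hv => ?_, ?_⟩
  · obtain ⟨g, -, -, rfl⟩ := hconj u hu
    obtain ⟨g', -, -, rfl⟩ := hconj v hv
    exact (isConj_iff.2 ⟨g, rfl⟩).symm.trans (isConj_iff.2 ⟨g', rfl⟩)
  have := Fintype.ofFinite G
  set H := stabilizer G a ⊓ stabilizer G b
  have hHw : ∀ h : H, Sw a b ((h : G) * w * (h : G)⁻¹) := by
    intro h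
    refine ⟨?_, ?_⟩
    · rw [show (h : G) * w * (h : G)⁻¹ * (h * w * (h : G)⁻¹) = h * (w * w) * (h : G)⁻¹ by group,
        hw.1]
      group
    have ha : (h : G)⁻¹ • a = a := by rw [inv_smul_eq_iff]; exact h.2.1.symm
    · rw [mul_smul, ha, mul_smul, hw.2]
      exact h.2.2
  let F : H → {u : G // Sw a b u} := fun h => ⟨_, hHw h⟩
  have hcomm : ∀ k : H, Commute (k : G) w ↔ (k : G) = 1 ∨ (k : G) = t := by
    intro k
    refine ⟨fun hc => ?_, ?_⟩
    · have hkt : InvH a b ((k : G) * t * (k : G)⁻¹) := by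
        refine ⟨?_, fun h => ht.2.1 (conj_eq_one_iff.1 h), ?_, ?_⟩
        · rw [show (k : G) * t * (k : G)⁻¹ * (k * t * (k : G)⁻¹) = k * (t * t) * (k : G)⁻¹ by group,
            ht.1]
          group
        · rw [mul_smul, mul_smul, show (k : G)⁻¹ • a = a by rw [inv_smul_eq_iff]; exact k.2.1.symm,
            ht.2.2.1]
          exact k.2.1
        · rw [mul_smul, mul_smul, show (k : G)⁻¹ • b = b by rw [inv_smul_eq_iff]; exact k.2.2.symm,
            ht.2.2.2]
          exact k.2.2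
      have h1 : (k : G) * t * (k : G)⁻¹ = t := by
        by_contra hne
        have h2 := hws _ hkt hne
        have h3 : w * (k * t * (k : G)⁻¹) * w⁻¹ = k * t * (k : G)⁻¹ := by
          calc w * (k * t * (k : G)⁻¹) * w⁻¹ = (w * k) * t * (w * k)⁻¹ := by group
            _ = (k : G) * (w * t * w⁻¹) * (k : G)⁻¹ := by rw [← hc.eq]; group
            _ = k * t * (k : G)⁻¹ := by rw [mul_inv_eq_iff_eq_mul.2 hwt.eq]
        rw [h3] at h2
        exact ht.2.1 (mul_left_cancel (h2.symm.trans (mul_one _).symm))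
      have hk2 := D.sq_one_of_commute ht k.2.1 k.2.2 (mul_inv_eq_iff_eq_mul.1 h1)
      by_contra hne
      push_neg at hne
      have h2 := hws _ ⟨hk2, hne.1, k.2.1, k.2.2⟩ hne.2
      rw [← hc.eq, mul_inv_cancel_right] at h2
      exact ht.2.1 (mul_left_cancel (h2.symm.trans (mul_one _).symm))
    · rintro (h | h) <;> rw [h]
      · exact Commute.one_left w
      · exact hwt.symm
  have hfib : ∀ u : {u : G // Sw a b u}, Nat.card {h : H // F h = u} = 2 := by
    intro u
    obtain ⟨h, hha, hhb, hh⟩ := hconj u u.2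
    let tH : H := ⟨t, ht.2.2.1, ht.2.2.2⟩
    let h0 : H := ⟨h, hha, hhb⟩
    have hset : {k : H | F k = u} = {h0, h0 * tH} := by
      ext k
      simp only [Set.mem_setOf_eq, Set.mem_insert_iff, Set.mem_singleton_iff]
      have h1 := hcomm (h0⁻¹ * k)
      simp only [Subgroup.coe_mul, Subgroup.coe_inv] at h1
      rw [Subtype.ext_iff]
      show (k : G) * w * (k : G)⁻¹ = (u : G) ↔ _
      rw [← hh]
      have hiff : (k : G) * w * (k : G)⁻¹ = h * w * h⁻¹ ↔ Commute (h⁻¹ * (k : G)) w := by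
        constructor
        · intro e
          calc h⁻¹ * (k : G) * w = h⁻¹ * ((k : G) * w * (k : G)⁻¹) * k := by group
            _ = w * (h⁻¹ * k) := by rw [e]; group
        · intro e
          calc (k : G) * w * (k : G)⁻¹ = h * (h⁻¹ * k * w) * (k : G)⁻¹ := by group
            _ = h * w * h⁻¹ := by rw [e.eq]; group
      rw [hiff]
      refine h1.trans ?_
      rw [inv_mul_eq_iff_eq_mul, inv_mul_eq_iff_eq_mul, mul_one, Subtype.ext_iff, Subtype.ext_iff,
        Subgroup.coe_mul]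
    rw [show Nat.card {h : H // F h = u} = Set.ncard {k : H | F k = u} from Nat.card_coe_set_eq _,
      hset, Set.ncard_pair]
    intro e
    exact ht.2.1 (congrArg Subtype.val (mul_left_cancel (e.symm.trans (mul_one h0).symm)))
  have hc := Nat.card_congr (Equiv.sigmaFiberEquiv F)
  rw [Nat.card_sigma, Finset.sum_congr rfl fun u _ => hfib u, Finset.sum_const, Finset.card_univ,
    smul_eq_mul, ← Nat.card_eq_fintype_card, show Nat.card H = 12 from D.card_H] at hc
  omega

end Data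

end Cfsg.Agent.Lib.TwoTransA4
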